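import Groth.Agent.SchDense58.Basic
import Groth.Agent.FDesc60.Topo2

/-! # Descent of ideal sheaves along faithfully flat quasi-compact morphisms -/

set_option autoImplicit false
universe u
open CategoryTheory CategoryTheory.Limits AlgebraicGeometry

namespace Sga84

/-- The kernel commutes with flat base change. -/
theorem ker_comap_of_flat {X S T : Scheme.{u}} (m : X ⟶ S) [QuasiCompact m] (g : T ⟶ S) [Flat g] :
    m.ker.comap g = (pullback.snd m g).ker := by
  let a : pullback m g ⟶ pullback m.imageι g :=
    pullback.map m g m.imageι g m.toImage (𝟙 _) (𝟙 _) (by simp) (by simp)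
  have ha2 : a ≫ pullback.snd m.imageι g = pullback.snd m g := by
    simp only [a, pullback.map, pullback.lift_snd, Category.comp_id]
  have hsq : IsPullback (pullback.fst m g) a m.toImage (pullback.fst m.imageι g) := by
    refine IsPullback.of_bot ?_ (by simp only [a, pullback.map, pullback.lift_fst]) (IsPullback.of_hasPullback m.imageι g)
    rw [ha2, Scheme.Hom.toImage_imageι]
    exact IsPullback.of_hasPullback m g
  have : IsSchemeTheoreticallyDominant a := .of_isPullback hsq
  rw [← ha2, Scheme.Hom.ker_comp, a.ker_eq_bot, Scheme.IdealSheafData.map_bot,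
    ← pullbackSymmetry_hom_comp_fst m.imageι g, Scheme.Hom.ker_comp_of_isIso,
    Scheme.IdealSheafData.ker_fst_of_isClosedImmersion, Scheme.IdealSheafData.ker_subschemeι]

theorem map_comap_of_flat_surjective {X Y : Scheme.{u}} (h : X ⟶ Y) [Flat h] [Surjective h]
    (J : Y.IdealSheafData) : (J.comap h).map h = J :=
  Groth.Agent.FDesc60.S4666 h <| le_antisymm (Scheme.IdealSheafData.comap_map_le _ _)
    (Scheme.IdealSheafData.comap_mono _ (Scheme.IdealSheafData.le_map_comap _ _))

theorem exists_comap_eq {S S' : Scheme.{u}} (g : S' ⟶ S) [Flat g] [Surjective g]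
    [QuasiCompact g] (J' : S'.IdealSheafData)
    (h : J'.comap (pullback.fst g g) = J'.comap (pullback.snd g g)) :
    ∃ J : S.IdealSheafData, J.comap g = J' := by
  refine ⟨(J'.subschemeι ≫ g).ker, ?_⟩
  rw [ker_comap_of_flat]
  let e := pullbackRightPullbackFstIso g g J'.subschemeι
  have he : (pullback.snd J'.subschemeι (pullback.fst g g)) ≫ pullback.snd g g =
      e.hom ≫ pullback.snd (J'.subschemeι ≫ g) g :=
    (pullbackRightPullbackFstIso_hom_snd g g J'.subschemeι).symm
  rw [← Scheme.Hom.ker_comp_of_isIso e.hom, ← he, Scheme.Hom.ker_comp,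
    ← pullbackSymmetry_hom_comp_fst J'.subschemeι (pullback.fst g g), Scheme.Hom.ker_comp_of_isIso,
    Scheme.IdealSheafData.ker_fst_of_isClosedImmersion, Scheme.IdealSheafData.ker_subschemeι, h,
    map_comap_of_flat_surjective]

end Sga84
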