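import Groth.Prelude.Def_NonAbH2
import Groth.Agent.Unr55.DescProps
import Mathlib.AlgebraicGeometry.Limits
import Mathlib.RingTheory.RingHom.Flat

/-! Properties of fpqc torsors descend from the group. -/

set_option autoImplicit false
universe u

open CategoryTheory Limits MorphismProperty MonoidalCategory CartesianMonoidalCategory AlgebraicGeometry
open scoped TensorProduct

namespace Groth.Agent.Sga84

theorem flat_descendsAlong : DescendsAlong @Flat Unr55.fpqc.{u} :=
  HasRingHomProperty.descendsAlong_flat (RingHom.CodescendsAlong.mk _ RingHom.Flat.respectsIso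
    fun R S T _ _ _ _ _ h hT => by
      rw [RingHom.faithfullyFlat_algebraMap_iff] at h
      rw [RingHom.flat_algebraMap_iff] at hT ⊢
      exact Module.Flat.of_flat_tensorProduct R T S)

variable {S : Scheme.{u}} {X : Over S}

theorem surjective_of_isLocallyTrivialFor
    (h : NonAbH1.IsLocallyTrivialFor Scheme.fpqcPrecoverage X) : Surjective X.hom := by
  obtain ⟨R, hR, hsec⟩ := h
  obtain ⟨𝒰, -, rfl⟩ := Scheme.mem_propQCPrecoverage_iff_exists_quasiCompactCover.mp hR
  refine ⟨fun x => ?_⟩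
  obtain ⟨y, hy⟩ := 𝒰.covers x
  obtain ⟨s, hs⟩ := hsec (𝒰.f (𝒰.idx x)) ⟨_⟩
  exact ⟨s y, by rw [← Scheme.Hom.comp_apply, hs]; exact hy⟩

/-- An fpqc-locally trivial scheme gets a section over an affine fpqc cover of each affine open. -/
theorem exists_affine_section (h : NonAbH1.IsLocallyTrivialFor Scheme.fpqcPrecoverage X)
    {U : S.Opens} (hU : IsAffineOpen U) :
    ∃ (W : Scheme.{u}) (_ : IsAffine W) (w : W ⟶ (U : Scheme.{u})),
      Unr55.fpqc w ∧ NonAbH1.HasSectionOver X (w ≫ U.ι) := by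
  obtain ⟨R, hR, hsec⟩ := h
  obtain ⟨𝒰, h𝒰, rfl⟩ := Scheme.mem_propQCPrecoverage_iff_exists_quasiCompactCover.mp hR
  obtain ⟨n, a, V, hV, heq⟩ := QuasiCompactCover.exists_isAffineOpen_of_isCompact
    𝒰.toPreZeroHypercover (U := U) hU.isCompact
  let g : ∀ i : ULift.{u} (Fin n), ((V i.down : Scheme.{u}) ⟶ S) := fun i => (V i.down).ι ≫ 𝒰.f (a i.down)
  have hg : ∀ i, Set.range (g i) ⊆ Set.range U.ι := by
    intro i
    rw [Scheme.Opens.range_ι, ← heq]
    rintro _ ⟨z, rfl⟩
    exact Set.mem_iUnion.mpr ⟨i.down, z.1, z.2, by simp [g]⟩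
  let w : (∐ fun i : ULift.{u} (Fin n) => (V i.down : Scheme.{u})) ⟶ U :=
    Sigma.desc fun i => IsOpenImmersion.lift U.ι (g i) (hg i)
  have : ∀ i : ULift.{u} (Fin n), IsAffine (V i.down : Scheme.{u}) := fun i => hV i.down
  have : IsAffine (U : Scheme.{u}) := hU
  have hflat : ∀ i : ULift.{u} (Fin n), Flat (IsOpenImmersion.lift U.ι (g i) (hg i)) := by
    intro i
    have : Flat (𝒰.f (a i.down)) := 𝒰.map_prop _
    have hcomp : Flat (IsOpenImmersion.lift U.ι (g i) (hg i) ≫ U.ι) := by
      rw [IsOpenImmersion.lift_fac]; infer_instance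
    exact MorphismProperty.of_postcomp (W := @Flat) (W' := @IsOpenImmersion) _ U.ι inferInstance hcomp
  choose t ht using fun i : ULift.{u} (Fin n) => hsec (𝒰.f (a i.down)) ⟨_⟩
  refine ⟨_, inferInstance, w, ⟨⟨⟨fun x => ?_⟩, IsZariskiLocalAtSource.sigmaDesc (P := @Flat) hflat⟩, inferInstance⟩,
    Sigma.desc fun i => (V i.down).ι ≫ t i, ?_⟩
  · have hx : U.ι x ∈ (U : Set S) := by simp
    rw [← heq, Set.mem_iUnion] at hx
    obtain ⟨i, z, hz, hzx⟩ := hx
    refine ⟨Sigma.ι (fun i : ULift.{u} (Fin n) => (V i.down : Scheme.{u})) ⟨i⟩ ⟨z, hz⟩, ?_⟩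
    refine U.ι.isOpenEmbedding.injective ?_
    rw [← Scheme.Hom.comp_apply, ← Scheme.Hom.comp_apply]
    simp only [w, Sigma.ι_desc_assoc, IsOpenImmersion.lift_fac]
    simpa [g] using hzx
  · refine Sigma.hom_ext _ _ fun i => ?_
    simp [w, g, ht i]

variable {G : Over S} [GrpObj G] {a : AlgGrp.Action G X}

theorem pullback_snd_of_hasSectionOver (P : MorphismProperty Scheme.{u}) [P.IsStableUnderBaseChange]
    (hG : P G.hom) (ha : NonAbH1.IsPseudoTorsorSch a) {T : Scheme.{u}} {f : T ⟶ S}
    (hs : NonAbH1.HasSectionOver X f) : P (pullback.snd X.hom f) := by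
  obtain ⟨s, rfl⟩ := hs
  have : IsIso (lift a.act (snd G X)) := ha
  have h1 : P (pullback.snd X.hom X.hom) := by
    have h0 : P (snd G X).left := MorphismProperty.pullback_snd (P := P) _ _ hG
    have hw : (lift a.act (snd G X)).left ≫ (snd X X).left = (snd G X).left := by
      rw [← Over.comp_left, lift_snd]
    have : IsIso (lift a.act (snd G X)).left := inferInstanceAs (IsIso ((Over.forget S).map (lift a.act (snd G X))))
    rw [← hw] at h0
    exact (P.cancel_left_of_respectsIso (lift a.act (snd G X)).left _).mp h0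
  have h2 := MorphismProperty.pullback_snd (P := P) (pullback.snd X.hom X.hom) s h1
  rwa [← P.cancel_left_of_respectsIso (pullbackLeftPullbackSndIso X.hom X.hom s).hom,
    pullbackLeftPullbackSndIso_hom_snd]

/-- A property of the group that descends along fpqc covers holds for its torsors. -/
theorem hom_of_isTorsorFor (P : MorphismProperty Scheme.{u}) [P.IsStableUnderBaseChange]
    [IsZariskiLocalAtTarget P] [P.DescendsAlong Unr55.fpqc.{u}]
    (hG : P G.hom) (h : NonAbH1.IsTorsorFor Scheme.fpqcPrecoverage a) : P X.hom := by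
  rw [IsZariskiLocalAtTarget.iff_of_openCover (P := P) S.affineCover]
  intro i
  obtain ⟨W, -, w, hw, hsec⟩ := exists_affine_section h.2
    (U := (S.affineCover.f i).opensRange) (isAffineOpen_opensRange _)
  let e := (S.affineCover.f i).isoOpensRange
  have hw' : Unr55.fpqc (w ≫ e.inv) := (Unr55.fpqc.cancel_right_of_respectsIso w e.inv).mpr hw
  refine MorphismProperty.of_pullback_fst_of_descendsAlong (P := P) (Q := Unr55.fpqc.{u}) hw' ?_
  rw [← pullbackSymmetry_hom_comp_snd, P.cancel_left_of_respectsIso]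
  change P (pullback.snd (pullback.snd X.hom (S.affineCover.f i)) (w ≫ e.inv))
  rw [
    ← P.cancel_left_of_respectsIso (pullbackLeftPullbackSndIso X.hom (S.affineCover.f i) (w ≫ e.inv)).inv,
    pullbackLeftPullbackSndIso_inv_snd_snd]
  have hf : (w ≫ e.inv) ≫ S.affineCover.f i = w ≫ (S.affineCover.f i).opensRange.ι := by
    simp [e]
  rw [← hf] at hsec
  exact pullback_snd_of_hasSectionOver P hG h.1 hsec

end Groth.Agent.Sga84
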