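import Mathlib.RingTheory.Finiteness.Descent
import Mathlib.RingTheory.Flat.FaithfullyFlat.Basic
import Mathlib.RingTheory.Flat.Equalizer
import Mathlib.RingTheory.Spectrum.Prime.Basic
import Mathlib.Algebra.Module.FinitePresentation

set_option autoImplicit false
universe u
open TensorProduct

namespace Groth.Agent.FFDesc84

variable {R : Type u} [CommRing R] {ι : Type u} [Finite ι] (T : ι → Type u)
  [∀ i, CommRing (T i)] [∀ i, Algebra R (T i)] [∀ i, Module.Flat R (T i)]
  (hT : ∀ p : PrimeSpectrum R, ∃ i, p ∈ Set.range (PrimeSpectrum.comap (algebraMap R (T i))))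

include hT

theorem subsingleton_of_forall (N : Type u) [AddCommGroup N] [Module R N]
    (h : ∀ i, Subsingleton (T i ⊗[R] N)) : Subsingleton N := by
  by_contra hN
  rw [not_subsingleton_iff_nontrivial] at hN
  obtain ⟨x, hx⟩ := exists_ne (0 : N)
  let φ := LinearMap.toSpanSingleton R N x
  have hI : LinearMap.ker φ ≠ (⊤ : Ideal R) := fun h' => hx (by
    have : (1 : R) ∈ LinearMap.ker φ := h' ▸ Submodule.mem_top
    simpa [φ] using this)
  obtain ⟨m, hm, hle⟩ := Ideal.exists_le_maximal _ hI
  obtain ⟨i, q, hq⟩ := hT ⟨m, hm.isPrime⟩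
  have hex := Module.Flat.lTensor_exact (T i) (f := (LinearMap.ker φ).subtype) (g := φ) (fun z => by
    simp)
  obtain ⟨z, hz⟩ := (hex (1 ⊗ₜ (1 : R))).mp (Subsingleton.elim _ _)
  have hrange : ∀ z, TensorProduct.rid R (T i) ((LinearMap.ker φ).subtype.lTensor (T i) z) ∈ q.asIdeal := by
    intro z
    induction z using TensorProduct.induction_on with
    | zero => simp
    | add a b ha hb => rw [map_add, map_add]; exact add_mem ha hb
    | tmul t r =>
      have : algebraMap R (T i) r.1 ∈ q.asIdeal := by
        have h1 : (r.1 : R) ∈ m := hle r.2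
        have h2 : (PrimeSpectrum.comap (algebraMap R (T i)) q).asIdeal = m := congrArg PrimeSpectrum.asIdeal hq
        rw [← h2] at h1
        exact h1
      simpa [Algebra.smul_def] using q.asIdeal.mul_mem_right t this
  have := hrange z
  rw [hz] at this
  exact q.2.ne_top ((Ideal.eq_top_iff_one _).mpr (by simpa using this))

theorem finite_of_forall (M : Type u) [AddCommGroup M] [Module R M]
    (h : ∀ i, Module.Finite (T i) (T i ⊗[R] M)) : Module.Finite R M := by
  classical
  have key : ∀ i, ∃ (S : Submodule R M), S.FG ∧ Function.Surjective (S.subtype.lTensor (T i)) := by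
    intro i
    obtain ⟨n, s, hs⟩ := Module.Finite.exists_fin (R := T i) (M := T i ⊗[R] M)
    choose k t m hm using fun j : Fin n ↦ TensorProduct.exists_sum_tmul_eq (s j)
    refine ⟨Submodule.span R (Set.range fun p : Σ j, Fin (k j) => m p.1 p.2),
      Submodule.fg_span (Set.finite_range _), ?_⟩
    let F := (Submodule.span R (Set.range fun p : Σ j, Fin (k j) => m p.1 p.2)).subtype.baseChange (T i)
    show Function.Surjective F
    rw [← LinearMap.range_eq_top, eq_top_iff, ← hs, Submodule.span_le, Set.range_subset_iff]
    intro j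
    exact ⟨∑ l, t j l ⊗ₜ ⟨m j l, Submodule.subset_span ⟨⟨j, l⟩, rfl⟩⟩, by simp [F, hm j]⟩
  choose S hS hsurj using key
  let := Fintype.ofFinite ι
  let N := ⨆ i, S i
  have hN : N.FG := by
    have := Submodule.fg_finset_sup Finset.univ S fun i _ => hS i
    rwa [Finset.sup_univ_eq_iSup] at this
  have : Subsingleton (M ⧸ N) := subsingleton_of_forall T hT _ fun i => ⟨fun a b => by
    suffices ∀ c : T i ⊗[R] (M ⧸ N), c = 0 by rw [this a, this b]
    intro c
    obtain ⟨c, rfl⟩ := LinearMap.lTensor_surjective (T i) N.mkQ_surjective c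
    obtain ⟨c, rfl⟩ := hsurj i c
    rw [← LinearMap.lTensor_comp_apply,
      show N.mkQ ∘ₗ (S i).subtype = 0 from LinearMap.ext fun z =>
        (Submodule.Quotient.mk_eq_zero N).mpr (le_iSup S i z.2), LinearMap.lTensor_zero]
    rfl⟩
  refine ⟨?_⟩
  rwa [← Submodule.Quotient.subsingleton_iff.mp this]

theorem finitePresentation_of_forall (M : Type u) [AddCommGroup M] [Module R M]
    (h : ∀ i, Module.FinitePresentation (T i) (T i ⊗[R] M)) : Module.FinitePresentation R M := by
  have : Module.Finite R M := finite_of_forall T hT M inferInstance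
  obtain ⟨n, π, hπ⟩ := Module.Finite.exists_fin' R M
  have : Module.Finite R (LinearMap.ker π) := by
    refine finite_of_forall T hT _ fun i => ?_
    have := h i
    have hfg := Module.FinitePresentation.fg_ker (π.baseChange (T i)) (LinearMap.lTensor_surjective _ hπ)
    have hinj : Function.Injective ((LinearMap.ker π).subtype.baseChange (T i)) :=
      Module.Flat.lTensor_preserves_injective_linearMap _ Subtype.val_injective
    have hr : LinearMap.range ((LinearMap.ker π).subtype.baseChange (T i)) = LinearMap.ker (π.baseChange (T i)) := by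
      ext x
      exact ((lTensor_exact (T i) (LinearMap.exact_subtype_ker_map π) hπ) x).symm
    have : Module.Finite (T i) (LinearMap.range ((LinearMap.ker π).subtype.baseChange (T i))) := by
      rw [hr]; exact Module.Finite.iff_fg.mpr hfg
    exact Module.Finite.equiv (LinearEquiv.ofInjective _ hinj).symm
  exact Module.finitePresentation_of_surjective π hπ (Module.Finite.iff_fg.mp this)

end Groth.Agent.FFDesc84
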