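import Groth.Agent.S5014
import Mathlib.RingTheory.LocalRing.Module
import Mathlib.RingTheory.Etale.Locus
import Mathlib.RingTheory.RingHom.Etale
import Mathlib.RingTheory.Kaehler.Basic
import Mathlib.RingTheory.Smooth.Basic

/-! # Étale coordinates vanishing along a section of a smooth algebra -/

set_option autoImplicit false
universe u

open TensorProduct IsLocalRing

namespace Groth.Agent.SectionChart84

variable {R A : Type u} [CommRing R] [CommRing A] [Algebra R A]

theorem exists_basis_of_retraction [Algebra.Smooth R A] (ε : A →ₐ[R] R) (q : Ideal A) [q.IsPrime] :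
    ∃ (m : ℕ) (v : Fin m → A), (∀ j, ε (v j) = 0) ∧
      LinearIndependent (Localization.AtPrime q) (fun j => KaehlerDifferential.D R (Localization.AtPrime q)
        (algebraMap A (Localization.AtPrime q) (v j))) ∧
      Submodule.span (Localization.AtPrime q) (Set.range fun j => KaehlerDifferential.D R (Localization.AtPrime q)
        (algebraMap A (Localization.AtPrime q) (v j))) = ⊤ := by
  classical
  let L := Localization.AtPrime q
  have : Algebra.FormallySmooth A L := Algebra.FormallySmooth.of_isLocalization q.primeCompl
  have : Algebra.FormallySmooth R L := Algebra.FormallySmooth.comp R A L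
  have : Algebra.EssFiniteType A L := Algebra.EssFiniteType.of_isLocalization L q.primeCompl
  have : Algebra.EssFiniteType R L := Algebra.EssFiniteType.comp R A L
  let ι := {a : A // ε a = 0}
  let d : ι → Ω[L⁄R] := fun a => KaehlerDifferential.D R L (algebraMap A L a.1)
  have hD : ∀ a : A, KaehlerDifferential.D R L (algebraMap A L a) ∈ Submodule.span L (Set.range d) := by
    intro a
    have ha : ε (a - algebraMap R A (ε a)) = 0 := by simp
    have he : KaehlerDifferential.D R L (algebraMap A L a) = d ⟨_, ha⟩ := by
      simp only [d]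
      rw [map_sub, ← IsScalarTower.algebraMap_apply, map_sub, Derivation.map_algebraMap, sub_zero]
    exact he ▸ Submodule.subset_span ⟨_, rfl⟩
  have htop : Submodule.span L (Set.range d) = ⊤ := by
    rw [← top_le_iff, ← KaehlerDifferential.span_range_derivation R L, Submodule.span_le]
    rintro _ ⟨x, rfl⟩
    obtain ⟨a, s, rfl⟩ := IsLocalization.exists_mk'_eq q.primeCompl x
    have h1 := congrArg (KaehlerDifferential.D R L) (IsLocalization.mk'_spec' L a s)
    rw [Derivation.leibniz] at h1
    obtain ⟨w, hw⟩ := isUnit_iff_exists_inv'.mp (IsLocalization.map_units L s)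
    have h2 : KaehlerDifferential.D R L (IsLocalization.mk' L a s) =
        w • (KaehlerDifferential.D R L (algebraMap A L a) -
          IsLocalization.mk' L a s • KaehlerDifferential.D R L (algebraMap A L s)) := by
      rw [← h1, add_sub_cancel_right, smul_smul, hw, one_smul]
    show KaehlerDifferential.D R L (IsLocalization.mk' L a s) ∈ Submodule.span L (Set.range d)
    rw [h2]
    exact Submodule.smul_mem _ _ (sub_mem (hD a) (Submodule.smul_mem _ _ (hD s)))
  let mk1 := TensorProduct.mk L (ResidueField L) Ω[L⁄R] 1
  obtain ⟨κ, a, hinj, hspan, hli⟩ := exists_linearIndependent' (ResidueField L) (fun i => mk1 (d i))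
  have hsp : Submodule.span (ResidueField L) (Set.range fun i => mk1 (d i)) = ⊤ := by
    have := (IsLocalRing.map_tensorProduct_mk_eq_top (N := Submodule.span L (Set.range d))).mpr htop
    rw [Submodule.map_span, ← Set.range_comp] at this
    exact Submodule.span_eq_top_of_span_eq_top L (ResidueField L) _ this
  rw [hsp] at hspan
  have : Module.Free L Ω[L⁄R] := Module.free_of_flat_of_isLocalRing
  have : Finite κ := hli.finite
  let := Fintype.ofFinite κ
  let b := Module.Basis.mk hli hspan.ge
  have hgen : Submodule.span L (Set.range fun k => d (a k)) = ⊤ :=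
    IsLocalRing.span_eq_top_of_tmul_eq_basis (fun k => d (a k)) b fun k => by simp [b, mk1]
  have hind : LinearIndependent L (fun k => d (a k)) := Module.IsLocalRing.linearIndependent_of_flat _ hli
  let e := Fintype.equivFin κ
  refine ⟨Fintype.card κ, fun j => (a (e.symm j)).1, fun j => (a (e.symm j)).2,
    hind.comp e.symm e.symm.injective, ?_⟩
  refine Eq.trans (congrArg _ ?_) hgen
  exact e.symm.surjective.range_comp (fun k => d (a k))

theorem exists_etale_coords [Algebra.Smooth R A] (ε : A →ₐ[R] R) (p : Ideal R) [p.IsPrime] :
    ∃ (m : ℕ) (v : Fin m → A) (g : A), (∀ j, ε (v j) = 0) ∧ ε g ∉ p ∧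
      ∀ (c : A) (A' : Type u) [CommRing A'] [Algebra A A'] [IsLocalization.Away (g * c) A'],
        ((algebraMap A A').comp (MvPolynomial.eval₂Hom (algebraMap R A) v)).Etale := by
  let q : Ideal A := p.comap ε.toRingHom
  obtain ⟨m, v, hv, hli, hsp⟩ := exists_basis_of_retraction ε q
  let P := MvPolynomial (Fin m) R
  let : Algebra P A := (MvPolynomial.eval₂Hom (algebraMap R A) v).toAlgebra
  have : IsScalarTower R P A := .of_algebraMap_eq fun r => (MvPolynomial.eval₂Hom_C _ _ r).symm
  have hX : ∀ j, algebraMap P A (MvPolynomial.X j) = v j := fun j => MvPolynomial.eval₂Hom_X' _ _ j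
  have het : Algebra.IsEtaleAt P q := by
    rw [S5014.result R A m q]
    simp only [P, hX] at *
    exact ⟨hli, hsp⟩
  have : Algebra.FinitePresentation P A := Algebra.FinitePresentation.of_restrict_scalars_finitePresentation R P A
  obtain ⟨g, hg, hge⟩ := Algebra.exists_etale_of_isEtaleAt (R := P) q
  refine ⟨m, v, g, hv, hg, fun c A' _ _ _ => ?_⟩
  have hsub : ↑(PrimeSpectrum.basicOpen (g * c)) ⊆ Algebra.etaleLocus P A :=
    fun z hz => Algebra.basicOpen_subset_etaleLocus_iff.mpr inferInstance (PrimeSpectrum.basicOpen_mul_le_left g c hz)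
  have hfe : Algebra.FormallyEtale P (Localization.Away (g * c)) := Algebra.basicOpen_subset_etaleLocus_iff.mp hsub
  let : Algebra P A' := ((algebraMap A A').comp (algebraMap P A)).toAlgebra
  have : IsScalarTower P A A' := .of_algebraMap_eq fun _ => rfl
  have : Algebra.FormallyEtale P A' := Algebra.FormallyEtale.of_equiv
    ((IsLocalization.algEquiv (Submonoid.powers (g * c)) (Localization.Away (g * c)) A').restrictScalars P)
  have : Algebra.FinitePresentation A A' := IsLocalization.Away.finitePresentation (g * c)
  have : Algebra.Etale P A' := ⟨inferInstance, Algebra.FinitePresentation.trans P A A'⟩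
  show ((algebraMap A A').comp (algebraMap P A)).Etale
  rw [← IsScalarTower.algebraMap_eq]
  exact RingHom.etale_algebraMap.mpr this

end Groth.Agent.SectionChart84
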