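import Groth.Agent.Hensel20.LocalFiniteAux
import Mathlib.RingTheory.Flat.FaithfullyFlat.Algebra
import Mathlib.Algebra.Group.Pi.Units
import Mathlib.RingTheory.Localization.Away.Basic

/-! # Finite étale algebras over strictly henselian rings are split -/

set_option autoImplicit false
universe u

open IsLocalRing

namespace Groth.Agent.SplitEtale84

theorem exists_algEquiv_pi (R : Type u) [CommRing R] [HenselianLocalRing R] [IsSepClosed (ResidueField R)]
    (C : Type u) [CommRing C] [Algebra R C] [Module.Finite R C] [Algebra.Etale R C] :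
    ∃ (ι : Type u) (_ : Fintype ι), Nonempty (C ≃ₐ[R] (ι → R)) := by
  obtain ⟨ι, _, e, hloc, ⟨φ⟩⟩ := Hensel20.exists_algEquiv_pi_local (R := R) C
  have hb : ∀ i, Function.Bijective (algebraMap R (C ⧸ Ideal.span {1 - e i})) := fun i => by
    have := hloc i
    have : Algebra.FormallyUnramified R (C ⧸ Ideal.span {1 - e i}) :=
      .of_surjective (Ideal.Quotient.mkₐ R _) Ideal.Quotient.mk_surjective
    have hflatC : Module.Flat R C := inferInstance
    have hflatP : Module.Flat R (∀ i, C ⧸ Ideal.span {1 - e i}) := Module.Flat.of_linearEquiv φ.toLinearEquiv.symm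
    classical
    have : Module.Flat R (C ⧸ Ideal.span {1 - e i}) :=
      Module.Flat.of_retract (LinearMap.single R (fun i => C ⧸ Ideal.span {1 - e i}) i)
        (LinearMap.proj (R := R) (φ := fun i => C ⧸ Ideal.span {1 - e i}) i) (LinearMap.ext fun x => Pi.single_eq_same (M := fun i => C ⧸ Ideal.span {1 - e i}) i x)
    have : IsLocalHom (algebraMap R (C ⧸ Ideal.span {1 - e i})) := by
      refine ((local_hom_TFAE _).out 0 4).mpr ?_
      exact eq_maximalIdeal (Ideal.isMaximal_comap_of_isIntegral_of_isMaximal _)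
    have := Module.FaithfullyFlat.of_flat_of_isLocalHom (A := R) (B := C ⧸ Ideal.span {1 - e i})
    exact ⟨FaithfulSMul.algebraMap_injective R _, Hensel20.algebraMap_surjective_of_unramified _⟩
  exact ⟨ι, inferInstance, ⟨φ.trans (AlgEquiv.piCongrRight fun i =>
    (AlgEquiv.ofBijective (Algebra.ofId R _) (hb i)).symm)⟩⟩

/-- Localizations of split algebras are split. -/
theorem exists_away_pi {R : Type u} [CommRing R] (f : R) (Rf : Type u) [CommRing Rf] [Algebra R Rf]
    [IsLocalization.Away f Rf] {C : Type u} [CommRing C] [Algebra R C] {ι : Type u} [Finite ι]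
    (e : C ≃ₐ[R] (ι → R)) :
    Nonempty (Localization.Away (algebraMap R C f) ≃ₐ[R] (ι → Rf)) := by
  have := Fintype.ofFinite ι
  let m : C →ₐ[R] (ι → Rf) := (AlgHom.compLeft (Algebra.ofId R Rf) ι).comp e.toAlgHom
  let : Algebra C (ι → Rf) := m.toRingHom.toAlgebra
  have hsc : ∀ c i, algebraMap C (ι → Rf) c i = algebraMap R Rf (e c i) := fun _ _ => rfl
  have : IsScalarTower R C (ι → Rf) := .of_algebraMap_eq fun r => (m.commutes r).symm
  have hCf : ∀ i, e (algebraMap R C f) i = f := fun i => by simp
  have : IsLocalization.Away (algebraMap R C f) (ι → Rf) := by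
    constructor
    refine ⟨?_, fun z => ?_, fun {a b} hab => ?_⟩
    · rintro ⟨_, k, rfl⟩
      refine (Pi.isUnit_iff).mpr fun i => ?_
      rw [hsc, map_pow, Pi.pow_apply, hCf, map_pow]
      exact (IsLocalization.Away.algebraMap_isUnit f).pow k
    · choose k a hk using fun i => IsLocalization.Away.surj f (z i)
      let N := ∑ i, k i
      refine ⟨⟨e.symm fun i => f ^ (N - k i) * a i, ⟨_, N, rfl⟩⟩, funext fun i => ?_⟩
      have hN : k i ≤ N := Finset.single_le_sum (f := k) (fun _ _ => Nat.zero_le _) (Finset.mem_univ i)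
      rw [Pi.mul_apply, hsc, hsc, map_pow e, Pi.pow_apply, hCf, AlgEquiv.apply_symm_apply, map_pow, map_mul,
        map_pow, ← hk, mul_left_comm, ← pow_add, Nat.sub_add_cancel hN]
    · choose k hk using fun i => IsLocalization.exists_of_eq (M := Submonoid.powers f)
        (show algebraMap R Rf (e a i) = algebraMap R Rf (e b i) by rw [← hsc, ← hsc, hab])
      choose l hl using fun i => (k i).2
      let N := ∑ i, l i
      refine ⟨⟨_, N, rfl⟩, e.injective (funext fun i => ?_)⟩
      have hN : l i ≤ N := Finset.single_le_sum (f := l) (fun _ _ => Nat.zero_le _) (Finset.mem_univ i)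
      have h1 := hk i
      rw [← hl i] at h1
      simp only [map_mul, map_pow, Pi.mul_apply, Pi.pow_apply, hCf]
      rw [← Nat.sub_add_cancel hN, pow_add, mul_assoc, mul_assoc, h1]
  exact ⟨(IsLocalization.algEquiv (Submonoid.powers (algebraMap R C f)) _ (ι → Rf)).restrictScalars R⟩

end Groth.Agent.SplitEtale84
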