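import Mathlib.AlgebraicGeometry.Morphisms.Finite
import Mathlib.AlgebraicGeometry.Limits
import Mathlib.Data.Fintype.Option

set_option autoImplicit false
universe u
open CategoryTheory CategoryTheory.Limits AlgebraicGeometry

namespace Groth.Agent.FiniteSigma84

variable {α : Type u} (Z : Option α → Scheme.{u})

noncomputable def optFun : ∀ o : Option α, Z o ⟶ Z none ⨿ (∐ fun i => Z (some i))
  | none => coprod.inl
  | some i => Sigma.ι (fun i => Z (some i)) i ≫ coprod.inr

noncomputable def optHom : (∐ Z) ⟶ Z none ⨿ (∐ fun i => Z (some i)) :=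
  Sigma.desc (optFun Z)

noncomputable def optInv : Z none ⨿ (∐ fun i => Z (some i)) ⟶ ∐ Z :=
  coprod.desc (Sigma.ι Z none) (Sigma.desc fun i => Sigma.ι Z (some i))

theorem ι_none_optHom : Sigma.ι Z none ≫ optHom Z = coprod.inl := by
  rw [optHom, Sigma.ι_desc]; rfl

theorem ι_some_optHom (i : α) :
    Sigma.ι Z (some i) ≫ optHom Z = Sigma.ι (fun i => Z (some i)) i ≫ coprod.inr := by
  rw [optHom, Sigma.ι_desc]; rfl

theorem isIso_optHom : IsIso (optHom Z) := by
  refine ⟨optInv Z, ?_, ?_⟩
  · apply Sigma.hom_ext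
    rintro (_ | i)
    · rw [← Category.assoc, ι_none_optHom, optInv, coprod.inl_desc, Category.comp_id]
    · rw [← Category.assoc, ι_some_optHom, Category.assoc, optInv, coprod.inr_desc, Sigma.ι_desc, Category.comp_id]
  · apply coprod.hom_ext
    · rw [optInv, coprod.inl_desc_assoc, ι_none_optHom, Category.comp_id]
    · rw [optInv, coprod.inr_desc_assoc, Category.comp_id]
      apply Sigma.hom_ext
      intro i
      rw [Sigma.ι_desc_assoc, ι_some_optHom]

theorem isFinite_sigmaDesc {ι : Type u} [Finite ι] {Z : ι → Scheme.{u}} {Y : Scheme.{u}}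
    (f : ∀ i, Z i ⟶ Y) [∀ i, IsFinite (f i)] : IsFinite (Sigma.desc f) := by
  suffices ∀ (κ : Type u) [Finite κ] (Z : κ → Scheme.{u}) (f : ∀ i, Z i ⟶ Y),
      (∀ i, IsFinite (f i)) → IsFinite (Sigma.desc f) from this ι Z f inferInstance
  intro κ _
  induction κ using Finite.induction_empty_option with
  | @of_equiv α β e h =>
    intro Z f hf
    have : Sigma.desc f = (Sigma.reindex e Z).inv ≫ Sigma.desc fun i => f (e i) := by
      rw [Iso.eq_inv_comp]
      exact Sigma.hom_ext _ _ fun i => by simp
    have h' := h (fun i => Z (e i)) (fun i => f (e i)) (fun i => hf (e i))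
    rw [this]
    exact MorphismProperty.comp_mem _ _ _ (inferInstanceAs (IsFinite (Sigma.reindex e Z).inv)) h'
  | h_empty =>
    intro Z f _
    have : IsEmpty ↥(∐ Z) := ⟨fun x => by
      obtain ⟨i, -⟩ := (sigmaMk Z).symm x
      exact i.elim⟩
    infer_instance
  | @h_option α _ h =>
    intro Z f hf
    have := h (fun i => Z (some i)) (fun i => f (some i)) (fun i => hf _)
    have := hf none
    have := isIso_optHom Z
    have : Sigma.desc f = optHom Z ≫ coprod.desc (f none) (Sigma.desc fun i => f (some i)) := by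
      apply Sigma.hom_ext
      rintro (_ | i)
      · rw [Sigma.ι_desc, ← Category.assoc, ι_none_optHom, coprod.inl_desc]
      · rw [Sigma.ι_desc, ← Category.assoc, ι_some_optHom, Category.assoc, coprod.inr_desc, Sigma.ι_desc]
    rw [this]
    infer_instance

end Groth.Agent.FiniteSigma84
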