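import Groth.Prelude.Def_NonAbH2
import Groth.Prelude.Def_TwC
import Groth.Agent.RedPts82.DSCoord
import Mathlib.RingTheory.AdjoinRoot
import Mathlib.RingTheory.Flat.FaithfullyFlat.Algebra
import Mathlib.FieldTheory.Finite.Basic
import Mathlib.AlgebraicGeometry.Morphisms.Flat
import Mathlib.AlgebraicGeometry.Morphisms.FinitePresentation
import Mathlib.AlgebraicGeometry.PullbackCarrier
import Mathlib.AlgebraicGeometry.Sites.Fpqc
import Mathlib.RingTheory.Flat.FaithfullyFlat.Basic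

/-! The roots of `T^p - T` are the constant group, and Artin-Schreier covers. -/

set_option autoImplicit false
universe u

open CategoryTheory MonoidalCategory CartesianMonoidalCategory MonObj GrpObj AlgebraicGeometry
open CategoryTheory.Limits
open Groth.Agent.RedPts82

namespace Groth.Agent.Sga84.AS

variable {p : ℕ} [hpF : Fact p.Prime]

section Ring

variable {A : Type u} [CommRing A] (hA : (p : A) = 0)

include hA

/-- The map from the prime field to a ring killed by `p`. -/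
noncomputable def cast : ZMod p →+* A :=
  haveI : CharP A (ringChar A) := inferInstance
  ZMod.castHom (m := ringChar A) (ringChar.dvd hA) A

theorem add_pow (a b : A) : (a + b) ^ p = a ^ p + b ^ p := by
  obtain ⟨r, hr⟩ := exists_add_pow_prime_eq hpF.out a b
  simp [hr, hA]

theorem sub_pow (a b : A) : (a - b) ^ p = a ^ p - b ^ p := by
  have := add_pow hA (a - b) b
  rw [sub_add_cancel] at this
  exact eq_sub_of_add_eq this.symm

theorem cast_pow (m : ZMod p) : cast hA m ^ p = cast hA m := by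
  rw [← map_pow, ZMod.pow_card]

/-- The idempotent cutting out the locus where `d = m`. -/
noncomputable def idem (d : A) (m : ZMod p) : A := 1 - (d - cast hA m) ^ (p - 1)

theorem sub_mul_idem {d : A} (hd : d ^ p = d) (m : ZMod p) : (d - cast hA m) * idem hA d m = 0 := by
  have h : (d - cast hA m) ^ p = d - cast hA m := by rw [sub_pow hA, hd, cast_pow]
  have hp : p - 1 + 1 = p := Nat.sub_add_cancel hpF.out.pos
  rw [idem, mul_sub, _root_.mul_one, ← pow_succ', hp, h, sub_self]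

theorem idem_of_eq {d : A} {m : ZMod p} (h : d = cast hA m) : idem hA d m = 1 := by
  rw [idem, h, sub_self, zero_pow (Nat.sub_ne_zero_of_lt hpF.out.one_lt), sub_zero]

theorem eq_of_isUnit {d : A} (hd : d ^ p = d) {m : ZMod p} (h : IsUnit (idem hA d m)) : d = cast hA m :=
  sub_eq_zero.mp (h.mul_left_eq_zero.mp (sub_mul_idem hA hd m))

theorem not_isUnit_both [Nontrivial A] {d : A} (hd : d ^ p = d) {m k : ZMod p} (hmk : m ≠ k)
    (hm : IsUnit (idem hA d m)) (hk : IsUnit (idem hA d k)) : False :=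
  hmk ((cast hA).injective ((eq_of_isUnit hA hd hm).symm.trans (eq_of_isUnit hA hd hk)))

theorem exists_isUnit [IsLocalRing A] {d : A} (hd : d ^ p = d) : ∃ m, IsUnit (idem hA d m) := by
  classical
  have hprod : (Polynomial.X ^ p - Polynomial.X : Polynomial (ZMod p)) =
      ∏ a : ZMod p, (Polynomial.X - Polynomial.C a) := by
    have hr : (Polynomial.X ^ p - Polynomial.X : Polynomial (ZMod p)).roots = Finset.univ.val := by
      have := FiniteField.roots_X_pow_card_sub_X (ZMod p)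
      rwa [ZMod.card] at this
    have hdeg : (Polynomial.X ^ p - Polynomial.X : Polynomial (ZMod p)).natDegree = p :=
      FiniteField.X_pow_card_sub_X_natDegree_eq _ hpF.out.one_lt
    have hmonic : (Polynomial.X ^ p - Polynomial.X : Polynomial (ZMod p)).Monic :=
      Polynomial.monic_X_pow_sub (by simpa using hpF.out.one_lt)
    refine (Polynomial.prod_multiset_X_sub_C_of_monic_of_roots_card_eq hmonic ?_).symm.trans ?_
    · rw [hr, hdeg]; simp
    · rw [hr]; rfl
  have h0 := congrArg (Polynomial.eval₂ (cast hA) d) hprod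
  rw [Polynomial.eval₂_finsetProd] at h0
  simp only [Polynomial.eval₂_sub, Polynomial.eval₂_X_pow, Polynomial.eval₂_X, Polynomial.eval₂_C, hd,
    sub_self] at h0
  by_contra h
  push Not at h
  refine not_isUnit_zero (h0.symm ▸ IsUnit.prod_iff.mpr fun m _ => ?_)
  have hu : IsUnit ((d - cast hA m) ^ (p - 1)) := by
    have := IsLocalRing.isUnit_one_sub_self_of_mem_nonunits _ (h m)
    rwa [idem, sub_sub_cancel] at this
  exact (isUnit_pow_iff (Nat.sub_ne_zero_of_lt hpF.out.one_lt)).mp hu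

theorem idem_map {B : Type u} [CommRing B] (hB : (p : B) = 0) (f : A →+* B) (d : A) (m : ZMod p) :
    f (idem hA d m) = idem hB (f d) m := by
  rw [idem, idem, map_sub, map_pow, map_sub, map_one]
  congr 3
  exact congrArg (fun g : ZMod p →+* B => g m) (Subsingleton.elim (f.comp (cast hA)) (cast hB))

end Ring

variable {S : Scheme.{u}} (hp : (p : Γ(S, ⊤)) = 0)

include hp

omit hpF in
theorem hpT (T : Over S) : (p : Γ(T.left, ⊤)) = 0 := by
  rw [← map_natCast T.hom.appTop.hom p, hp, map_zero]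

variable {G' : Over S} [GrpObj G'] {e : G' ≅ TwC.const S (Multiplicative (ZMod p))}
  (he : TwC.IsConstGrp (Multiplicative (ZMod p)) G' e) {i : G' ⟶ Red.Ga S} [IsMonHom i]
  (hi : Red.gaFn (TwC.pt S (Multiplicative (ZMod p)) (Multiplicative.ofAdd 1) ≫ e.inv ≫ i) = 1)

local notation "ptm" m:max => TwC.pt S (Multiplicative (ZMod p)) (Multiplicative.ofAdd m)

include he hi in
theorem coord_pt {T : Over S} (m : ZMod p) :
    Red.gaFn (toUnit T ≫ ptm m ≫ e.inv ≫ i) = cast (hpT hp T) m := by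
  have hadd : ∀ a b : ZMod p, Red.gaFn (toUnit T ≫ ptm (a + b) ≫ e.inv ≫ i) =
      Red.gaFn (toUnit T ≫ ptm a ≫ e.inv ≫ i) + Red.gaFn (toUnit T ≫ ptm b ≫ e.inv ≫ i) := by
    intro a b
    rw [← gaFn_mul, ← comp_mul]
    congr 2
    rw [← Category.assoc (ptm a), ← Category.assoc (ptm b), ← Category.assoc (ptm (a + b)), ofAdd_add, ← he]
    exact MonObj.mul_comp _ _ i
  have h1 : Red.gaFn (toUnit T ≫ ptm 1 ≫ e.inv ≫ i) = 1 := by
    rw [gaFn_comp, hi, map_one]
  let f : ZMod p →+ Γ(T.left, ⊤) :=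
    AddMonoidHom.mk' (fun m => Red.gaFn (toUnit T ≫ ptm m ≫ e.inv ≫ i)) hadd
  have key : ∀ k : ℕ, f k = cast (hpT hp T) (k : ZMod p) := by
    intro k
    induction k with
    | zero => simp
    | succ k ih => rw [Nat.cast_succ, map_add, ih, map_add, show f 1 = 1 from h1, map_one]
  simpa [f] using key m.val

omit hp hpF in
theorem exists_copy (x : (TwC.const S (Multiplicative (ZMod p))).left) :
    ∃ (m : ZMod p) (y : S), Sigma.ι (fun _ : Multiplicative (ZMod p) => S) (Multiplicative.ofAdd m) y = x := by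
  obtain ⟨m, y, hy⟩ := (sigmaOpenCover (fun _ : Multiplicative (ZMod p) => S)).exists_eq x
  exact ⟨Multiplicative.toAdd (m : Multiplicative (ZMod p)), y, hy⟩

variable {T : Over S}

/-- The restriction of a point to an open. -/
noncomputable abbrev res (U : T.left.Opens) : Over.mk (U.ι ≫ T.hom) ⟶ T := Over.homMk U.ι rfl

omit hp in
theorem ext_of_cover {P : Over S} {J : Type} (U : J → T.left.Opens) (hU : ⨆ m, U m = ⊤) {a b : T ⟶ P}
    (h : ∀ m, res (U m) ≫ a = res (U m) ≫ b) : a = b := by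
  apply Over.OverMorphism.ext
  refine (T.left.openCoverOfIsOpenCover U hU).hom_ext _ _ fun m => ?_
  exact congrArg CommaMorphism.left (h m)

omit hp in
theorem isUnit_restrict {U : T.left.Opens} {f : Γ(T.left, ⊤)} (h : U ≤ T.left.basicOpen f) :
    IsUnit (U.ι.appTop f) := by
  refine (U : Scheme.{u}).toLocallyRingedSpace.toRingedSpace.isUnit_of_isUnit_germ ⊤ _ fun x hx => ?_
  refine (Scheme.mem_basicOpen_top _ _ _).mp ?_
  rw [← Scheme.preimage_basicOpen_top]
  exact h x.2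

/-- The locus where the coordinate equals `m`. -/
noncomputable def locus (d : Γ(T.left, ⊤)) (m : ZMod p) : T.left.Opens :=
  T.left.basicOpen (idem (hpT hp T) d m)

variable {d : Γ(T.left, ⊤)} (hd : d ^ p = d)

include hd in
theorem locus_iSup : ⨆ m, locus hp d m = ⊤ := by
  rw [eq_top_iff]
  rintro x -
  let g := (T.left.presheaf.germ ⊤ x trivial).hom
  have hg : (p : T.left.presheaf.stalk x) = 0 := by rw [← map_natCast g p, hpT hp T, map_zero]
  obtain ⟨m, hm⟩ := exists_isUnit hg (d := g d) (by rw [← map_pow, hd])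
  refine TopologicalSpace.Opens.mem_iSup.mpr ⟨m, ?_⟩
  rw [← idem_map (hpT hp T) hg g] at hm
  exact (Scheme.mem_basicOpen_top _ _ _).mpr hm

include hd in
theorem locus_disjoint {m k : ZMod p} {x : T.left} (hm : x ∈ locus hp d m) (hk : x ∈ locus hp d k) :
    m = k := by
  by_contra hne
  let g := (T.left.presheaf.germ ⊤ x trivial).hom
  have hg : (p : T.left.presheaf.stalk x) = 0 := by rw [← map_natCast g p, hpT hp T, map_zero]
  have hm' := (Scheme.mem_basicOpen_top _ _ _).mp hm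
  have hk' := (Scheme.mem_basicOpen_top _ _ _).mp hk
  refine not_isUnit_both hg (d := g d) (by rw [← map_pow, hd]) hne ?_ ?_
  · rw [← idem_map (hpT hp T) hg g]; exact hm'
  · rw [← idem_map (hpT hp T) hg g]; exact hk'

include hd in
theorem eq_on_locus {U : T.left.Opens} {m : ZMod p} (hU : U ≤ locus hp d m) :
    U.ι.appTop d = cast (hpT hp (Over.mk (U.ι ≫ T.hom))) m := by
  refine eq_of_isUnit (hpT hp (Over.mk (U.ι ≫ T.hom))) (by rw [← map_pow, hd]) ?_
  rw [← idem_map (hpT hp T) (hpT hp (Over.mk (U.ι ≫ T.hom))) U.ι.appTop.hom]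
  exact isUnit_restrict hU

omit hp hpF in
/-- A point of the constant scheme is constant on the preimage of each copy. -/
theorem res_preimage (t : T ⟶ TwC.const S (Multiplicative (ZMod p))) (m : ZMod p) :
    res (t.left ⁻¹ᵁ (Sigma.ι (fun _ : Multiplicative (ZMod p) => S) (Multiplicative.ofAdd m)).opensRange) ≫ t =
      toUnit _ ≫ ptm m := by
  set U := t.left ⁻¹ᵁ (Sigma.ι (fun _ : Multiplicative (ZMod p) => S) (Multiplicative.ofAdd m)).opensRange
  have hsub : Set.range (U.ι ≫ t.left) ⊆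
      Set.range (Sigma.ι (fun _ : Multiplicative (ZMod p) => S) (Multiplicative.ofAdd m)) := by
    rintro _ ⟨x, rfl⟩
    exact x.2
  apply Over.OverMorphism.ext
  show U.ι ≫ t.left = _ ≫ Sigma.ι (fun _ : Multiplicative (ZMod p) => S) (Multiplicative.ofAdd m)
  have h1 := IsOpenImmersion.lift_fac (Sigma.ι (fun _ : Multiplicative (ZMod p) => S) (Multiplicative.ofAdd m))
    (U.ι ≫ t.left) hsub
  rw [← h1]
  congr 1
  have h2 : IsOpenImmersion.lift _ (U.ι ≫ t.left) hsub ≫ 𝟙 S = U.ι ≫ t.left ≫ Sigma.desc (fun _ => 𝟙 S) := by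
    rw [← Category.assoc U.ι]
    refine Eq.trans ?_ (congrArg (· ≫ Sigma.desc (fun _ => 𝟙 S)) h1)
    rw [Category.assoc, Sigma.ι_desc]
  rw [Category.comp_id] at h2
  rw [h2]
  exact congrArg (U.ι ≫ ·) (Over.w t)

include he hi

theorem coord_pow (t : T ⟶ TwC.const S (Multiplicative (ZMod p))) :
    Red.gaFn (t ≫ e.inv ≫ i) ^ p = Red.gaFn (t ≫ e.inv ≫ i) := by
  obtain ⟨y, hy⟩ := gaFn_surjective (S := S) (Red.gaFn (t ≫ e.inv ≫ i) ^ p)
  suffices y = t ≫ e.inv ≫ i by rw [← hy, this]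
  refine ext_of_cover (fun m : ZMod p => t.left ⁻¹ᵁ
    (Sigma.ι (fun _ : Multiplicative (ZMod p) => S) (Multiplicative.ofAdd m)).opensRange) ?_ fun m => ?_
  · rw [eq_top_iff]
    rintro x -
    obtain ⟨m, y, hy⟩ := exists_copy (t.left x)
    exact TopologicalSpace.Opens.mem_iSup.mpr ⟨m, y, hy⟩
  · refine gaFn_injective ?_
    have h1 := congrArg (fun z => Red.gaFn (z ≫ e.inv ≫ i)) (res_preimage t m)
    simp only [Category.assoc] at h1
    rw [coord_pt hp he hi] at h1
    rw [gaFn_comp, hy, map_pow, ← gaFn_comp, h1, cast_pow]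

theorem lift_unique {t t' : T ⟶ TwC.const S (Multiplicative (ZMod p))}
    (h : t ≫ e.inv ≫ i = t' ≫ e.inv ≫ i) : t = t' := by
  let d := Red.gaFn (t ≫ e.inv ≫ i)
  have hd : d ^ p = d := coord_pow hp he hi t
  have hle : ∀ (s : T ⟶ TwC.const S (Multiplicative (ZMod p))), Red.gaFn (s ≫ e.inv ≫ i) = d → ∀ m,
      locus hp d m ≤ s.left ⁻¹ᵁ (Sigma.ι (fun _ : Multiplicative (ZMod p) => S) (Multiplicative.ofAdd m)).opensRange := by
    intro s hs m x hx
    obtain ⟨k, y, hy⟩ := exists_copy (s.left x)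
    set U := s.left ⁻¹ᵁ (Sigma.ι (fun _ : Multiplicative (ZMod p) => S) (Multiplicative.ofAdd k)).opensRange
    have hxU : x ∈ U := ⟨y, hy⟩
    have h1 : Red.gaFn (res U ≫ s ≫ e.inv ≫ i) =
        cast (hpT hp (Over.mk (U.ι ≫ T.hom))) k := by
      rw [← coord_pt hp he hi, ← Category.assoc, res_preimage s k]
      simp only [Category.assoc]
      rfl
    rw [gaFn_comp, hs] at h1
    have h2 : x ∈ locus hp d k := by
      have := idem_of_eq (hpT hp (Over.mk (U.ι ≫ T.hom))) h1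
      rw [← idem_map (hpT hp T) (hpT hp (Over.mk (U.ι ≫ T.hom))) (res U).left.appTop.hom] at this
      have h3 : U.ι ⁻¹ᵁ T.left.basicOpen (idem (hpT hp T) d k) = ⊤ := by
        rw [Scheme.preimage_basicOpen_top]
        exact Scheme.basicOpen_of_isUnit _ (this ▸ isUnit_one)
      exact h3.ge (x := ⟨x, hxU⟩) trivial
    exact locus_disjoint hp hd h2 hx ▸ hxU
  refine ext_of_cover _ (locus_iSup hp hd) fun m => ?_
  have h' : ∀ s : T ⟶ TwC.const S (Multiplicative (ZMod p)), Red.gaFn (s ≫ e.inv ≫ i) = d →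
      res (locus hp d m) ≫ s = toUnit _ ≫ ptm m := by
    intro s hs
    let r : Over.mk ((locus hp d m).ι ≫ T.hom) ⟶ Over.mk ((s.left ⁻¹ᵁ _).ι ≫ T.hom) :=
      Over.homMk (T.left.homOfLE (hle s hs m)) (by simp)
    have hr : res (locus hp d m) = r ≫ res _ := by
      apply Over.OverMorphism.ext; simp [r]
    rw [hr, Category.assoc, res_preimage s m, ← Category.assoc, toUnit_unique (r ≫ toUnit _) (toUnit _)]
  rw [h' t rfl, h' t' (by rw [← h])]

theorem lift_exists (z : T ⟶ Red.Ga S) (hz : Red.gaFn z ^ p = Red.gaFn z) :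
    ∃ t : T ⟶ TwC.const S (Multiplicative (ZMod p)), t ≫ e.inv ≫ i = z := by
  let U := locus hp (Red.gaFn z)
  let 𝒰 := T.left.openCoverOfIsOpenCover U (locus_iSup hp hz)
  let f : ∀ m : ZMod p, (U m : Scheme.{u}) ⟶ (TwC.const S (Multiplicative (ZMod p))).left := fun m =>
    (toUnit (Over.mk ((U m).ι ≫ T.hom)) ≫ ptm m).left
  have hf : ∀ m k, pullback.fst (𝒰.f m) (𝒰.f k) ≫ f m = pullback.snd (𝒰.f m) (𝒰.f k) ≫ f k := by
    intro m k
    rcases eq_or_ne m k with rfl | hne
    · have : Mono (𝒰.f m) := inferInstanceAs (Mono (U m).ι)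
      rw [show pullback.fst (𝒰.f m) (𝒰.f m) = pullback.snd (𝒰.f m) (𝒰.f m) from
        (cancel_mono (𝒰.f m)).mp pullback.condition]
    · have : IsEmpty (pullback (𝒰.f m) (𝒰.f k) : Scheme.{u}) := ⟨fun w => hne (locus_disjoint hp hz
        (pullback.fst (𝒰.f m) (𝒰.f k) w).2 (by
          have : (U m).ι (pullback.fst (𝒰.f m) (𝒰.f k) w) = (U k).ι (pullback.snd (𝒰.f m) (𝒰.f k) w) :=
            congr($(pullback.condition (f := 𝒰.f m) (g := 𝒰.f k)) w)
          show (U m).ι (pullback.fst (𝒰.f m) (𝒰.f k) w) ∈ U k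
          rw [this]
          exact (pullback.snd (𝒰.f m) (𝒰.f k) w).2))⟩
      exact isInitialOfIsEmpty.hom_ext _ _
  let t : T ⟶ TwC.const S (Multiplicative (ZMod p)) := Over.homMk (𝒰.glueMorphisms f hf) (by
    refine 𝒰.hom_ext _ _ fun m => ?_
    rw [Scheme.Cover.ι_glueMorphisms_assoc]
    exact Over.w (toUnit (Over.mk ((U m).ι ≫ T.hom)) ≫ ptm m))
  refine ⟨t, ext_of_cover U (locus_iSup hp hz) fun m => gaFn_injective ?_⟩
  have h1 : res (U m) ≫ t = toUnit _ ≫ ptm m := by
    apply Over.OverMorphism.ext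
    exact Scheme.Cover.ι_glueMorphisms 𝒰 f hf m
  rw [← Category.assoc, h1, Category.assoc, coord_pt hp he hi, gaFn_comp]
  exact (eq_on_locus hp hz le_rfl).symm

omit hp he hi hpF in
theorem exists_root_cover [hpF : Fact p.Prime] :
    ∃ R ∈ Scheme.fpqcPrecoverage (Red.Ga S).left,
      ∀ ⦃W : Scheme.{u}⦄ (f : W ⟶ (Red.Ga S).left), R f →
        ∃ x : Over.mk (f ≫ (Red.Ga S).hom) ⟶ Red.Ga S,
          Red.gaFn x - Red.gaFn x ^ p =
            Red.gaFn (Over.homMk f rfl : Over.mk (f ≫ (Red.Ga S).hom) ⟶ Red.Ga S) := by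
  let 𝒱 := (Red.Ga S).left.affineCover
  let b : ∀ k, Γ(𝒱.X k, ⊤) := fun k =>
    Red.gaFn (Over.homMk (𝒱.f k) rfl : Over.mk (𝒱.f k ≫ (Red.Ga S).hom) ⟶ Red.Ga S)
  let F : ∀ k, Polynomial Γ(𝒱.X k, ⊤) := fun k =>
    Polynomial.X ^ p - (Polynomial.X - Polynomial.C (b k))
  have hF : ∀ k, (F k).Monic := fun k => Polynomial.monic_X_pow_sub (lt_of_le_of_lt
    (Polynomial.degree_X_sub_C_le (b k)) (by exact_mod_cast hpF.out.one_lt))
  let w : ∀ k, Spec (CommRingCat.of (AdjoinRoot (F k))) ⟶ 𝒱.X k := fun k =>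
    Spec.map (CommRingCat.ofHom (algebraMap Γ(𝒱.X k, ⊤) (AdjoinRoot (F k)))) ≫ (𝒱.X k).isoSpec.inv
  have hw : ∀ k, Flat (w k) ∧ Surjective (w k) ∧ LocallyOfFinitePresentation (w k) := by
    intro k
    have : Module.Free Γ(𝒱.X k, ⊤) (AdjoinRoot (F k)) := Module.Free.of_basis (AdjoinRoot.powerBasis' (hF k)).basis
    have : Module.Finite Γ(𝒱.X k, ⊤) (AdjoinRoot (F k)) := (AdjoinRoot.powerBasis' (hF k)).finite
    have : Algebra.FinitePresentation Γ(𝒱.X k, ⊤) (AdjoinRoot (F k)) := inferInstance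
    have hfl : Flat (Spec.map (CommRingCat.ofHom (algebraMap Γ(𝒱.X k, ⊤) (AdjoinRoot (F k))))) :=
      Flat.SpecMap_iff.mpr (RingHom.flat_algebraMap_iff.mpr inferInstance)
    have hlfp : LocallyOfFinitePresentation
        (Spec.map (CommRingCat.ofHom (algebraMap Γ(𝒱.X k, ⊤) (AdjoinRoot (F k))))) :=
      (HasRingHomProperty.Spec_iff (P := @LocallyOfFinitePresentation)).mpr
        (RingHom.finitePresentation_algebraMap.mpr inferInstance)
    have hs : Surjective (Spec.map (CommRingCat.ofHom (algebraMap Γ(𝒱.X k, ⊤) (AdjoinRoot (F k))))) := by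
      refine ⟨fun q => ?_⟩
      have : Nontrivial Γ(𝒱.X k, ⊤) := PrimeSpectrum.nonempty_iff_nontrivial.mp ⟨q⟩
      have hdeg : (F k).natDegree = p := by
        refine Polynomial.natDegree_eq_of_degree_eq_some ?_
        rw [Polynomial.degree_sub_eq_left_of_degree_lt] <;> rw [Polynomial.degree_X_pow]
        exact lt_of_le_of_lt (Polynomial.degree_X_sub_C_le (b k)) (by exact_mod_cast hpF.out.one_lt)
      have : Nontrivial (AdjoinRoot (F k)) := by
        have e := (AdjoinRoot.powerBasis' (hF k)).basis.equivFun.toEquiv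
        have : Nonempty (Fin (AdjoinRoot.powerBasis' (hF k)).dim) :=
          ⟨⟨0, by rw [AdjoinRoot.powerBasis'_dim, hdeg]; exact hpF.out.pos⟩⟩
        exact e.nontrivial
      exact PrimeSpectrum.comap_surjective_of_faithfullyFlat q
    exact ⟨inferInstance, inferInstance, inferInstance⟩
  let 𝒰 : Scheme.Cover (Scheme.precoverage (@Flat ⊓ @LocallyOfFinitePresentation)) (Red.Ga S).left :=
    Scheme.Cover.mkOfCovers 𝒱.I₀ (fun k => Spec (CommRingCat.of (AdjoinRoot (F k))))
      (fun k => w k ≫ 𝒱.f k) (fun x => by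
        obtain ⟨k, y, hy⟩ := 𝒱.exists_eq x
        have := (hw k).2.1
        obtain ⟨z, hz⟩ := (w k).surjective y
        exact ⟨k, z, by rw [Scheme.Hom.comp_apply, hz, hy]⟩)
      (fun k => by
        obtain ⟨_, _, _⟩ := hw k
        exact ⟨inferInstance, inferInstance⟩)
  refine ⟨𝒰.presieve₀, Scheme.fppfPrecoverage_le_fpqcPrecoverage _ 𝒰.mem₀, ?_⟩
  rintro W f ⟨k⟩
  obtain ⟨x, hx⟩ := gaFn_surjective (S := S) (X := Over.mk ((w k ≫ 𝒱.f k) ≫ (Red.Ga S).hom))
    ((Scheme.ΓSpecIso (CommRingCat.of (AdjoinRoot (F k)))).inv (AdjoinRoot.root (F k)))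
  refine ⟨x, ?_⟩
  let m : Over.mk ((w k ≫ 𝒱.f k) ≫ (Red.Ga S).hom) ⟶ Over.mk (𝒱.f k ≫ (Red.Ga S).hom) :=
    Over.homMk (w k) (Category.assoc _ _ _).symm
  have hm : (Over.homMk (w k ≫ 𝒱.f k) rfl : Over.mk ((w k ≫ 𝒱.f k) ≫ (Red.Ga S).hom) ⟶ Red.Ga S) =
      m ≫ Over.homMk (𝒱.f k) rfl := Over.OverMorphism.ext rfl
  show Red.gaFn x - Red.gaFn x ^ p = Red.gaFn (Over.homMk (w k ≫ 𝒱.f k) rfl : Over.mk ((w k ≫ 𝒱.f k) ≫ (Red.Ga S).hom) ⟶ Red.Ga S)
  rw [hm, gaFn_comp, hx]
  show _ = (w k).appTop (b k)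
  have hwb : (w k).appTop (b k) =
      (Scheme.ΓSpecIso (CommRingCat.of (AdjoinRoot (F k)))).inv (algebraMap _ (AdjoinRoot (F k)) (b k)) := by
    rw [Scheme.Hom.comp_appTop, isoSpec_inv_appTop, ← Scheme.ΓSpecIso_inv_naturality]
    rfl
  have hroot : AdjoinRoot.root (F k) - AdjoinRoot.root (F k) ^ p = algebraMap _ (AdjoinRoot (F k)) (b k) := by
    have h := AdjoinRoot.eval₂_root (F k)
    simp only [F, Polynomial.eval₂_sub, Polynomial.eval₂_X_pow, Polynomial.eval₂_X, Polynomial.eval₂_C] at h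
    rw [AdjoinRoot.algebraMap_eq]
    linear_combination -h
  rw [hwb, ← hroot, map_sub, map_pow]

end Groth.Agent.Sga84.AS
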