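import Groth.Prelude.Def_SGA1
import Mathlib

/-! # (Effective) epimorphisms from sheaf conditions; étale radicial morphisms -/

set_option autoImplicit false
universe u
open CategoryTheory CategoryTheory.Limits AlgebraicGeometry TopologicalSpace Opposite

namespace Sga84

variable {S' S : Scheme.{u}} (g : S' ⟶ S)

theorem eq_of_comp_eq (hs : Function.Surjective g) (hinj : ∀ U : S.Opens, Function.Injective (g.app U).hom)
    {Z : Scheme.{u}} {a b : S ⟶ Z} (h : g ≫ a = g ≫ b) : a = b := by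
  have hb : a.base = b.base := by
    ext y
    obtain ⟨x, rfl⟩ := hs y
    rw [← Scheme.Hom.comp_apply, ← Scheme.Hom.comp_apply, h]
  refine Scheme.Hom.ext hb fun U => ?_
  ext s
  apply hinj (b ⁻¹ᵁ U)
  have h1 := congrArg (fun f => f.hom s) (Scheme.Hom.congr_app h U)
  simp only [Scheme.Hom.comp_app, CommRingCat.comp_apply] at h1
  have h2 : ∀ (V : S.Opens) (e : V = a ⁻¹ᵁ U) (t : Γ(S, a ⁻¹ᵁ U)),
      (g.app V).hom ((S.presheaf.map (eqToHom e).op).hom t) =
        (S'.presheaf.map (eqToHom (by rw [e])).op).hom ((g.app (a ⁻¹ᵁ U)).hom t) := by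
    rintro V rfl t; simp
  refine (h2 _ _ ((a.app U).hom s)).trans ?_
  refine (congrArg (S'.presheaf.map _).hom h1).trans ?_
  rw [← CommRingCat.comp_apply, ← Functor.map_comp]
  have : ∀ {V : S'.Opens} (i : op V ⟶ op V) (t : Γ(S', V)), (S'.presheaf.map i).hom t = t := by
    intro V i t
    rw [Subsingleton.elim i (𝟙 _), CategoryTheory.Functor.map_id]; rfl
  exact this _ _

/-- Descending a morphism along a quotient map with injective sections. -/
theorem exists_desc (hq : Topology.IsQuotientMap g)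
    (hinj : ∀ U : S.Opens, Function.Injective (g.app U).hom) {Z : Scheme.{u}} (h : S' ⟶ Z)
    (hfib : ∀ x x', g x = g x' → h x = h x')
    (hmem : ∀ (U : Z.Opens) (V : S.Opens) (e : g ⁻¹ᵁ V ≤ h ⁻¹ᵁ U) (s : Γ(Z, U)),
      (h.appLE U (g ⁻¹ᵁ V) e).hom s ∈ Set.range (g.app V).hom) :
    ∃ k : S ⟶ Z, g ≫ k = h := by
  have hs := hq.surjective
  let b₀ : S → Z := fun y => h (Function.surjInv hs y)
  have hb₀ : ∀ x, b₀ (g x) = h x := fun x => hfib _ _ (Function.surjInv_eq hs (g x))
  let b : S.toTopCat ⟶ Z.toTopCat := TopCat.ofHom ⟨b₀, hq.continuous_iff.mpr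
    (by rw [show b₀ ∘ g = (h : S' → Z) from funext hb₀]; exact h.continuous)⟩
  have hpre : ∀ U : Z.Opens, g ⁻¹ᵁ ((Opens.map b).obj U) = h ⁻¹ᵁ U := by
    intro U
    ext x
    change b₀ (g x) ∈ U ↔ h x ∈ U
    rw [hb₀]
  let hm : ∀ U : Z.Opens, Γ(Z, U) ⟶ Γ(S', g ⁻¹ᵁ ((Opens.map b).obj U)) :=
    fun U => h.appLE U _ (hpre U).le
  have hmem' : ∀ (U : Z.Opens) (s : Γ(Z, U)),
      (hm U).hom s ∈ Set.range (g.app ((Opens.map b).obj U)).hom :=
    fun U s => hmem U _ (hpre U).le s
  choose φ hφ using hmem'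
  let Φ : ∀ U : Z.Opens, Γ(Z, U) ⟶ Γ(S, (Opens.map b).obj U) := fun U => CommRingCat.ofHom
    { toFun := φ U
      map_one' := hinj _ (by rw [hφ, map_one, map_one])
      map_mul' := fun s t => hinj _ (by rw [hφ, map_mul, map_mul, hφ, hφ])
      map_zero' := hinj _ (by rw [hφ, map_zero, map_zero])
      map_add' := fun s t => hinj _ (by rw [hφ, map_add, map_add, hφ, hφ]) }
  have hΦ : ∀ U, Φ U ≫ g.app ((Opens.map b).obj U) = hm U := fun U => by ext s; exact hφ U s
  let k₀ : S.toPresheafedSpace ⟶ Z.toPresheafedSpace :=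
    { base := b
      c :=
      { app := fun U => Φ U.unop
        naturality := fun U V i => by
          ext s
          apply hinj _
          have h1 := congrArg (fun f => f.hom s)
            (show (Z.presheaf.map i ≫ Φ V.unop) ≫ g.app ((Opens.map b).obj V.unop) =
              (Φ U.unop ≫ S.presheaf.map ((Opens.map b).map i.unop).op) ≫
                g.app ((Opens.map b).obj V.unop) by
              rw [Category.assoc, hΦ, Category.assoc, g.naturality, ← Category.assoc, hΦ]
              simp only [hm, Scheme.Hom.appLE_map, Scheme.Hom.map_appLE])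
          exact h1 } }
  have hloc : ∀ y : S, IsLocalHom (k₀.stalkMap y).hom := by
    intro y
    obtain ⟨x, rfl⟩ := hs y
    refine ⟨fun a ha => ?_⟩
    obtain ⟨U, hU, s, rfl⟩ := Z.presheaf.exists_germ_eq a
    erw [PresheafedSpace.stalkMap_germ_apply] at ha
    have hy : g x ∈ S.basicOpen ((Φ U).hom s) :=
      (S.mem_basicOpen ((Φ U).hom s) (g x) hU).mpr ha
    have hy2 : x ∈ g ⁻¹ᵁ S.basicOpen ((Φ U).hom s) := hy
    rw [Scheme.preimage_basicOpen, ← CommRingCat.comp_apply, hΦ, Scheme.basicOpen_appLE] at hy2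
    have hz : b₀ (g x) ∈ Z.basicOpen s := by rw [hb₀]; exact hy2.2
    exact (Z.mem_basicOpen s (b₀ (g x)) hU).mp hz
  let k : S ⟶ Z := ⟨⟨k₀, hloc⟩⟩
  refine ⟨k, ?_⟩
  have hkb : (g ≫ k).base = h.base := by ext x; exact hb₀ x
  refine Scheme.Hom.ext hkb fun U => ?_
  refine (congrArg (fun m => m ≫ S'.presheaf.map
    (eqToHom congr((Opens.map $hkb.symm).obj U)).op) (hΦ U)).trans ?_
  exact (Scheme.Hom.appLE_map _ _ _).trans (Scheme.Hom.appLE_eq_app h)

theorem effectiveEpi (hq : Topology.IsQuotientMap g)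
    (hinj : ∀ U : S.Opens, Function.Injective (g.app U).hom)
    (heq : ∀ (U : S.Opens) (s' : Γ(S', g ⁻¹ᵁ U)),
      (SGA1.overlapFstApp g U).hom s' = (SGA1.overlapSndApp g U).hom s' →
      s' ∈ Set.range (g.app U).hom) : EffectiveEpi g := by
  have key : ∀ {W : Scheme.{u}} (e : S' ⟶ W),
      (∀ {Z : Scheme.{u}} (g₁ g₂ : Z ⟶ S'), g₁ ≫ g = g₂ ≫ g → g₁ ≫ e = g₂ ≫ e) →
      ∃ k : S ⟶ W, g ≫ k = e := by
    intro W e he
    have hc := he _ _ (pullback.condition (f := g) (g := g))
    refine exists_desc g hq hinj e (fun x x' hx => ?_) fun U V hV s => heq V _ ?_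
    · obtain ⟨z, rfl, rfl⟩ := Scheme.Pullback.exists_preimage_pullback x x' hx
      rw [← Scheme.Hom.comp_apply, ← Scheme.Hom.comp_apply, hc]
    · change (e.appLE U (g ⁻¹ᵁ V) hV ≫ SGA1.overlapFstApp g V).hom s =
        (e.appLE U (g ⁻¹ᵁ V) hV ≫ SGA1.overlapSndApp g V).hom s
      refine congrArg (fun m : Γ(W, U) ⟶ _ => m.hom s) ?_
      unfold SGA1.overlapFstApp SGA1.overlapSndApp
      rw [Scheme.Hom.app_eq_appLE, Scheme.Hom.appLE_comp_appLE, Scheme.Hom.appLE_comp_appLE]
      have k : ∀ (a c : pullback g g ⟶ W) (_ : a = c) (O : W.Opens) (O' : (pullback g g).Opens)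
          (ea : O' ≤ a ⁻¹ᵁ O) (ec : O' ≤ c ⁻¹ᵁ O), a.appLE O O' ea = c.appLE O O' ec := by
        rintro a _ rfl O O' ea ec; rfl
      exact k _ _ hc _ _ _ _
  exact ⟨⟨{
    desc := fun e he => (key e he).choose
    fac := fun e he => (key e he).choose_spec
    uniq := fun e he m hm => eq_of_comp_eq g hq.surjective hinj
      (hm.trans (key e he).choose_spec.symm) }⟩⟩

variable {X Y : Scheme.{u}}

theorem isIso_of_surjective {X Y : Scheme.{u}} (f : X ⟶ Y) [IsOpenImmersion f] [Surjective f] :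
    IsIso f :=
  have : Epi f.base := (TopCat.epi_iff_surjective _).mpr f.surjective
  IsOpenImmersion.isIso f

theorem mono_of_formallyUnramified (f : X ⟶ Y) [FormallyUnramified f] [LocallyOfFiniteType f]
    [UniversallyInjective f] : Mono f := by
  have : Surjective (pullback.diagonal f) := (UniversallyInjective.iff_diagonal f).mp ‹_›
  have : IsIso (pullback.diagonal f) := isIso_of_surjective (pullback.diagonal f)
  exact (pullback.isIso_diagonal_iff f).mp this

theorem isOpenImmersion_of_etale (f : X ⟶ Y) [Etale f] [UniversallyInjective f] :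
    IsOpenImmersion f := by
  have := mono_of_formallyUnramified f
  exact IsOpenImmersion.of_flat_of_mono f

/-- Two morphisms into an unramified scheme agreeing on a surjective base change are equal. -/
theorem eq_of_baseChange {S S' X Y : Scheme.{u}} (g : S' ⟶ S) [Surjective g] (p : X ⟶ S)
    (q : Y ⟶ S) [FormallyUnramified q] [LocallyOfFiniteType q] (u v : X ⟶ Y) (hu : u ≫ q = p)
    (hv : v ≫ q = p) (h : pullback.fst p g ≫ u = pullback.fst p g ≫ v) : u = v := by
  let t : X ⟶ pullback q q := pullback.lift u v (by rw [hu, hv])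
  have hr : Set.range t ⊆ Set.range (pullback.diagonal q) := by
    rintro _ ⟨x, rfl⟩
    obtain ⟨z, rfl⟩ := (pullback.fst p g).surjective x
    refine ⟨u (pullback.fst p g z), ?_⟩
    rw [← Scheme.Hom.comp_apply, ← Scheme.Hom.comp_apply, ← Scheme.Hom.comp_apply]
    refine congrArg (fun m : pullback p g ⟶ pullback q q => m z) ?_
    apply pullback.hom_ext <;>
      simp only [t, Category.assoc, pullback.lift_fst, pullback.lift_snd, pullback.diagonal_fst,
        pullback.diagonal_snd, Category.comp_id, h]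
  let a := IsOpenImmersion.lift (pullback.diagonal q) t hr
  have ha : a ≫ pullback.diagonal q = t := IsOpenImmersion.lift_fac _ _ hr
  have h1 := congrArg (· ≫ pullback.fst q q) ha
  have h2 := congrArg (· ≫ pullback.snd q q) ha
  simp only [t, Category.assoc, pullback.lift_fst, pullback.lift_snd, pullback.diagonal_fst,
    pullback.diagonal_snd, Category.comp_id] at h1 h2
  exact h1.symm.trans h2

theorem existsUnique_opens_descend (g : S' ⟶ S) (hg : Topology.IsQuotientMap g) (U' : S'.Opens)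
    (h : (pullback.fst g g) ⁻¹ᵁ U' = (pullback.snd g g) ⁻¹ᵁ U') : ∃! U : S.Opens, g ⁻¹ᵁ U = U' := by
  have hsat : g ⁻¹' (g '' (U' : Set S')) = U' := by
    refine le_antisymm ?_ (Set.subset_preimage_image _ _)
    rintro x ⟨x', hx', hxx'⟩
    obtain ⟨z, rfl, rfl⟩ := Scheme.Pullback.exists_preimage_pullback x' x hxx'
    have : z ∈ (pullback.fst g g) ⁻¹ᵁ U' := hx'
    rwa [h] at this
  refine ⟨⟨g '' U', hg.isOpen_preimage.mp (by rw [hsat]; exact U'.2)⟩, Opens.ext hsat,
    fun V hV => Opens.ext ?_⟩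
  dsimp only at hV
  subst hV
  exact (hg.surjective.image_preimage (V : Set S)).symm

theorem isOpenImmersion_graph {S X Y : Scheme.{u}} (p : X ⟶ S) (q : Y ⟶ S) [Etale q] (f : X ⟶ Y)
    (hf : 𝟙 X ≫ p = f ≫ q) : IsOpenImmersion (pullback.lift (𝟙 X) f hf : X ⟶ pullback p q) := by
  have : Etale (pullback.lift (𝟙 X) f hf ≫ pullback.fst p q) := by
    rw [pullback.lift_fst]; infer_instance
  have : Etale (pullback.lift (𝟙 X) f hf) := Etale.of_comp _ (pullback.fst p q)
  have : Mono (pullback.lift (𝟙 X) f hf) :=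
    (SplitMono.mk (pullback.fst p q) (pullback.lift_fst _ _ _)).mono
  exact IsOpenImmersion.of_flat_of_mono _

theorem existsUnique_graph {S X Y : Scheme.{u}} (p : X ⟶ S) (q : Y ⟶ S) [Etale q]
    (Γ₀ : (pullback p q).Opens) [UniversallyInjective (Γ₀.ι ≫ pullback.fst p q)]
    [Surjective (Γ₀.ι ≫ pullback.fst p q)] :
    ∃! f : {f : X ⟶ Y // f ≫ q = p},
      Set.range (pullback.lift (𝟙 X) f.1 ((Category.id_comp p).trans f.2.symm) :
        X ⟶ pullback p q) = (Γ₀ : Set ↥(pullback p q)) := by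
  have := isOpenImmersion_of_etale (Γ₀.ι ≫ pullback.fst p q)
  have : IsIso (Γ₀.ι ≫ pullback.fst p q) := isIso_of_surjective _
  let c := inv (Γ₀.ι ≫ pullback.fst p q)
  let s := c ≫ Γ₀.ι
  have hs : s ≫ pullback.fst p q = 𝟙 X := by simp [s, c]
  have hf : (s ≫ pullback.snd p q) ≫ q = p := by
    rw [Category.assoc, ← pullback.condition, ← Category.assoc, hs, Category.id_comp]
  have hlift : pullback.lift (𝟙 X) (s ≫ pullback.snd p q) ((Category.id_comp p).trans hf.symm) = s := by
    apply pullback.hom_ext <;> simp only [pullback.lift_fst, pullback.lift_snd, hs]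
  refine ⟨⟨_, hf⟩, ?_, ?_⟩
  · change Set.range (pullback.lift (𝟙 X) (s ≫ pullback.snd p q) _) = _
    rw [hlift]
    exact (Set.range_comp Γ₀.ι c).trans (by rw [c.surjective.range_eq, Set.image_univ, Scheme.Opens.range_ι])
  · rintro ⟨f, hf'⟩ hr
    apply Subtype.ext
    let l := pullback.lift (𝟙 X) f ((Category.id_comp p).trans hf'.symm)
    have hr' : Set.range l ⊆ Set.range Γ₀.ι := (hr.trans Γ₀.range_ι.symm).le
    let b := IsOpenImmersion.lift Γ₀.ι l hr'
    have hb : b ≫ Γ₀.ι = l := IsOpenImmersion.lift_fac _ _ hr'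
    have hbc : b = c := IsIso.eq_inv_of_inv_hom_id (f := Γ₀.ι ≫ pullback.fst p q) (g := b) (by
      rw [← Category.assoc, hb]; exact pullback.lift_fst _ _ _)
    have := congrArg (· ≫ pullback.snd p q) hb
    simp only [l, pullback.lift_snd, hbc] at this
    exact this.symm

end Sga84
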