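import Groth.Agent.Sga84.Hypersurface
import Mathlib.RingTheory.LocalRing.Module
import Mathlib.LinearAlgebra.TensorProduct.Quotient
import Mathlib.LinearAlgebra.TensorProduct.Pi
import Mathlib.RingTheory.Nakayama

/-! # Smoothness of a quotient of a smooth local algebra -/

set_option autoImplicit false
universe u
open TensorProduct IsLocalRing

namespace Groth.Agent.SmoothQuot84

/-- Formal smoothness of a finitely presented quotient of a local formally smooth algebra. -/
theorem formallySmooth_iff (R L S : Type u) [CommRing R] [CommRing L] [IsLocalRing L] [CommRing S]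
    [Algebra R L] [Algebra.FormallySmooth R L] [Algebra.EssFiniteType R L] [Algebra R S] [Algebra L S]
    [IsScalarTower R L S] [Nontrivial S] (hs : Function.Surjective (algebraMap L S))
    (hfg : (RingHom.ker (algebraMap L S)).FG) {ι : Type u} (g : ι → L)
    (hker : RingHom.ker (algebraMap L S) = Ideal.span (Set.range g)) :
    Algebra.FormallySmooth R S ↔ ∃ t : Finset ι, RingHom.ker (algebraMap L S) = Ideal.span (g '' ↑t) ∧
      LinearIndependent (ResidueField L)
        (fun j : ↥t => (1 : ResidueField L) ⊗ₜ[L] KaehlerDifferential.D R L (g j)) := by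
  classical
  set J := RingHom.ker (algebraMap L S)
  have : Module.Free L Ω[L⁄R] := Module.free_of_flat_of_isLocalRing
  let b := Module.Free.chooseBasis L Ω[L⁄R]
  have hJm : J ≤ maximalIdeal L := le_maximalIdeal (RingHom.ker_ne_top _)
  have hgJ : ∀ i, g i ∈ J := fun i => hker ▸ Ideal.subset_span ⟨i, rfl⟩
  let δ : L → ResidueField L ⊗[L] Ω[L⁄R] := fun x => (1 : ResidueField L) ⊗ₜ[L] KaehlerDifferential.D R L x
  have hker0 : ∀ w : Ω[L⁄R], (1 : ResidueField L) ⊗ₜ[L] w = 0 → w ∈ maximalIdeal L • (⊤ : Submodule L Ω[L⁄R]) := by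
    intro w hw
    rw [← b.linearCombination_repr w, Finsupp.linearCombination_apply, Finsupp.sum]
    refine Submodule.sum_mem _ fun i _ => Submodule.smul_mem_smul ?_ Submodule.mem_top
    rw [← residue_eq_zero_iff]
    have := congrArg (fun z => (b.baseChange (ResidueField L)).repr z i) hw
    simpa [Module.Basis.baseChange_repr_tmul, ← Algebra.algebraMap_eq_smul_one, ResidueField.algebraMap_eq]
      using this
  rw [Algebra.FormallySmooth.iff_split_injection hs]
  constructor
  · rintro ⟨l, hl⟩
    obtain ⟨κ, a, hinj, hspan, hli⟩ := exists_linearIndependent' (ResidueField L) (fun i => δ (g i))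
    have : Finite κ := hli.finite
    have := Fintype.ofFinite κ
    refine ⟨Finset.univ.map ⟨a, hinj⟩, le_antisymm ?_ ?_, ?_⟩
    · refine Submodule.le_of_le_smul_of_le_jacobson_bot hfg (maximalIdeal_le_jacobson ⊥) ?_
      intro x hx
      have hxs : δ x ∈ Submodule.span (ResidueField L) (Set.range ((fun i => δ (g i)) ∘ a)) := by
        rw [hspan]
        have hx' : x ∈ Submodule.span L (Set.range g) := hker.le hx
        induction hx' using Submodule.span_induction with
        | mem z hz => obtain ⟨i, rfl⟩ := hz; exact Submodule.subset_span ⟨i, rfl⟩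
        | zero => simp [δ]
        | add z w hz hw hz' hw' =>
          simp only [δ, map_add, TensorProduct.tmul_add]
          exact add_mem (hz' (hker.ge hz)) (hw' (hker.ge hw))
        | smul c z hz hz' =>
          have hzJ : z ∈ J := hker.ge hz
          have e : δ (c • z) = residue L c • δ z := by
            simp only [δ, smul_eq_mul, Derivation.leibniz, TensorProduct.tmul_add, TensorProduct.tmul_smul]
            rw [← IsScalarTower.algebraMap_smul (ResidueField L) z, ← IsScalarTower.algebraMap_smul (ResidueField L) c,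
              ResidueField.algebraMap_eq, residue_eq_zero_iff z |>.mpr (hJm hzJ), zero_smul, add_zero]
          rw [e]
          exact Submodule.smul_mem _ _ (hz' hzJ)
      rw [Submodule.mem_span_range_iff_exists_fun] at hxs
      obtain ⟨c, hc⟩ := hxs
      choose c' hc' using fun j => residue_surjective (c j)
      let y := x - ∑ j, c' j * g (a j)
      have hsumJ : ∑ j, c' j * g (a j) ∈ J := Ideal.sum_mem _ fun j _ => Ideal.mul_mem_left _ _ (hgJ _)
      have hy : y ∈ J := Ideal.sub_mem _ hx hsumJ
      have hδy : δ y = 0 := by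
        simp only [δ, y, map_sub, map_sum, Derivation.leibniz, TensorProduct.tmul_sub, TensorProduct.tmul_sum,
          TensorProduct.tmul_add, TensorProduct.tmul_smul]
        rw [sub_eq_zero]
        refine hc.symm.trans (Finset.sum_congr rfl fun j _ => ?_)
        rw [← IsScalarTower.algebraMap_smul (ResidueField L) (g (a j)) ((1 : ResidueField L) ⊗ₜ[L] _),
          ResidueField.algebraMap_eq, residue_eq_zero_iff _ |>.mpr (hJm (hgJ _)), zero_smul, add_zero,
          ← IsScalarTower.algebraMap_smul (ResidueField L) (c' j) ((1 : ResidueField L) ⊗ₜ[L] _),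
          ResidueField.algebraMap_eq, hc']
        rfl
      have hcot : Ideal.toCotangent J ⟨y, hy⟩ ∈ maximalIdeal L • (⊤ : Submodule L J.Cotangent) := by
        have hl0 := (LinearMap.congr_fun hl (Ideal.toCotangent J ⟨y, hy⟩)).trans (LinearMap.id_apply _)
        rw [← hl0, LinearMap.comp_apply, KaehlerDifferential.kerCotangentToTensor_toCotangent]
        let F : Ω[L⁄R] →ₗ[L] J.Cotangent := l ∘ₗ (TensorProduct.mk L S Ω[L⁄R] 1)
        have := Submodule.mem_map_of_mem (f := F) (hker0 _ hδy)
        rw [Submodule.map_smul''] at this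
        exact Submodule.smul_mono le_rfl le_top this
      rw [← LinearMap.range_eq_top.mpr (Ideal.toCotangent_surjective J), LinearMap.range_eq_map,
        ← Submodule.map_smul''] at hcot
      obtain ⟨z, hz, hzy⟩ := hcot
      rw [Ideal.toCotangent_eq] at hzy
      have hz' : (z : L) ∈ maximalIdeal L • J := by
        have := Submodule.mem_map_of_mem (f := (Submodule.subtype J)) hz
        rwa [Submodule.map_smul'', Submodule.map_top, Submodule.range_subtype] at this
      have hy' : y ∈ maximalIdeal L • J := by
        have h2 : (z : L) - y ∈ maximalIdeal L • J := Submodule.smul_mono hJm le_rfl (by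
          rw [smul_eq_mul, ← pow_two]; exact hzy)
        simpa using sub_mem hz' h2
      have hsum : ∑ j, c' j * g (a j) ∈ Ideal.span (g '' ↑(Finset.univ.map ⟨a, hinj⟩)) :=
        Ideal.sum_mem _ fun j _ => Ideal.mul_mem_left _ _ (Ideal.subset_span ⟨a j, by simp, rfl⟩)
      rw [show x = ∑ j, c' j * g (a j) + y from (add_sub_cancel _ _).symm]
      exact Submodule.add_mem_sup hsum hy'
    · exact Ideal.span_le.mpr (by rintro _ ⟨i, -, rfl⟩; exact hgJ i)
    · rw [← linearIndependent_equiv (Equiv.ofBijective (fun j : κ =>
        (⟨a j, by simp⟩ : ↥(Finset.univ.map ⟨a, hinj⟩))) ⟨fun i j h => hinj (congrArg Subtype.val h),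
        fun ⟨i, hi⟩ => by simpa using hi⟩)]
      exact hli
  · rintro ⟨t, ht, hli⟩
    let l0 : (↥t → L) →ₗ[L] Ω[L⁄R] := Fintype.linearCombination L fun j => KaehlerDifferential.D R L (g j)
    obtain ⟨ψ, hψ⟩ : ∃ ψ, ψ ∘ₗ l0 = LinearMap.id := by
      rw [split_injective_iff_lTensor_residueField_injective]
      let e := TensorProduct.piScalarRight L (ResidueField L) (ResidueField L) ↥t
      have h1 := Fintype.linearIndependent_iffₛ.mp hli
      intro z z' hzz
      have hcomp : ∀ z, l0.lTensor (ResidueField L) z = ∑ j, e z j • δ (g j) := by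
        intro z
        induction z using TensorProduct.induction_on with
        | zero => simp
        | add z w hz hw => simp only [map_add, hz, hw, Pi.add_apply, add_smul, Finset.sum_add_distrib]
        | tmul r f =>
          simp only [LinearMap.lTensor_tmul, l0, Fintype.linearCombination_apply, TensorProduct.tmul_sum, e,
            TensorProduct.piScalarRight_apply, TensorProduct.piScalarRightHom_tmul, δ,
            TensorProduct.smul_tmul']
          refine Finset.sum_congr rfl fun j _ => ?_
          rw [← TensorProduct.smul_tmul, smul_eq_mul, mul_one]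
      rw [hcomp, hcomp] at hzz
      exact e.injective (funext (h1 _ _ hzz))
    let f : Ω[L⁄R] →ₗ[L] J.Cotangent :=
      Fintype.linearCombination L (fun j : ↥t => Ideal.toCotangent J ⟨g j, hgJ j⟩) ∘ₗ ψ
    have hf : ∀ j : ↥t, f (KaehlerDifferential.D R L (g j)) = Ideal.toCotangent J ⟨g j, hgJ j⟩ := fun j => by
      have := LinearMap.congr_fun hψ (Pi.single j 1)
      simp only [l0, LinearMap.comp_apply, Fintype.linearCombination_apply_single, one_smul,
        LinearMap.id_apply] at this
      simp [f, this, Fintype.linearCombination_apply_single]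
    let Jk : Ideal L := LinearMap.ker (Algebra.linearMap L S)
    have hJk : ∀ {x}, x ∈ Jk ↔ x ∈ J := fun {x} => Iff.rfl
    have hf0 : Jk • (⊤ : Submodule L Ω[L⁄R]) ≤ LinearMap.ker f := by
      rw [Submodule.smul_le]
      intro r hr w _
      rw [LinearMap.mem_ker, map_smul]
      obtain ⟨⟨y, hy⟩, hy'⟩ := Ideal.toCotangent_surjective J (f w)
      rw [← hy', ← map_smul, Ideal.toCotangent_eq_zero]
      show r * y ∈ J ^ 2
      rw [pow_two]
      exact Ideal.mul_mem_mul hr hy
    let φ := ((Algebra.linearMap L S).quotKerEquivOfSurjective hs).symm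
    refine ⟨(Submodule.liftQ _ f hf0) ∘ₗ (TensorProduct.quotTensorEquivQuotSMul Ω[L⁄R] Jk).toLinearMap ∘ₗ
      φ.toLinearMap.rTensor Ω[L⁄R], LinearMap.ext fun c => ?_⟩
    obtain ⟨⟨x, hx⟩, rfl⟩ := Ideal.toCotangent_surjective J c
    have hφ : φ 1 = Ideal.Quotient.mk Jk 1 := by
      rw [LinearEquiv.symm_apply_eq]
      exact (map_one (algebraMap L S)).symm
    rw [LinearMap.comp_apply, KaehlerDifferential.kerCotangentToTensor_toCotangent, LinearMap.comp_apply,
      LinearMap.comp_apply, LinearMap.rTensor_tmul, LinearEquiv.coe_coe, LinearEquiv.coe_coe, hφ,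
      TensorProduct.quotTensorEquivQuotSMul_mk_tmul, one_smul, LinearMap.id_apply]
    show f (KaehlerDifferential.D R L x) = _
    have hx' : x ∈ Submodule.span L (g '' ↑t) := ht.le hx
    induction hx' using Submodule.span_induction with
    | mem z hz => obtain ⟨i, hi, rfl⟩ := hz; exact hf ⟨i, hi⟩
    | zero => simp only [map_zero]; exact (map_zero J.toCotangent).symm
    | add z w hz hw hz' hw' =>
      rw [map_add, map_add, hz' (ht.ge hz), hw' (ht.ge hw), ← map_add]
      rfl
    | smul c z hz hz' =>
      have hzJ : z ∈ J := ht.ge hz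
      have h0 : f (z • KaehlerDifferential.D R L c) = 0 :=
        hf0 (Submodule.smul_mem_smul (hJk.mpr hzJ) Submodule.mem_top)
      show f (KaehlerDifferential.D R L (c * z)) = _
      rw [Derivation.leibniz, map_add, map_smul, h0, add_zero, hz' hzJ, ← map_smul]
      rfl

end Groth.Agent.SmoothQuot84
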