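import Mathlib

/-! # Closures of images under quasi-compact morphisms; descent of topological properties -/

set_option autoImplicit false
universe u
open CategoryTheory CategoryTheory.Limits AlgebraicGeometry TopologicalSpace Opposite

namespace Sga84

variable {X Y : Scheme.{u}}

theorem exists_specializes_of_mem_closure_comap {R S : Type*} [CommRing R] [CommRing S] (f : R →+* S)
    {Z : Set (PrimeSpectrum S)} (hZ : IsClosed Z) {q : PrimeSpectrum R}
    (hq : q ∈ closure (PrimeSpectrum.comap f '' Z)) :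
    ∃ P ∈ Z, PrimeSpectrum.comap f P ⤳ q := by
  obtain ⟨I, rfl⟩ := (PrimeSpectrum.isClosed_iff_zeroLocus_ideal Z).mp hZ
  have h1 : q ∈ PrimeSpectrum.zeroLocus (I.comap f : Set R) := by
    refine closure_minimal ?_ (PrimeSpectrum.isClosed_zeroLocus _) hq
    rintro _ ⟨P, hP, rfl⟩
    exact Ideal.comap_mono hP
  obtain ⟨q', hq', hle⟩ := Ideal.exists_minimalPrimes_le (J := q.asIdeal) h1
  obtain ⟨P, hP, hIP, rfl⟩ := Ideal.exists_comap_eq_of_mem_minimalPrimes f _ hq'
  exact ⟨⟨P, hP⟩, hIP, (PrimeSpectrum.le_iff_specializes _ _).mp hle⟩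

theorem exists_specializes_of_mem_closure (f : X ⟶ Y) [QuasiCompact f] {Z : Set X} (hZ : IsClosed Z)
    {y : Y} (hy : y ∈ closure (f '' Z)) : ∃ z ∈ Z, f z ⤳ y := by
  obtain ⟨U, hU, hyU, -⟩ := exists_isAffineOpen_mem_and_subset (x := y) (U := ⊤) trivial
  have : CompactSpace (f ⁻¹ᵁ U).toScheme :=
    isCompact_iff_compactSpace.mp (f.isCompact_preimage hU.isCompact)
  obtain ⟨R, g, hg⟩ := compactSpace_iff_exists.mp this
  let m : Spec R ⟶ Spec Γ(Y, U) := g ≫ (f ∣_ U) ≫ hU.isoSpec.hom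
  let φ := Spec.preimage m
  have hm : m ≫ hU.fromSpec = g ≫ (f ⁻¹ᵁ U).ι ≫ f := by
    simp only [m, Category.assoc, IsAffineOpen.fromSpec, Iso.hom_inv_id_assoc, morphismRestrict_ι]
  obtain ⟨q, rfl⟩ : ∃ q, hU.fromSpec q = y := ⟨_, hU.fromSpec_primeIdealOf ⟨y, hyU⟩⟩
  let Z' : Set (Spec R) := (g ≫ (f ⁻¹ᵁ U).ι) ⁻¹' Z
  have hmφ : ∀ a, hU.fromSpec (PrimeSpectrum.comap φ.hom a) = f ((g ≫ (f ⁻¹ᵁ U).ι) a) := fun a => by
    refine (congrArg (fun k : Spec R ⟶ Spec Γ(Y, U) => hU.fromSpec (k a))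
      (Spec.map_preimage m)).trans ?_
    rw [← Scheme.Hom.comp_apply, hm]; rfl
  have hq : q ∈ closure (PrimeSpectrum.comap φ.hom '' Z') := by
    have h1 : q ∈ closure (hU.fromSpec ⁻¹' (f '' Z)) := by
      rw [← hU.fromSpec.isOpenEmbedding.isOpenMap.preimage_closure_eq_closure_preimage
        hU.fromSpec.continuous]
      exact hy
    refine closure_mono ?_ h1
    rintro b ⟨z, hz, hzb⟩
    have hzU : z ∈ f ⁻¹ᵁ U := by
      change f z ∈ U
      rw [hzb]
      exact hU.range_fromSpec.le ⟨b, rfl⟩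
    obtain ⟨a, ha⟩ := hg ⟨z, hzU⟩
    have hga : (g ≫ (f ⁻¹ᵁ U).ι) a = z := by
      rw [Scheme.Hom.comp_apply, ha]; rfl
    exact ⟨a, show (g ≫ (f ⁻¹ᵁ U).ι) a ∈ Z from hga.symm ▸ hz,
      hU.fromSpec.isOpenEmbedding.injective (by rw [hmφ, hga, hzb])⟩
  obtain ⟨P, hP, hs⟩ := exists_specializes_of_mem_closure_comap φ.hom
    (hZ.preimage (g ≫ (f ⁻¹ᵁ U).ι).continuous) hq
  exact ⟨_, hP, (hmφ P).symm ▸ hs.map hU.fromSpec.continuous⟩

theorem descendsAlong_quasiCompact :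
    MorphismProperty.DescendsAlong @QuasiCompact
      (@Surjective ⊓ @QuasiCompact : MorphismProperty Scheme.{u}) := by
  refine ⟨fun {A X Y Z fst snd f g} h hf hfst => ⟨fun U hU hUc => ?_⟩⟩
  obtain ⟨hf1, hf2⟩ := hf
  have := hfst
  have := hf1
  have := hf2
  have h1 : IsCompact ((f : X → Z) ⁻¹' U) := f.isCompact_preimage (U := ⟨U, hU⟩) hUc
  have h2 : IsCompact ((fst : A → X) ⁻¹' ((f : X → Z) ⁻¹' U)) :=
    fst.isCompact_preimage (U := ⟨_, hU.preimage f.continuous⟩) h1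
  have : Surjective snd := MorphismProperty.of_isPullback (P := @Surjective) h hf1
  have e : (g : Y → Z) ⁻¹' U = (snd : A → Y) '' ((fst : A → X) ⁻¹' ((f : X → Z) ⁻¹' U)) := by
    rw [← Set.preimage_comp, show (f : X → Z) ∘ fst = (g : Y → Z) ∘ snd from
      funext fun a => by
        change f (fst a) = g (snd a)
        rw [← Scheme.Hom.comp_apply, ← Scheme.Hom.comp_apply, h.w],
      Set.preimage_comp, snd.surjective.image_preimage]
  rw [e]
  exact h2.image snd.continuous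

theorem isEmbedding_of_baseChange {Y' : Scheme.{u}} (f : X ⟶ Y) (g : Y' ⟶ Y) [QuasiCompact f]
    [Flat g] [Surjective g] (h : Topology.IsEmbedding (pullback.snd f g)) :
    Topology.IsEmbedding f := by
  have hinj : Function.Injective f := fun x₁ x₂ e => by
    obtain ⟨y', hy'⟩ := g.surjective (f x₁)
    obtain ⟨z₁, a₁, b₁⟩ := Scheme.Pullback.exists_preimage_pullback (f := f) (g := g) x₁ y' hy'.symm
    obtain ⟨z₂, a₂, b₂⟩ := Scheme.Pullback.exists_preimage_pullback (f := f) (g := g) x₂ y'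
      (e.symm.trans hy'.symm)
    rw [← a₁, ← a₂, h.injective (b₁.trans b₂.symm)]
  refine ⟨⟨TopologicalSpace.ext_isClosed fun Z => ?_⟩, hinj⟩
  refine ⟨fun hZ => isClosed_induced_iff.mpr ⟨closure (f '' Z), isClosed_closure, ?_⟩, fun hZ => ?_⟩
  · refine le_antisymm (fun x hx => ?_) (fun x hx => subset_closure ⟨x, hx, rfl⟩)
    obtain ⟨z, hz, hzx⟩ := exists_specializes_of_mem_closure f hZ hx
    obtain ⟨y', hy'⟩ := g.surjective (f x)
    obtain ⟨y'', hyy, hy''⟩ := Flat.generalizingMap (f := g) (hy'.symm ▸ hzx : f z ⤳ g y')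
    obtain ⟨x', a₁, b₁⟩ := Scheme.Pullback.exists_preimage_pullback (f := f) (g := g) x y' hy'.symm
    obtain ⟨z', a₂, b₂⟩ := Scheme.Pullback.exists_preimage_pullback (f := f) (g := g) z y'' hy''.symm
    have hs : z' ⤳ x' := h.isInducing.specializes_iff.mp (by rw [b₁, b₂]; exact hyy)
    have := hs.map (pullback.fst f g).continuous
    rw [a₁, a₂] at this
    exact this.mem_closed hZ hz
  · obtain ⟨t, ht, rfl⟩ := isClosed_induced_iff.mp hZ
    exact ht.preimage f.continuous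

end Sga84
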