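import Mathlib.RingTheory.Flat.Equalizer
import Mathlib.RingTheory.Flat.Tensor
import Mathlib.RingTheory.Flat.Localization
import Mathlib.LinearAlgebra.TensorProduct.RightExactness
import Mathlib.LinearAlgebra.TensorProduct.Pi
import Mathlib.Algebra.Module.Torsion.Basic
import Mathlib.RingTheory.Ideal.AssociatedPrime.Finiteness
import Mathlib.RingTheory.Localization.AtPrime.Basic

universe u v
open TensorProduct

namespace Groth.Agent.FlatNilCrit84

variable {A : Type u} [CommRing A]

theorem rTensor_injective_of_killed {J : Ideal A} {M : Type v} [AddCommGroup M] [Module A M]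
    [Module.Flat (A ⧸ J) ((A ⧸ J) ⊗[A] M)]
    {N N' : Type*} [AddCommGroup N] [Module A N] [AddCommGroup N'] [Module A N']
    (hN : Module.IsTorsionBySet A N J) (hN' : Module.IsTorsionBySet A N' J)
    (g : N →ₗ[A] N') (hg : Function.Injective g) : Function.Injective (g.rTensor M) := by
  let := hN.module
  let := hN'.module
  have : IsScalarTower A (A ⧸ J) N := hN.isScalarTower
  have : IsScalarTower A (A ⧸ J) N' := hN'.isScalarTower
  let g' : N →ₗ[A ⧸ J] N' :=
    { toFun := g
      map_add' := g.map_add
      map_smul' := fun c n => by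
        obtain ⟨c, rfl⟩ := Ideal.Quotient.mk_surjective c
        exact g.map_smul c n }
  have h := Module.Flat.rTensor_preserves_injective_linearMap (M := (A ⧸ J) ⊗[A] M) g' hg
  let e := TensorProduct.AlgebraTensorModule.cancelBaseChange A (A ⧸ J) (A ⧸ J) N M
  let e' := TensorProduct.AlgebraTensorModule.cancelBaseChange A (A ⧸ J) (A ⧸ J) N' M
  have key : ∀ z, g.rTensor M (e z) = e' (g'.rTensor ((A ⧸ J) ⊗[A] M) z) := by
    intro z
    induction z using TensorProduct.induction_on with
    | zero => simp
    | add x y hx hy => simp only [map_add, hx, hy]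
    | tmul n w =>
      induction w using TensorProduct.induction_on with
      | zero => simp
      | add x y hx hy => simp only [tmul_add, map_add, hx, hy]
      | tmul c m =>
        simp only [e, e', LinearMap.rTensor_tmul, TensorProduct.AlgebraTensorModule.cancelBaseChange_tmul]
        rw [show g (c • n) = c • g' n from g'.map_smul c n]
  intro x y hxy
  obtain ⟨x, rfl⟩ := e.surjective x
  obtain ⟨y, rfl⟩ := e.surjective y
  rw [key, key] at hxy
  exact congrArg e (h (e'.injective hxy))

theorem flat_of_nilpotent_injective {J : Ideal A} (hJ : IsNilpotent J) (M : Type v) [AddCommGroup M]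
    [Module A M] [Module.Flat (A ⧸ J) ((A ⧸ J) ⊗[A] M)]
    (hinj : Function.Injective (J.subtype.rTensor M)) : Module.Flat A M := by
  -- submodules of free modules containing `J F`
  have hfree : ∀ (F : Type u) [AddCommGroup F] [Module A F] [Module.Flat A F] (R : Submodule A F),
      J • (⊤ : Submodule A F) ≤ R → Function.Injective (R.subtype.rTensor M) := by
    intro F _ _ _ R hR
    rw [← LinearMap.ker_eq_bot, eq_bot_iff]
    intro x hx
    rw [LinearMap.mem_ker] at hx
    rw [Submodule.mem_bot]
    let S : Submodule A R := (J • (⊤ : Submodule A F)).comap R.subtype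
    let g : (R ⧸ S) →ₗ[A] F ⧸ (J • (⊤ : Submodule A F)) := Submodule.mapQ _ _ R.subtype le_rfl
    have hgi : Function.Injective g := by
      rw [← LinearMap.ker_eq_bot, eq_bot_iff]
      intro q hq
      obtain ⟨r, rfl⟩ := S.mkQ_surjective q
      rw [LinearMap.mem_ker, Submodule.mkQ_apply, Submodule.mapQ_apply, Submodule.Quotient.mk_eq_zero] at hq
      rw [Submodule.mem_bot, Submodule.mkQ_apply, Submodule.Quotient.mk_eq_zero]
      exact hq
    have hk1 : Module.IsTorsionBySet A (F ⧸ (J • (⊤ : Submodule A F))) J :=
      (Module.isTorsionBySet_quotient_iff _ _).mpr fun z a ha => Submodule.smul_mem_smul ha Submodule.mem_top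
    have hk2 : Module.IsTorsionBySet A (R ⧸ S) J :=
      (Module.isTorsionBySet_quotient_iff _ _).mpr fun z a ha =>
        (Submodule.smul_mem_smul ha (Submodule.mem_top (x := (z : F))) : a • (z : F) ∈ J • (⊤ : Submodule A F))
    have h1 : S.mkQ.rTensor M x = 0 := by
      apply rTensor_injective_of_killed hk2 hk1 g hgi
      rw [map_zero, ← LinearMap.rTensor_comp_apply,
        show g ∘ₗ S.mkQ = (J • (⊤ : Submodule A F)).mkQ ∘ₗ R.subtype from rfl,
        LinearMap.rTensor_comp_apply, hx, map_zero]
    obtain ⟨y, rfl⟩ := ((rTensor_exact M (LinearMap.exact_subtype_mkQ S) S.mkQ_surjective) x).mp h1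
    let μ0 : ↥J ⊗[A] F →ₗ[A] F := (TensorProduct.lid A F).toLinearMap ∘ₗ J.subtype.rTensor F
    have hμmem : ∀ w, μ0 w ∈ J • (⊤ : Submodule A F) := by
      intro w
      induction w using TensorProduct.induction_on with
      | zero => simp
      | add a b ha hb => rw [map_add]; exact add_mem ha hb
      | tmul j f => simpa [μ0] using Submodule.smul_mem_smul j.2 (Submodule.mem_top (x := f))
    let μ : ↥J ⊗[A] F →ₗ[A] S :=
      LinearMap.codRestrict S (LinearMap.codRestrict R μ0 fun w => hR (hμmem w)) fun w => hμmem w
    have hμs : Function.Surjective μ := by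
      rintro ⟨⟨f, hfR⟩, hf⟩
      have hf' : f ∈ J • (⊤ : Submodule A F) := hf
      have : f ∈ LinearMap.range μ0 := by
        refine Submodule.smul_le.mpr ?_ hf'
        intro j hj z _
        exact ⟨(⟨j, hj⟩ : ↥J) ⊗ₜ z, by simp [μ0]⟩
      obtain ⟨w, hw⟩ := this
      exact ⟨w, Subtype.ext (Subtype.ext hw)⟩
    obtain ⟨z, rfl⟩ := LinearMap.rTensor_surjective M hμs y
    have h2 : μ0.rTensor M z = 0 := by
      rw [← hx, ← LinearMap.rTensor_comp_apply, ← LinearMap.rTensor_comp_apply]
      rfl
    have h3 : Function.Injective (μ0.rTensor M) := by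
      have hinj' : Function.Injective ((J.subtype.rTensor M).rTensor F) :=
        Module.Flat.rTensor_preserves_injective_linearMap _ hinj
      have e : ∀ t, μ0.rTensor M t = ((TensorProduct.lid A F).toLinearMap.rTensor M)
          ((TensorProduct.rightComm A A M F).toLinearMap
            ((J.subtype.rTensor M).rTensor F ((TensorProduct.rightComm A ↥J F M).toLinearMap t))) := by
        intro t
        induction t using TensorProduct.induction_on with
        | zero => simp
        | add a b ha hb => simp only [map_add, ha, hb]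
        | tmul w m =>
          induction w using TensorProduct.induction_on with
          | zero => simp
          | add a b ha hb => simp only [add_tmul, map_add, ha, hb]
          | tmul j f => simp [μ0]
      intro a b hab
      rw [e, e] at hab
      have hl : Function.Injective ((TensorProduct.lid A F).toLinearMap.rTensor M) :=
        ((TensorProduct.lid A F).rTensor M).injective
      exact (TensorProduct.rightComm A ↥J F M).injective (hinj' ((TensorProduct.rightComm A A M F).injective (hl hab)))
    have : z = 0 := h3 (by rw [h2, map_zero])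
    simp [this]
  -- submodules with quotient killed by J
  have hstep : ∀ (L : Type u) [AddCommGroup L] [Module A L] (L' : Submodule A L),
      J • (⊤ : Submodule A L) ≤ L' → Function.Injective (L'.subtype.rTensor M) := by
    intro L _ _ L' hL
    let π : (L →₀ A) →ₗ[A] L := Finsupp.linearCombination A id
    have hπ : Function.Surjective π := Finsupp.linearCombination_id_surjective A L
    let R : Submodule A (L →₀ A) := L'.comap π
    have hR : J • (⊤ : Submodule A (L →₀ A)) ≤ R := by
      rw [← Submodule.map_le_iff_le_comap, Submodule.map_smul'', Submodule.map_top,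
        LinearMap.range_eq_top.mpr hπ]
      exact hL
    rw [← LinearMap.ker_eq_bot, eq_bot_iff]
    intro y hy
    rw [LinearMap.mem_ker] at hy
    let π' : R →ₗ[A] L' := π.restrict fun _ h => h
    have hπ' : Function.Surjective π' := by
      rintro ⟨l, hl⟩
      obtain ⟨f, rfl⟩ := hπ l
      exact ⟨⟨f, hl⟩, rfl⟩
    obtain ⟨r, rfl⟩ := LinearMap.rTensor_surjective M hπ' y
    have h1 : π.rTensor M (R.subtype.rTensor M r) = 0 := by
      rw [← hy, ← LinearMap.rTensor_comp_apply, ← LinearMap.rTensor_comp_apply]
      rfl
    obtain ⟨s, hs⟩ := ((rTensor_exact (R := A) (M := ↥(LinearMap.ker π)) (N := L →₀ A) (P := L) (f := (LinearMap.ker π).subtype) (g := π) M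
      (LinearMap.exact_subtype_ker_map π) hπ) _).mp h1
    let k : LinearMap.ker π →ₗ[A] R := Submodule.inclusion fun f hf => by
      show π f ∈ L'
      rw [LinearMap.mem_ker.mp hf]; exact zero_mem _
    have h2 : r = k.rTensor M s := hfree (L →₀ A) R hR (by
      rw [← hs, ← LinearMap.rTensor_comp_apply]; rfl)
    have h3 : π' ∘ₗ k = 0 := LinearMap.ext fun f => Subtype.ext (LinearMap.mem_ker.mp f.2)
    rw [Submodule.mem_bot, h2, ← LinearMap.rTensor_comp_apply, h3, LinearMap.rTensor_zero, LinearMap.zero_apply]
  rw [Module.Flat.iff_rTensor_injective']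
  intro I
  obtain ⟨n, hn⟩ := hJ
  have key : ∀ k : ℕ, Function.Injective ((I ⊔ J ^ k : Ideal A).subtype.rTensor M) := by
    intro k
    induction k with
    | zero =>
      exact hstep A (I ⊔ J ^ 0) (by simp)
    | succ k ih =>
      let L : Ideal A := I ⊔ J ^ k
      let L' : Ideal A := I ⊔ J ^ (k + 1)
      have hle : L' ≤ L := sup_le_sup_left (Ideal.pow_le_pow_right (Nat.le_succ k)) I
      have hJL : J • (⊤ : Submodule A L) ≤ Submodule.comap L.subtype L' := by
        rw [← Submodule.map_le_iff_le_comap, Submodule.map_smul'', Submodule.map_subtype_top, smul_eq_mul]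
        show J * (I ⊔ J ^ k) ≤ I ⊔ J ^ (k + 1)
        rw [Ideal.mul_sup, ← pow_succ']
        exact sup_le_sup_right Ideal.mul_le_right _
      have h1 := hstep L (Submodule.comap L.subtype L') hJL
      let e : ↥L' ≃ₗ[A] ↥(Submodule.comap L.subtype L') := (Submodule.comapSubtypeEquivOfLe hle).symm
      have h2 : L'.subtype = L.subtype ∘ₗ ((Submodule.comap L.subtype L').subtype ∘ₗ e.toLinearMap) := by
        ext z; rfl
      show Function.Injective (L'.subtype.rTensor M)
      rw [h2, LinearMap.rTensor_comp, LinearMap.rTensor_comp, LinearMap.coe_comp, LinearMap.coe_comp]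
      exact ih.comp (h1.comp (e.rTensor M).injective)
  have := key n
  rw [hn, Ideal.zero_eq_bot, sup_bot_eq] at this
  exact this

end Groth.Agent.FlatNilCrit84
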