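import Groth.Agent.Sga84.Epi

/-! # Morphisms into etale schemes descend along universally submersive morphisms -/

set_option autoImplicit false
universe u
open CategoryTheory CategoryTheory.Limits AlgebraicGeometry TopologicalSpace

namespace Sga84

instance : MorphismProperty.IsStableUnderBaseChange (SGA1.UnivSubmersive.{u}) :=
  MorphismProperty.universally_isStableUnderBaseChange _

theorem surjective_of_univSubmersive {S S' : Scheme.{u}} (g : S' ⟶ S) (hg : SGA1.UnivSubmersive g) :
    Surjective g :=
  ⟨(hg _ _ _ IsPullback.of_id_snd).surjective⟩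

theorem existsUnique_desc_etale {S S' X Y : Scheme.{u}} (g : S' ⟶ S) (hg : SGA1.UnivSubmersive g)
    (p : X ⟶ S) (q : Y ⟶ S) [Etale q] (b : pullback p g ⟶ Y)
    (hb : b ≫ q = pullback.fst p g ≫ p)
    (hcoc : ∀ {T : Scheme.{u}} (a w : T ⟶ pullback p g),
      a ≫ pullback.fst p g = w ≫ pullback.fst p g → a ≫ b = w ≫ b) :
    ∃! u : X ⟶ Y, u ≫ q = p ∧ b = pullback.fst p g ≫ u := by
  have hsg := surjective_of_univSubmersive g hg
  let c := pullback.fst p g
  have hc : SGA1.UnivSubmersive c :=
    MorphismProperty.of_isPullback (P := SGA1.UnivSubmersive)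
      (IsPullback.of_hasPullback p g).flip hg
  let r := pullback.fst p q
  let h := pullback.snd c r
  have hh : Topology.IsQuotientMap h := hc _ _ _ (IsPullback.of_hasPullback c r).flip
  let t : pullback p g ⟶ pullback p q := pullback.lift c b hb.symm
  have ht : t ≫ r = c := pullback.lift_fst _ _ _
  let γ : pullback p g ⟶ pullback c r := pullback.lift (𝟙 _) t (by rw [Category.id_comp, ht])
  have hγ : γ ≫ pullback.fst c r = 𝟙 _ := pullback.lift_fst _ _ _
  have : IsOpenImmersion γ := isOpenImmersion_graph c r t _
  have hsat : h ⁻¹' Set.range t = Set.range γ := by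
    refine le_antisymm ?_ ?_
    · rintro z ⟨w, hw⟩
      obtain ⟨ω, hω1, hω2⟩ := Scheme.Pullback.exists_preimage_pullback (f := h) (g := t) z w hw.symm
      let a := pullback.fst h t ≫ pullback.fst c r
      have hac : a ≫ c = pullback.snd h t ≫ c := by
        rw [Category.assoc, pullback.condition (f := c), ← Category.assoc,
          pullback.condition (f := h), Category.assoc, ht]
      have hab := hcoc a _ hac
      have hat : a ≫ t = pullback.snd h t ≫ t := by
        apply pullback.hom_ext
        · simp only [Category.assoc, t, pullback.lift_fst]; exact hac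
        · simp only [Category.assoc, t, pullback.lift_snd]; exact hab
      have : a ≫ γ = pullback.fst h t := by
        apply pullback.hom_ext
        · simp only [Category.assoc, γ, pullback.lift_fst, Category.comp_id, a]
        · simp only [Category.assoc, γ, pullback.lift_snd]
          rw [hat, ← pullback.condition]
      exact ⟨a ω, by rw [← Scheme.Hom.comp_apply, this, hω1]⟩
    · rintro _ ⟨w, rfl⟩
      exact ⟨w, by rw [← Scheme.Hom.comp_apply, pullback.lift_snd]⟩
  let Γ₀ : (pullback p q).Opens := ⟨Set.range t, hh.isOpen_preimage.mp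
    (hsat ▸ γ.isOpenEmbedding.isOpen_range)⟩
  let k := Γ₀.ι ≫ r
  let t' : pullback p g ⟶ Γ₀.toScheme :=
    IsOpenImmersion.lift Γ₀.ι t (by rw [Scheme.Opens.range_ι]; exact le_rfl)
  have ht' : t' ≫ Γ₀.ι = t := IsOpenImmersion.lift_fac _ _ _
  have ht'k : t' ≫ k = c := by rw [← Category.assoc, ht', ht]
  have key : ∀ {T : Scheme.{u}} (w : T ⟶ pullback p g) (a : T ⟶ Γ₀.toScheme), a ≫ k = w ≫ c →
      a = w ≫ t' := by
    intro T w a ha
    let l : T ⟶ pullback c r := pullback.lift w (a ≫ Γ₀.ι) (by rw [Category.assoc]; exact ha.symm)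
    have hl : Set.range l ⊆ Set.range γ := by
      rw [← hsat]
      rintro _ ⟨y, rfl⟩
      change h (l y) ∈ (Γ₀ : Set ↥(pullback p q))
      rw [← Scheme.Hom.comp_apply, pullback.lift_snd, Scheme.Hom.comp_apply]
      exact (a y).2
    let m := IsOpenImmersion.lift γ l hl
    have hm : m ≫ γ = l := IsOpenImmersion.lift_fac _ _ hl
    have h1 := congrArg (· ≫ pullback.fst c r) hm
    have h2 := congrArg (· ≫ pullback.snd c r) hm
    simp only [Category.assoc, hγ, l, pullback.lift_fst, pullback.lift_snd, Category.comp_id] at h1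
    simp only [Category.assoc, γ, l, pullback.lift_snd] at h2
    rw [← cancel_mono Γ₀.ι, ← h2, h1, Category.assoc, ht']
  have hcs : Function.Surjective c := c.surjective
  have : Surjective k := ⟨fun x => by
    obtain ⟨y, rfl⟩ := hcs x
    exact ⟨t' y, by rw [← Scheme.Hom.comp_apply, ht'k]⟩⟩
  have : UniversallyInjective k := (UniversallyInjective.iff_diagonal k).mpr ⟨fun z => by
    obtain ⟨x', hx'⟩ := hcs ((pullback.fst k k ≫ k) z)
    obtain ⟨z', hz1, -⟩ := Scheme.Pullback.exists_preimage_pullback (f := pullback.fst k k ≫ k)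
      (g := c) z x' hx'.symm
    let e := pullback.fst (pullback.fst k k ≫ k) c
    let w := pullback.snd (pullback.fst k k ≫ k) c
    have e1 : e ≫ pullback.fst k k = w ≫ t' := key w _ (by
      rw [Category.assoc]; exact pullback.condition)
    have e2 : e ≫ pullback.snd k k = w ≫ t' := key w _ (by
      rw [Category.assoc, ← pullback.condition]; exact pullback.condition)
    have : e = (w ≫ t') ≫ pullback.diagonal k := by
      apply pullback.hom_ext <;>
        simp only [Category.assoc, pullback.diagonal_fst, pullback.diagonal_snd, Category.comp_id]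
      exacts [e1, e2]
    exact ⟨(w ≫ t') z', by rw [← Scheme.Hom.comp_apply, ← this]; exact hz1⟩⟩
  have : IsOpenImmersion k := isOpenImmersion_of_etale k
  have : IsIso k := isIso_of_surjective k
  let u := inv k ≫ Γ₀.ι ≫ pullback.snd p q
  have hu : u ≫ q = p := by
    simp only [u, Category.assoc, ← pullback.condition]
    rw [← Category.assoc Γ₀.ι, IsIso.inv_hom_id_assoc]
  have hbu : b = c ≫ u := by
    rw [← ht'k, Category.assoc, IsIso.hom_inv_id_assoc, ← Category.assoc, ht']
    exact (pullback.lift_snd _ _ _).symm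
  refine ⟨u, ⟨hu, hbu⟩, fun v hv => ?_⟩
  exact eq_of_baseChange g p q v u hv.1 hu (hv.2.symm.trans hbu)

end Sga84
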