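import Mathlib.AlgebraicGeometry.Morphisms.Etale
import Mathlib.AlgebraicGeometry.Morphisms.QuasiFinite
import Mathlib.AlgebraicGeometry.ResidueField
import Mathlib.FieldTheory.Galois.Basic
import Mathlib.FieldTheory.SeparableDegree
import Groth.Agent.Unr55.GeomCount

/-! # Residue extensions in a finite étale cover with simply transitive group action on geometric fibres -/

set_option autoImplicit false
universe u v
open CategoryTheory CategoryTheory.Limits AlgebraicGeometry

namespace Groth.Agent.PrincipalGalois84

theorem isGalois_residueField {Z T : Scheme.{u}} (q : Z ⟶ T) [Etale q]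
    {C : Type v} [Group C] [Finite C] (act : C →* Aut Z) (hact : ∀ c, (act c).hom ≫ q = q)
    (htrans : ∀ (Ω : Type u) [Field Ω] [IsAlgClosed Ω] (s t : Spec (CommRingCat.of Ω) ⟶ Z),
      s ≫ q = t ≫ q → ∃! c : C, s ≫ (act c).hom = t) (z : Z) :
    letI := (q.residueFieldMap z).hom.toAlgebra
    FiniteDimensional (T.residueField (q z)) (Z.residueField z) ∧
      IsGalois (T.residueField (q z)) (Z.residueField z) ∧
      Module.finrank (T.residueField (q z)) (Z.residueField z) ∣ Nat.card C := by
  let : Algebra (T.residueField (q z)) (Z.residueField z) := (q.residueFieldMap z).hom.toAlgebra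
  have hfin : FiniteDimensional (T.residueField (q z)) (Z.residueField z) := by
    let : Algebra (T.presheaf.stalk (q z)) (Z.presheaf.stalk z) := (q.stalkMap z).hom.toAlgebra
    have : IsLocalHom (algebraMap (T.presheaf.stalk (q z)) (Z.presheaf.stalk z)) :=
      inferInstanceAs <| IsLocalHom (q.stalkMap z).hom
    have : Algebra.EssFiniteType (T.presheaf.stalk (q z)) (Z.presheaf.stalk z) := by
      rw [← RingHom.essFiniteType_algebraMap, RingHom.algebraMap_toAlgebra]
      exact LocallyOfFiniteType.stalkMap q z
    have : Algebra.FormallyUnramified (T.presheaf.stalk (q z)) (Z.presheaf.stalk z) := by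
      rw [← RingHom.formallyUnramified_algebraMap, RingHom.algebraMap_toAlgebra]
      exact FormallyUnramified.stalkMap q z
    have h : Module.Finite (IsLocalRing.ResidueField (T.presheaf.stalk (q z))) (IsLocalRing.ResidueField (Z.presheaf.stalk z)) :=
      inferInstance
    exact Module.Finite.of_equiv_equiv
      (RingEquiv.refl (IsLocalRing.ResidueField (T.presheaf.stalk (q z))) : IsLocalRing.ResidueField (T.presheaf.stalk (q z)) ≃+* T.residueField (q z))
      (RingEquiv.refl (IsLocalRing.ResidueField (Z.presheaf.stalk z)) : IsLocalRing.ResidueField (Z.presheaf.stalk z) ≃+* Z.residueField z)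
      (RingHom.ext fun r => by
        obtain ⟨r, rfl⟩ := IsLocalRing.residue_surjective r
        rfl)
  have hsep : Algebra.IsSeparable (T.residueField (q z)) (Z.residueField z) := inferInstance
  let Ω := AlgebraicClosure (T.residueField (q z))
  let pt : Spec (CommRingCat.of Ω) := default
  let H : Subgroup C :=
    { carrier := {c | (act c).hom z = z}
      one_mem' := by simp [map_one]; rfl
      mul_mem' := fun {a b} ha hb => by
        show (act (a * b)).hom z = z
        rw [map_mul, Aut.Aut_mul_def, Iso.trans_hom, Scheme.Hom.comp_apply,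
          show (act b).hom z = z from hb]
        exact ha
      inv_mem' := fun {a} ha => by
        show (act a⁻¹).hom z = z
        conv_lhs => rw [← (show (act a).hom z = z from ha)]
        rw [← Scheme.Hom.comp_apply, ← Iso.trans_hom, ← Aut.Aut_mul_def, ← map_mul, inv_mul_cancel, map_one]
        rfl }
  obtain ⟨ι₀⟩ : Nonempty (Z.residueField z →ₐ[T.residueField (q z)] Ω) :=
    ⟨IsAlgClosed.lift⟩
  let geo : (Z.residueField z →ₐ[T.residueField (q z)] Ω) → (Spec (CommRingCat.of Ω) ⟶ Z) :=
    fun ι => Spec.map (CommRingCat.ofHom ι.toRingHom) ≫ Z.fromSpecResidueField z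
  let ξ : Spec (CommRingCat.of Ω) ⟶ T :=
    Spec.map (CommRingCat.ofHom (algebraMap (T.residueField (q z)) Ω)) ≫ T.fromSpecResidueField (q z)
  have hgeo : ∀ ι, geo ι ≫ q = ξ ∧ geo ι pt = z := fun ι => by
    refine ⟨?_, (Scheme.Hom.comp_apply _ _ _).trans (Scheme.fromSpecResidueField_apply _ _)⟩
    simp only [geo, ξ, Category.assoc]
    rw [← Scheme.Hom.SpecMap_residueFieldMap_fromSpecResidueField, ← Spec.map_comp_assoc]
    congr 2
    exact CommRingCat.hom_ext ι.comp_algebraMap
  have geo_inj : Function.Injective geo := fun ι κ h => by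
    simp only [geo, cancel_mono, Spec.map_inj] at h
    exact AlgHom.coe_ringHom_injective (congrArg CommRingCat.Hom.hom h)
  have geo_surj : ∀ t : Spec (CommRingCat.of Ω) ⟶ Z, t ≫ q = ξ → t pt = z → ∃ ι, geo ι = t := by
    intro t ht hz
    obtain ⟨⟨y, f⟩, rfl⟩ := (Scheme.SpecToEquivOfField Ω Z).symm.surjective t
    have : y = z := by
      rw [← hz]
      simp [Scheme.SpecToEquivOfField]
    subst this
    have hc : q.residueFieldMap y ≫ f = CommRingCat.ofHom (algebraMap (T.residueField (q y)) Ω) := by
      apply Spec.map_injective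
      rw [← cancel_mono (T.fromSpecResidueField (q y))]
      simp only [Spec.map_comp, Category.assoc, Scheme.Hom.SpecMap_residueFieldMap_fromSpecResidueField]
      simpa [Scheme.SpecToEquivOfField, ξ] using ht
    exact ⟨{ f.hom with commutes' := fun a => congrArg (fun m => m.hom a) hc }, rfl⟩
  have hmove : ∀ c : C, (geo ι₀ ≫ (act c).hom) pt = (act c).hom z := fun c => by
    rw [Scheme.Hom.comp_apply, (hgeo ι₀).2]
  have hF : ∀ c : H, ∃ ι, geo ι = geo ι₀ ≫ (act c.1).hom := fun c =>
    geo_surj _ (by rw [Category.assoc, hact, (hgeo ι₀).1]) ((hmove c).trans c.2)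
  choose F hF' using hF
  have hFbij : Function.Bijective F := by
    constructor
    · intro c d hcd
      have h1 := hF' c
      rw [hcd, hF' d] at h1
      exact Subtype.ext ((htrans Ω (geo ι₀) (geo ι₀ ≫ (act c.1).hom) ((congrArg (geo ι₀ ≫ ·) (hact c.1)).symm.trans (Category.assoc _ _ _).symm)).unique rfl h1)
    · intro ι
      obtain ⟨c, hc, -⟩ := htrans Ω (geo ι₀) (geo ι) ((hgeo ι₀).1.trans (hgeo ι).1.symm)
      have hcH : c ∈ H := by
        show (act c).hom z = z
        rw [← hmove, hc, (hgeo ι).2]
      exact ⟨⟨c, hcH⟩, geo_inj ((hF' _).trans hc)⟩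
  have hcard : Nat.card H = Module.finrank (T.residueField (q z)) (Z.residueField z) := by
    rw [Nat.card_congr (Equiv.ofBijective F hFbij),
      ← (Field.finSepDegree_eq_finrank_iff (T.residueField (q z)) (Z.residueField z)).mpr hsep,
      Field.finSepDegree_eq_of_isAlgClosed (T.residueField (q z)) (Z.residueField z) Ω]
  -- each element of the stabilizer induces an automorphism of the residue field
  have haut : ∀ c : H, ∃ τ : Z.residueField z →ₐ[T.residueField (q z)] Z.residueField z, F c = ι₀.comp τ := by
    intro c
    let r := (Z.residueFieldCongr (show (act c.1).hom z = z from c.2)).inv ≫ (act c.1).hom.residueFieldMap z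
    have hr : Spec.map r ≫ Z.fromSpecResidueField z = Z.fromSpecResidueField z ≫ (act c.1).hom := by
      rw [← Scheme.Hom.SpecMap_residueFieldMap_fromSpecResidueField, Spec.map_comp, Category.assoc]
      congr 1
      rw [← Scheme.residueFieldCongr_fromSpecResidueField (show (act c.1).hom z = z from c.2), ← Spec.map_comp_assoc,
        Iso.hom_inv_id, Spec.map_id, Category.id_comp]
    have hr' : q.residueFieldMap z ≫ r = q.residueFieldMap z := by
      apply Spec.map_injective
      rw [← cancel_mono (T.fromSpecResidueField (q z)), Spec.map_comp, Category.assoc,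
        Scheme.Hom.SpecMap_residueFieldMap_fromSpecResidueField, reassoc_of% hr, hact]
    refine ⟨{ r.hom with commutes' := fun a => congrArg (fun m => m.hom a) hr' }, geo_inj ((hF' c).trans ?_)⟩
    simp only [geo]
    rw [Category.assoc, ← hr, ← Spec.map_comp_assoc]
    rfl
  choose τ hτ using haut
  have hτi : Function.Injective fun c => AlgEquiv.ofBijective (τ c) (τ c).bijective := fun c d h => hFbij.1 (by
    rw [hτ, hτ, show τ c = τ d from AlgHom.ext fun x => AlgEquiv.congr_fun h x])
  have haut_card : Nat.card Gal(Z.residueField z/T.residueField (q z)) = Module.finrank (T.residueField (q z)) (Z.residueField z) := by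
    refine le_antisymm ?_ (hcard ▸ Nat.card_le_card_of_injective _ hτi)
    rw [Nat.card_eq_fintype_card]
    exact AlgEquiv.card_le
  exact ⟨hfin, IsGalois.of_card_aut_eq_finrank _ _ haut_card, hcard ▸ H.card_subgroup_dvd_card⟩

end Groth.Agent.PrincipalGalois84
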