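import Groth.Agent.Ram24.LocalFinite
import Mathlib.NumberTheory.RamificationInertia.Galois
import Mathlib.RingTheory.DedekindDomain.IntegralClosure
import Mathlib.FieldTheory.PurelyInseparable.Basic

/-! # Galois extensions of degree prime to the residue characteristic are tame -/

set_option autoImplicit false
universe u
open IsLocalRing

namespace Groth.Agent.TameGalois84

/-- A finite field extension of degree prime to the characteristic is separable. -/
theorem isSeparable_of_forall_not_dvd (k F : Type u) [Field k] [Field F] [Algebra k F]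
    [FiniteDimensional k F] (h : ∀ p : ℕ, p.Prime → CharP k p → ¬ p ∣ Module.finrank k F) :
    Algebra.IsSeparable k F := by
  obtain ⟨q, hq⟩ := ExpChar.exists k
  rcases hq with _ | ⟨hp⟩
  · exact Algebra.IsAlgebraic.isSeparable_of_perfectField
  · have : ExpChar k q := ExpChar.prime hp
    let S := separableClosure k F
    have : ExpChar S q := expChar_of_injective_algebraMap (algebraMap k S).injective q
    obtain ⟨n, hn⟩ := IsPurelyInseparable.finrank_eq_pow S F q
    have hdvd : Module.finrank S F ∣ Module.finrank k F :=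
      ⟨Module.finrank k S, by rw [mul_comm, Module.finrank_mul_finrank]⟩
    have hn0 : n = 0 := by
      by_contra hne
      exact h q hp inferInstance ((dvd_pow_self q hne).trans (hn ▸ hdvd))
    rw [hn0, pow_zero] at hn
    have hS : S = ⊤ := IntermediateField.finrank_eq_one_iff_eq_top.mp hn
    exact (separableClosure.eq_top_iff k F).mp hS

theorem isTamelyRamified_of_isGalois {A L : Type u} [CommRing A] [IsDomain A] [IsDiscreteValuationRing A]
    [Field L] (g : A →+* L) (K : Type u) [Field K] [Algebra A K] [IsFractionRing A K] [Algebra K L]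
    [FiniteDimensional K L] [IsGalois K L] (hg : (algebraMap K L).comp (algebraMap A K) = g)
    (hn : ∀ p : ℕ, p.Prime → CharP (ResidueField A) p → ¬ p ∣ Module.finrank K L) :
    EtRam.IsTamelyRamified A g := by
  intro V hV
  letI algAV : Algebra A V := (RingHom.codRestrict g V hV.1).toAlgebra
  intro hloc
  let : Algebra A L := g.toAlgebra
  have hT : IsScalarTower A K L := .of_algebraMap_eq fun a => (RingHom.congr_fun hg a).symm
  let B := integralClosure A L
  have : Module.Finite A B := IsIntegralClosure.finite A K L B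
  have : IsDedekindDomain B := IsIntegralClosure.isDedekindDomain A K L B
  have : IsFractionRing B L := integralClosure.isFractionRing_of_finite_extension K L
  have hinj : Function.Injective g := by
    rw [← hg]; exact (algebraMap K L).injective.comp (IsFractionRing.injective A K)
  have : FaithfulSMul A B := (faithfulSMul_iff_algebraMap_injective A B).2 fun x y h =>
    hinj (congrArg Subtype.val h)
  letI := IsIntegralClosure.MulSemiringAction A K L B
  haveI hG : IsGaloisGroup (L ≃ₐ[K] L) A B := IsGaloisGroup.of_isFractionRing _ _ _ K L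
  have hW : EtRam.Dominates A ((algebraMap K L).comp (algebraMap A K)) V := by rw [hg]; exact hV
  have hle : ∀ d : B, B.val d ∈ V := fun d => Ram24.integralClosure_mem (L := K) V hW d.2
  let ρ : B →+* V := B.val.toRingHom.codRestrict V hle
  let q : Ideal B := (maximalIdeal V).comap ρ
  have hcomm : ∀ a : A, ρ (algebraMap A B a) = algebraMap A V a := fun a => Subtype.ext rfl
  have hqA : q.comap (algebraMap A B) = maximalIdeal A := by
    ext a
    rw [Ideal.mem_comap, Ideal.mem_comap, hcomm, mem_maximalIdeal, mem_maximalIdeal]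
    exact (map_mem_nonunits_iff (algebraMap A V) a)
  have : q.IsPrime := Ideal.comap_isPrime ρ _
  have : q.LiesOver (maximalIdeal A) := ⟨hqA.symm⟩
  have : Algebra.IsIntegral A B := inferInstance
  have : q.IsMaximal := Ideal.isMaximal_of_isIntegral_of_isMaximal_comap q (by
    rw [hqA]; exact maximalIdeal.isMaximal A)
  have hfrac : ∀ x : V, ∃ e s : B, s ∉ q ∧ x * ρ s = ρ e := by
    intro x
    obtain ⟨e, s, he, hs, hvs, hxs⟩ := Ram24.exists_integral_frac V hW x x.2
    refine ⟨⟨e, he⟩, ⟨s, hs⟩, fun hmem => ?_, Subtype.ext hxs⟩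
    have := (ValuationSubring.valuation_lt_one_iff V _).mp (Ideal.mem_comap.mp hmem)
    change V.valuation s < 1 at this
    rw [hvs] at this
    exact lt_irrefl _ this
  have hunit : ∀ s ∉ q, IsUnit (ρ s) := fun s hs => notMem_maximalIdeal.mp hs
  -- the identity `e f g = n`
  have hcard := Ideal.ncard_primesOver_mul_ramificationIdxIn_mul_inertiaDegIn (maximalIdeal A) B (L ≃ₐ[K] L)
  rw [IsGalois.card_aut_eq_finrank, Ideal.ramificationIdxIn_eq_ramificationIdx (maximalIdeal A) q (L ≃ₐ[K] L),
    Ideal.inertiaDegIn_eq_inertiaDeg (maximalIdeal A) q (L ≃ₐ[K] L),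
    ← Ideal.ramificationIdx'_eq_ramificationIdx (maximalIdeal A) q (IsDiscreteValuationRing.not_a_field A),
    Ideal.inertiaDeg_eq_of_isMaximal (maximalIdeal A) q] at hcard
  let : Field (B ⧸ q) := Ideal.Quotient.field q
  let φ : (B ⧸ q) →+* ResidueField V := Ideal.Quotient.lift q ((residue V).comp ρ)
    fun b hb => (residue_eq_zero_iff _).mpr hb
  have hφ : Function.Bijective φ := by
    refine ⟨φ.injective, fun y => ?_⟩
    obtain ⟨x, rfl⟩ := residue_surjective y
    obtain ⟨e, s, hs, hxs⟩ := hfrac x
    refine ⟨Ideal.Quotient.mk q e / Ideal.Quotient.mk q s, ?_⟩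
    have hs' : residue V (ρ s) ≠ 0 := fun h => hs ((residue_eq_zero_iff _).mp h)
    rw [map_div₀]
    show residue V (ρ e) / residue V (ρ s) = residue V x
    rw [← hxs, map_mul, mul_div_cancel_right₀ _ hs']
  let : Field (A ⧸ maximalIdeal A) := Ideal.Quotient.field _
  have hsep : Algebra.IsSeparable (A ⧸ maximalIdeal A) (B ⧸ q) := isSeparable_of_forall_not_dvd _ _ fun p hp hchar hdvd =>
    hn p hp hchar (hdvd.trans (hcard ▸ dvd_mul_of_dvd_right (dvd_mul_left _ _) _))
  have hsepV : Algebra.IsSeparable (ResidueField A) (ResidueField V) := by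
    refine Algebra.IsSeparable.of_equiv_equiv (RingEquiv.refl (A ⧸ maximalIdeal A) : (A ⧸ maximalIdeal A) ≃+* ResidueField A) (RingEquiv.ofBijective φ hφ) ?_
    refine Ideal.Quotient.ringHom_ext (RingHom.ext fun a => ?_)
    show residue V (algebraMap A V a) = residue V (ρ (algebraMap A B a))
    rw [hcomm]
  refine ⟨hsepV, fun p hp hchar hdvd => hn p hp hchar ?_⟩
  suffices h : Ideal.ramificationIdx' (maximalIdeal A) (maximalIdeal V) = (maximalIdeal A).ramificationIdx' q by
    rw [← hcard, ← h]
    exact (hdvd.mul_right _).mul_left _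
  have hmax : maximalIdeal V = q.map ρ := by
    refine le_antisymm (fun x hx => ?_) (Ideal.map_le_iff_le_comap.mpr le_rfl)
    obtain ⟨e, s, hs, hxs⟩ := hfrac x
    rw [← Ideal.mul_unit_mem_iff_mem _ (hunit s hs), hxs]
    exact Ideal.mem_map_of_mem ρ (Ideal.mem_comap.mpr (hxs ▸ Ideal.mul_mem_right _ _ hx))
  have key : ∀ n : ℕ, (maximalIdeal A).map (algebraMap A V) ≤ maximalIdeal V ^ n ↔
      (maximalIdeal A).map (algebraMap A B) ≤ q ^ n := by
    intro n
    constructor
    · intro h
      rw [Ideal.map_le_iff_le_comap] at h ⊢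
      intro a ha
      have h1 := h ha
      rw [Ideal.mem_comap, ← hcomm, hmax, ← Ideal.map_pow] at h1
      have h2 : ∀ y ∈ (q ^ n).map ρ, ∃ s ∉ q, ∃ j ∈ q ^ n, y * ρ s = ρ j := by
        intro y hy
        induction hy using Submodule.span_induction with
        | mem y hy =>
          obtain ⟨j, hj, rfl⟩ := hy
          exact ⟨1, Ideal.IsPrime.one_notMem ‹_›, j, hj, by rw [map_one, mul_one]⟩
        | zero => exact ⟨1, Ideal.IsPrime.one_notMem ‹_›, 0, zero_mem _, by rw [map_zero, zero_mul]⟩
        | add y z _ _ hy hz =>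
          obtain ⟨s, hs, i, hi, hy⟩ := hy
          obtain ⟨t, ht, j, hj, hz⟩ := hz
          refine ⟨s * t, fun h => (Ideal.IsPrime.mem_or_mem ‹_› h).elim hs ht, i * t + j * s,
            add_mem (Ideal.mul_mem_right _ _ hi) (Ideal.mul_mem_right _ _ hj), ?_⟩
          simp only [map_add, map_mul, ← hy, ← hz]
          ring
        | smul c y _ hy =>
          obtain ⟨s, hs, i, hi, hy⟩ := hy
          obtain ⟨e, t, ht, hc⟩ := hfrac c
          refine ⟨s * t, fun h => (Ideal.IsPrime.mem_or_mem ‹_› h).elim hs ht, e * i,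
            Ideal.mul_mem_left _ _ hi, ?_⟩
          simp only [map_mul, ← hy, ← hc, smul_eq_mul]
          ring
      obtain ⟨s, hs, j, hj, he⟩ := h2 _ h1
      rw [← map_mul] at he
      have he' : algebraMap A B a * s = j := Subtype.ext (by exact (congrArg Subtype.val he :))
      refine (Ideal.IsMaximal.mul_mem_pow q (a := s) (b := algebraMap A B a) ?_).resolve_left hs
      rw [mul_comm]; exact he'.symm ▸ hj
    · intro h
      rw [Ideal.map_le_iff_le_comap] at h ⊢
      intro a ha
      rw [Ideal.mem_comap, ← hcomm, hmax, ← Ideal.map_pow]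
      exact Ideal.mem_map_of_mem ρ (h ha)
  simp only [Ideal.ramificationIdx', key]

end Groth.Agent.TameGalois84
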