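import Groth.Agent.Sga84.TorsorDesc
import Mathlib.AlgebraicGeometry.EffectiveEpi
import Mathlib.RingTheory.TensorProduct.Maps

/-! Torsors over an affine scheme with a point over a faithfully flat algebra: cocycles and descent. -/

set_option autoImplicit false
universe u

open CategoryTheory Limits MonoidalCategory CartesianMonoidalCategory MonObj GrpObj AlgebraicGeometry
open scoped TensorProduct

namespace Groth.Agent.Sga84

section Action

variable {S : Scheme.{u}} {G X T T' : Over S} [GrpObj G] (a : AlgGrp.Action G X)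

/-- The action on points. -/
noncomputable def actPt (g : T ⟶ G) (x : T ⟶ X) : T ⟶ X := lift g x ≫ a.act

theorem comp_actPt (φ : T' ⟶ T) (g : T ⟶ G) (x : T ⟶ X) :
    φ ≫ actPt a g x = actPt a (φ ≫ g) (φ ≫ x) := by
  rw [actPt, actPt, ← Category.assoc, comp_lift]

theorem actPt_mul (g h : T ⟶ G) (x : T ⟶ X) : actPt a (g * h) x = actPt a g (actPt a h x) := by
  have := congrArg (lift (lift g h) x ≫ ·) a.mul_act
  simp only [lift_whiskerRight_assoc, lift_lift_associator_hom_assoc,
    lift_whiskerLeft_assoc] at this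
  exact this

theorem existsUnique_actPt (ha : NonAbH1.IsPseudoTorsorSch a) (x y : T ⟶ X) :
    ∃! g : T ⟶ G, actPt a g x = y := by
  have : IsIso (lift a.act (snd G X)) := ha
  let w := lift y x ≫ inv (lift a.act (snd G X))
  have hw : w ≫ lift a.act (snd G X) = lift y x := by
    simp only [w, Category.assoc, IsIso.inv_hom_id, Category.comp_id]
  have h1 : w ≫ a.act = y := by simpa using congrArg (· ≫ fst X X) hw
  have h2 : w ≫ snd G X = x := by simpa using congrArg (· ≫ snd X X) hw
  refine ⟨w ≫ fst G X, ?_, ?_⟩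
  · show lift (w ≫ fst G X) x ≫ a.act = y
    rw [← h2, ← comp_lift, lift_fst_snd, Category.comp_id, h1]
  · intro g hg
    have : lift g x = w := by
      rw [← cancel_mono (lift a.act (snd G X)), hw]
      ext <;> simp [← hg, actPt]
    simp [← this]

end Action

variable {S : Scheme.{u}} {R : Type u} [CommRing R] (j : Spec (CommRingCat.of R) ⟶ S)

/-- The spectrum of an algebra as a scheme over `S`. -/
noncomputable abbrev sp (A : Type u) [CommRing A] [Algebra R A] : Over S :=
  Over.mk (Spec.map (CommRingCat.ofHom (algebraMap R A)) ≫ j)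

variable {A B C : Type u} [CommRing A] [CommRing B] [CommRing C]
  [Algebra R A] [Algebra R B] [Algebra R C]

/-- An algebra map as a morphism over `S`. -/
noncomputable def spMap (φ : A →ₐ[R] B) : sp j B ⟶ sp j A :=
  Over.homMk (Spec.map (CommRingCat.ofHom φ.toRingHom)) (by
    show _ ≫ Spec.map _ ≫ j = Spec.map _ ≫ j
    rw [← Category.assoc, ← Spec.map_comp, ← CommRingCat.ofHom_comp]
    congr 3
    exact φ.comp_algebraMap)

theorem spMap_comp (φ : A →ₐ[R] B) (ψ : B →ₐ[R] C) :
    spMap j ψ ≫ spMap j φ = spMap j (ψ.comp φ) := by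
  apply Over.OverMorphism.ext
  exact (Spec.map_comp _ _).symm

/-- Points over a faithfully flat algebra with equal pullbacks descend. -/
theorem exists_descend [Module.FaithfullyFlat R C] {X : Over S} (t : sp j C ⟶ X)
    (ht : spMap j (Algebra.TensorProduct.includeLeft : C →ₐ[R] C ⊗[R] C) ≫ t =
      spMap j (Algebra.TensorProduct.includeRight : C →ₐ[R] C ⊗[R] C) ≫ t) :
    ∃ y : Spec (CommRingCat.of R) ⟶ X.left, y ≫ X.hom = j := by
  let w := Spec.map (CommRingCat.ofHom (algebraMap R C))
  obtain ⟨hw1, hw2⟩ : Flat w ∧ Surjective w := (flat_and_surjective_SpecMap_iff _).mpr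
    (RingHom.faithfullyFlat_algebraMap_iff.mpr ‹_›)
  have key : ∀ {Z : Scheme.{u}} (g₁ g₂ : Z ⟶ Spec (CommRingCat.of C)),
      g₁ ≫ w = g₂ ≫ w → g₁ ≫ t.left = g₂ ≫ t.left := by
    intro Z g₁ g₂ h
    have e1 : (pullbackSpecIso R C C).inv ≫ pullback.fst _ _ ≫ t.left =
        (pullbackSpecIso R C C).inv ≫ pullback.snd _ _ ≫ t.left := by
      rw [pullbackSpecIso_inv_fst_assoc, pullbackSpecIso_inv_snd_assoc]
      exact congrArg CommaMorphism.left ht
    rw [cancel_epi] at e1
    have := pullback.lift g₁ g₂ h ≫= e1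
    rwa [pullback.lift_fst_assoc, pullback.lift_snd_assoc] at this
  refine ⟨EffectiveEpi.desc w t.left key, ?_⟩
  rw [← cancel_epi w, EffectiveEpi.fac_assoc]
  exact Over.w t

end Groth.Agent.Sga84
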