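import Mathlib.AlgebraicGeometry.PullbackCarrier
import Mathlib.RingTheory.Flat.FaithfullyFlat.Algebra
import Mathlib.RingTheory.Ideal.MinimalPrime.Localization
import Mathlib.RingTheory.Ideal.GoingDown
import Mathlib.RingTheory.Flat.Basic
import Mathlib.RingTheory.TensorProduct.Maps

/-! Multiplicative 1-cocycles of a faithfully flat algebra are locally coboundaries. -/

set_option autoImplicit false
universe u

open scoped TensorProduct
open Algebra.TensorProduct AlgebraicGeometry CategoryTheory Limits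

namespace Groth.Agent.Sga84

variable {R C : Type u} [CommRing R] [CommRing C] [Algebra R C]

/-- The three cofaces. -/
noncomputable abbrev m23 (R C : Type u) [CommRing R] [CommRing C] [Algebra R C] :
    C ⊗[R] C →ₐ[R] C ⊗[R] (C ⊗[R] C) := includeRight

noncomputable abbrev m13 (R C : Type u) [CommRing R] [CommRing C] [Algebra R C] :
    C ⊗[R] C →ₐ[R] C ⊗[R] (C ⊗[R] C) := Algebra.TensorProduct.map (AlgHom.id R C) includeRight

noncomputable abbrev m12 (R C : Type u) [CommRing R] [CommRing C] [Algebra R C] :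
    C ⊗[R] C →ₐ[R] C ⊗[R] (C ⊗[R] C) := Algebra.TensorProduct.map (AlgHom.id R C) includeLeft

theorem exists_prime_tensor {P P' : Ideal C} [P.IsPrime] [P'.IsPrime]
    (h : P.comap (algebraMap R C) = P'.comap (algebraMap R C)) :
    ∃ T : Ideal (C ⊗[R] C), T.IsPrime ∧
      T.comap (includeLeft : C →ₐ[R] C ⊗[R] C).toRingHom = P ∧
      T.comap (includeRight : C →ₐ[R] C ⊗[R] C).toRingHom = P' := by
  let g := Spec.map (CommRingCat.ofHom (algebraMap R C))
  obtain ⟨z, hz1, hz2⟩ := Scheme.Pullback.exists_preimage_pullback (f := g) (g := g)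
    (⟨P, ‹_›⟩ : PrimeSpectrum C) (⟨P', ‹_›⟩ : PrimeSpectrum C) (PrimeSpectrum.ext h)
  let t : PrimeSpectrum (C ⊗[R] C) := (pullbackSpecIso R C C).hom z
  refine ⟨t.asIdeal, t.2, ?_, ?_⟩
  · refine (congrArg PrimeSpectrum.asIdeal (?_ : Spec.map (CommRingCat.ofHom
      (includeLeft : C →ₐ[R] C ⊗[R] C).toRingHom) t = _)).trans (congrArg PrimeSpectrum.asIdeal hz1)
    rw [← Scheme.Hom.comp_apply]
    exact congr($(pullbackSpecIso_hom_fst R C C) z)
  · refine (congrArg PrimeSpectrum.asIdeal (?_ : Spec.map (CommRingCat.ofHom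
      (includeRight : C →ₐ[R] C ⊗[R] C).toRingHom) t = _)).trans (congrArg PrimeSpectrum.asIdeal hz2)
    rw [← Scheme.Hom.comp_apply]
    exact congr($(pullbackSpecIso_hom_snd R C C) z)

theorem exists_coboundary_locally [Module.FaithfullyFlat R C] (u : C ⊗[R] C) (hu : IsUnit u)
    (hcoc : m13 R C u = m23 R C u * m12 R C u) (p : Ideal R) [p.IsPrime] :
    ∃ (f : R) (c : C), f ∉ p ∧ 1 ⊗ₜ c = u * (c ⊗ₜ 1) ∧
      ∀ (D : Type u) [CommRing D] (ψ : C →+* D), IsUnit (ψ (algebraMap R C f)) → IsUnit (ψ c) := by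
  let δ : C →ₗ[R] C ⊗[R] C := (includeRight : C →ₐ[R] C ⊗[R] C).toLinearMap -
    (LinearMap.mulLeft R u).comp (includeLeft : C →ₐ[R] C ⊗[R] C).toLinearMap
  let M := LinearMap.ker δ
  have hM : ∀ c ∈ M, 1 ⊗ₜ c = u * (c ⊗ₜ 1) := fun c hc => sub_eq_zero.mp (LinearMap.mem_ker.mp hc)
  have hlt : ∀ z, LinearMap.lTensor C δ z = m13 R C z - m23 R C u * m12 R C z := by
    intro z
    induction z using TensorProduct.induction_on with
    | zero => simp
    | add x y hx hy => rw [map_add, hx, hy, map_add, map_add]; ring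
    | tmul a b => simp [δ]
  have hex : Function.Exact (LinearMap.lTensor C M.subtype) (LinearMap.lTensor C δ) :=
    Module.Flat.lTensor_exact C (LinearMap.exact_subtype_ker_map δ)
  obtain ⟨z, hz⟩ := (hex u).mp (by rw [hlt, hcoc, sub_self])
  -- the elements of `M` generate the unit ideal
  have hμu : lmul' R u = 1 := by
    have h1 := congrArg (fun x => lmul' R (Algebra.TensorProduct.map (AlgHom.id R C) (lmul' R) x)) hcoc
    have e13 : ∀ x, lmul' R (Algebra.TensorProduct.map (AlgHom.id R C) (lmul' R) (m13 R C x)) = lmul' R x := by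
      intro x
      induction x using TensorProduct.induction_on with
      | zero => simp
      | add x y hx hy => simp only [map_add, hx, hy]
      | tmul a b => simp
    have e12 : ∀ x, lmul' R (Algebra.TensorProduct.map (AlgHom.id R C) (lmul' R) (m12 R C x)) = lmul' R x := by
      intro x
      induction x using TensorProduct.induction_on with
      | zero => simp
      | add x y hx hy => simp only [map_add, hx, hy]
      | tmul a b => simp
    have e23 : ∀ x, lmul' R (Algebra.TensorProduct.map (AlgHom.id R C) (lmul' R) (m23 R C x)) = lmul' R x := by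
      intro x; simp
    simp only [map_mul, e13, e12, e23] at h1
    exact (hu.map (lmul' R)).mul_eq_left.mp h1.symm
  have hspan : (1 : C) ∈ Ideal.span (M : Set C) := by
    rw [← hμu, ← hz]
    clear hz
    induction z using TensorProduct.induction_on with
    | zero => simp
    | add x y hx hy => rw [map_add, map_add]; exact add_mem hx hy
    | tmul a m => simpa using Ideal.mul_mem_left _ a (Ideal.subset_span m.2)
  obtain ⟨P, hP⟩ := PrimeSpectrum.comap_surjective_of_faithfullyFlat (B := C) ⟨p, ‹_›⟩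
  obtain ⟨c, hcM, hcP⟩ : ∃ c ∈ M, c ∉ P.asIdeal := by
    by_contra h
    push Not at h
    exact P.2.ne_top ((Ideal.eq_top_iff_one _).mpr (Ideal.span_le.mpr h hspan))
  have hsat : ∀ Q Q' : Ideal C, Q.IsPrime → Q'.IsPrime →
      Q.comap (algebraMap R C) = Q'.comap (algebraMap R C) → c ∈ Q → c ∈ Q' := by
    intro Q Q' _ _ h hc
    obtain ⟨T, hT, rfl, rfl⟩ := exists_prime_tensor h
    show (1 : C) ⊗ₜ[R] c ∈ T
    rw [hM c hcM]
    exact T.mul_mem_left u hc
  obtain ⟨f, hfrad, hfp⟩ : ∃ f, algebraMap R C f ∈ (Ideal.span {c}).radical ∧ f ∉ p := by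
    by_contra h
    push Not at h
    have hle : (Ideal.span {c}).radical.comap (algebraMap R C) ≤ p := fun f hf => h f hf
    obtain ⟨q, hq, hqp⟩ := Ideal.exists_minimalPrimes_le hle
    obtain ⟨Q, hQ, hQc, hQq⟩ := Ideal.exists_comap_eq_of_mem_minimalPrimes (algebraMap R C) q hq
    have := hq.1.1
    have : P.asIdeal.LiesOver p := ⟨(congrArg PrimeSpectrum.asIdeal hP).symm⟩
    obtain ⟨P', hP'P, hP', hP'q⟩ := Ideal.exists_ideal_le_liesOver_of_le (Q := P.asIdeal) hqp
    exact hcP (hP'P (hsat Q P' hQ hP' (hQq.trans hP'q.over)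
      (hQc (Ideal.le_radical (Ideal.mem_span_singleton_self c)))))
  obtain ⟨n, hn⟩ := hfrad
  obtain ⟨d, hd⟩ := Ideal.mem_span_singleton.mp hn
  refine ⟨f, c, hfp, hM c hcM, fun D _ ψ hf => ?_⟩
  have : IsUnit (ψ (algebraMap R C f ^ n)) := by rw [map_pow]; exact hf.pow n
  rw [hd, map_mul] at this
  exact isUnit_of_mul_isUnit_left this

end Groth.Agent.Sga84
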