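import Groth.Agent.Sga84.TorsorAff
import Groth.Agent.Sga84.GmAlg
import Groth.Agent.RedPts82.Points
import Groth.Agent.S12421
import Mathlib.AlgebraicGeometry.Limits

/-! fpqc torsors under the additive and the multiplicative group are Zariski locally trivial. -/

set_option autoImplicit false
universe u

open CategoryTheory Limits MonoidalCategory CartesianMonoidalCategory MonObj GrpObj AlgebraicGeometry
open scoped TensorProduct
open Algebra.TensorProduct

namespace Groth.Agent.Sga84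

/-- The two cofaces in low degree. -/
noncomputable abbrev p1 (R C : Type u) [CommRing R] [CommRing C] [Algebra R C] : C →ₐ[R] C ⊗[R] C :=
  includeLeft

noncomputable abbrev p2 (R C : Type u) [CommRing R] [CommRing C] [Algebra R C] : C →ₐ[R] C ⊗[R] C :=
  includeRight

variable {S : Scheme.{u}}

section General

variable {G X : Over S} [GrpObj G] {a : AlgGrp.Action G X}
  {R : Type u} [CommRing R] {j : Spec (CommRingCat.of R) ⟶ S}
  {C : Type u} [CommRing C] [Algebra R C]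

theorem exists_cocycle (ha : NonAbH1.IsPseudoTorsorSch a) (s : sp j C ⟶ X) :
    ∃ g : sp j (C ⊗[R] C) ⟶ G,
      actPt a g (spMap j (p1 R C) ≫ s) = spMap j (p2 R C) ≫ s ∧
      spMap j (m13 R C) ≫ g = (spMap j (m23 R C) ≫ g) * (spMap j (m12 R C) ≫ g) := by
  obtain ⟨g, hg, -⟩ := existsUnique_actPt a ha (spMap j (p1 R C) ≫ s) (spMap j (p2 R C) ≫ s)
  refine ⟨g, hg, ?_⟩
  obtain ⟨g₀, -, huniq⟩ := existsUnique_actPt a ha
    (spMap j (includeLeft : C →ₐ[R] C ⊗[R] (C ⊗[R] C)) ≫ s)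
    (spMap j ((m23 R C).comp (p2 R C)) ≫ s)
  have e (m : C ⊗[R] C →ₐ[R] C ⊗[R] (C ⊗[R] C)) :
      actPt a (spMap j m ≫ g) (spMap j (m.comp (p1 R C)) ≫ s) = spMap j (m.comp (p2 R C)) ≫ s := by
    have := congrArg (spMap j m ≫ ·) hg
    simp only [comp_actPt] at this
    rwa [← Category.assoc (spMap j m), spMap_comp, ← Category.assoc (spMap j m), spMap_comp] at this
  have a13 : (m13 R C).comp (p1 R C) = includeLeft := by
    ext x; simp [Algebra.TensorProduct.one_def]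
  have a12 : (m12 R C).comp (p1 R C) = includeLeft := by
    ext x; simp [Algebra.TensorProduct.one_def]
  have b13 : (m13 R C).comp (p2 R C) = (m23 R C).comp (p2 R C) := by
    ext x; simp
  have b12 : (m12 R C).comp (p2 R C) = (m23 R C).comp (p1 R C) := by
    ext x; simp
  refine (huniq _ ?_).trans (huniq _ ?_).symm
  · have := e (m13 R C)
    rwa [a13, b13] at this
  · have h12 := e (m12 R C)
    rw [a12, b12] at h12
    show actPt a _ _ = _
    rw [actPt_mul, h12]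
    exact e (m23 R C)

theorem exists_section_of_coboundary [Module.FaithfullyFlat R C] (s : sp j C ⟶ X)
    (g : sp j (C ⊗[R] C) ⟶ G) (hg : actPt a g (spMap j (p1 R C) ≫ s) = spMap j (p2 R C) ≫ s)
    (h : sp j C ⟶ G) (hh : spMap j (p1 R C) ≫ h = (spMap j (p2 R C) ≫ h) * g) :
    NonAbH1.HasSectionOver X j := by
  refine exists_descend j (actPt a h s) ?_
  rw [comp_actPt, comp_actPt, hh, actPt_mul, hg]

end General

/-- The coordinate of a point of the additive group over an affine scheme. -/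
noncomputable def coA {A : Type u} [CommRing A] {k : Spec (CommRingCat.of A) ⟶ S}
    (x : Over.mk k ⟶ Red.Ga S) : A :=
  (Scheme.ΓSpecIso (CommRingCat.of A)).hom (Red.gaFn x)

/-- The coordinate of a point of the multiplicative group over an affine scheme. -/
noncomputable def coM {A : Type u} [CommRing A] {k : Spec (CommRingCat.of A) ⟶ S}
    (x : Over.mk k ⟶ Red.Gm S) : A :=
  (Scheme.ΓSpecIso (CommRingCat.of A)).hom (Red.gmFn x)

section Coord

variable {A B : Type u} [CommRing A] [CommRing B] {k : Spec (CommRingCat.of A) ⟶ S}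
  {k' : Spec (CommRingCat.of B) ⟶ S}

theorem coA_comp (m : Over.mk k' ⟶ Over.mk k) (φ : A →+* B)
    (hm : m.left = Spec.map (CommRingCat.ofHom φ)) (x : Over.mk k ⟶ Red.Ga S) :
    coA (m ≫ x) = φ (coA x) := by
  rw [coA, RedPts82.gaFn_comp, hm]
  exact congr($(Scheme.ΓSpecIso_naturality (CommRingCat.ofHom φ)) (Red.gaFn x))

theorem coM_comp (m : Over.mk k' ⟶ Over.mk k) (φ : A →+* B)
    (hm : m.left = Spec.map (CommRingCat.ofHom φ)) (x : Over.mk k ⟶ Red.Gm S) :
    coM (m ≫ x) = φ (coM x) := by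
  rw [coM, RedPts82.gmFn_comp, hm]
  exact congr($(Scheme.ΓSpecIso_naturality (CommRingCat.ofHom φ)) (Red.gmFn x))

theorem coA_mul (x y : Over.mk k ⟶ Red.Ga S) : coA (x * y) = coA x + coA y := by
  rw [coA, RedPts82.gaFn_mul]; exact map_add _ _ _

theorem coM_mul (x y : Over.mk k ⟶ Red.Gm S) : coM (x * y) = coM x * coM y := by
  rw [coM, RedPts82.gmFn_mul]; exact map_mul _ _ _

theorem coA_injective {x y : Over.mk k ⟶ Red.Ga S} (h : coA x = coA y) : x = y :=
  RedPts82.gaFn_injective ((Scheme.ΓSpecIso (CommRingCat.of A)).commRingCatIsoToRingEquiv.injective h)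

theorem coM_injective {x y : Over.mk k ⟶ Red.Gm S} (h : coM x = coM y) : x = y :=
  RedPts82.gmFn_injective ((Scheme.ΓSpecIso (CommRingCat.of A)).commRingCatIsoToRingEquiv.injective h)

theorem coM_isUnit (x : Over.mk k ⟶ Red.Gm S) : IsUnit (coM x) :=
  (RedPts82.gmFn_isUnit x).map (Scheme.ΓSpecIso (CommRingCat.of A)).hom.hom

theorem coA_surjective (c : A) : ∃ x : Over.mk k ⟶ Red.Ga S, coA x = c := by
  obtain ⟨x, hx⟩ := RedPts82.gaFn_surjective (S := S) (X := Over.mk k)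
    ((Scheme.ΓSpecIso (CommRingCat.of A)).inv c)
  exact ⟨x, by rw [coA, hx]; exact (Scheme.ΓSpecIso (CommRingCat.of A)).commRingCatIsoToRingEquiv.apply_symm_apply c⟩

theorem coM_surjective {c : A} (hc : IsUnit c) : ∃ x : Over.mk k ⟶ Red.Gm S, coM x = c := by
  obtain ⟨x, hx⟩ := RedPts82.gmFn_surjective (S := S) (X := Over.mk k)
    (hc.map (Scheme.ΓSpecIso (CommRingCat.of A)).inv.hom)
  exact ⟨x, by rw [coM, hx]; exact (Scheme.ΓSpecIso (CommRingCat.of A)).commRingCatIsoToRingEquiv.apply_symm_apply c⟩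

end Coord

variable {R : Type u} [CommRing R] {C : Type u} [CommRing C] [Algebra R C] [Module.FaithfullyFlat R C]
  {j : Spec (CommRingCat.of R) ⟶ S}

theorem ga_section {X : Over S} {a : AlgGrp.Action (Red.Ga S) X} (ha : NonAbH1.IsPseudoTorsorSch a)
    (s : sp j C ⟶ X) : NonAbH1.HasSectionOver X j := by
  obtain ⟨g, hg, hcoc⟩ := exists_cocycle ha s
  have hd := congrArg coA hcoc
  rw [coA_mul, coA_comp _ _ rfl, coA_comp _ _ rfl, coA_comp _ _ rfl] at hd
  obtain ⟨z, hz⟩ := (S12421.result R C R ((1 : R) ⊗ₜ coA g)).mp (by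
    simp only [LinearMap.add_apply, LinearMap.sub_apply, LinearMap.lTensor_tmul,
      ← TensorProduct.tmul_sub, ← TensorProduct.tmul_add]
    refine (congrArg _ ?_).trans (TensorProduct.tmul_zero _ _)
    have := sub_eq_zero.mpr hd
    simp only [AlgHom.toRingHom_eq_coe, RingHom.coe_coe] at this
    simp only [AlgHom.toLinearMap_apply] at this ⊢
    rw [← neg_eq_zero, ← this]
    abel)
  obtain ⟨h, hh⟩ := coA_surjective (k := Spec.map (CommRingCat.ofHom (algebraMap R C)) ≫ j)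
    (-TensorProduct.lid R C z)
  refine exists_section_of_coboundary s g hg h (coA_injective ?_)
  rw [coA_mul, coA_comp _ _ rfl, coA_comp _ _ rfl, hh]
  have e := congrArg (TensorProduct.lid R (C ⊗[R] C)) hz
  have e1 : ∀ (f : C →ₐ[R] C ⊗[R] C) (w : R ⊗[R] C),
      TensorProduct.lid R (C ⊗[R] C) (LinearMap.lTensor R f.toLinearMap w) = f (TensorProduct.lid R C w) := by
    intro f w
    induction w using TensorProduct.induction_on with
    | zero => simp
    | add x y hx hy => simp only [map_add, hx, hy]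
    | tmul r c => simp
  simp only [LinearMap.sub_apply, map_sub, e1, TensorProduct.lid_tmul, one_smul] at e
  simp only [AlgHom.toRingHom_eq_coe, RingHom.coe_coe, map_neg]
  rw [← e]
  abel

omit [Module.FaithfullyFlat R C] in
theorem gm_change {R₁ C₁ : Type u} [CommRing R₁] [CommRing C₁] [Algebra R R₁] [Algebra R C₁] [Algebra R₁ C₁]
    [IsScalarTower R R₁ C₁] [Module.FaithfullyFlat R₁ C₁] (ψ : C →ₐ[R] C₁)
    {X : Over S} {a : AlgGrp.Action (Red.Gm S) X}
    (s : sp j C ⟶ X) (g : sp j (C ⊗[R] C) ⟶ Red.Gm S)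
    (hg : actPt a g (spMap j (p1 R C) ≫ s) = spMap j (p2 R C) ≫ s)
    (c : C) (hc : (1 : C) ⊗ₜ[R] c = coM g * (c ⊗ₜ[R] (1 : C))) (hcu : IsUnit (ψ c)) :
    NonAbH1.HasSectionOver X (Spec.map (CommRingCat.ofHom (algebraMap R R₁)) ≫ j) := by
  let j₁ := Spec.map (CommRingCat.ofHom (algebraMap R R₁)) ≫ j
  let Φ : C ⊗[R] C →ₐ[R] C₁ ⊗[R₁] C₁ := Algebra.TensorProduct.lift
    (((p1 R₁ C₁).restrictScalars R).comp ψ)
    (((p2 R₁ C₁).restrictScalars R).comp ψ) (fun _ _ => Commute.all _ _)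
  have change : ∀ {A B : Type u} [CommRing A] [CommRing B] [Algebra R A] [Algebra R B] [Algebra R₁ B]
      [IsScalarTower R R₁ B] (φ : A →ₐ[R] B),
      Spec.map (CommRingCat.ofHom φ.toRingHom) ≫ Spec.map (CommRingCat.ofHom (algebraMap R A)) ≫ j =
        Spec.map (CommRingCat.ofHom (algebraMap R₁ B)) ≫ j₁ := by
    intro A B _ _ _ _ _ _ φ
    simp only [j₁, ← Category.assoc, ← Spec.map_comp, ← CommRingCat.ofHom_comp]
    congr 3
    rw [← IsScalarTower.algebraMap_eq]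
    exact φ.comp_algebraMap
  let mψ : sp j₁ C₁ ⟶ sp j C := Over.homMk (Spec.map (CommRingCat.ofHom ψ.toRingHom)) (change ψ)
  let mΦ : sp j₁ (C₁ ⊗[R₁] C₁) ⟶ sp j (C ⊗[R] C) :=
    Over.homMk (Spec.map (CommRingCat.ofHom Φ.toRingHom)) (change Φ)
  have sqL : spMap j₁ (p1 R₁ C₁) ≫ mψ = mΦ ≫ spMap j (p1 R C) := by
    apply Over.OverMorphism.ext
    show Spec.map _ ≫ Spec.map _ = Spec.map _ ≫ Spec.map _
    rw [← Spec.map_comp, ← Spec.map_comp]
    congr 1
    ext x
    simp [Φ]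
  have sqR : spMap j₁ (p2 R₁ C₁) ≫ mψ = mΦ ≫ spMap j (p2 R C) := by
    apply Over.OverMorphism.ext
    show Spec.map _ ≫ Spec.map _ = Spec.map _ ≫ Spec.map _
    rw [← Spec.map_comp, ← Spec.map_comp]
    congr 1
    ext x
    simp [Φ]
  have hg₁ : actPt a (mΦ ≫ g) (spMap j₁ (p1 R₁ C₁) ≫ mψ ≫ s) = spMap j₁ (p2 R₁ C₁) ≫ mψ ≫ s := by
    rw [← Category.assoc, sqL, Category.assoc, ← comp_actPt, hg, ← Category.assoc, ← sqR, Category.assoc]
  obtain ⟨cu, hcu'⟩ := hcu
  obtain ⟨h, hh⟩ := coM_surjective (k := Spec.map (CommRingCat.ofHom (algebraMap R₁ C₁)) ≫ j₁)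
    (cu⁻¹).isUnit
  refine exists_section_of_coboundary (mψ ≫ s) (mΦ ≫ g) hg₁ h (coM_injective ?_)
  rw [coM_mul, coM_comp _ _ rfl, coM_comp _ _ rfl, coM_comp _ Φ.toRingHom rfl, hh]
  have e : p2 R₁ C₁ (cu : C₁) = Φ (coM g) * p1 R₁ C₁ (cu : C₁) := by
    have := congrArg Φ hc
    rw [map_mul] at this
    simpa [Φ, hcu'] using this
  simp only [AlgHom.toRingHom_eq_coe, RingHom.coe_coe]
  calc p1 R₁ C₁ ↑cu⁻¹ = p2 R₁ C₁ ((cu : C₁) * ↑cu⁻¹) * p1 R₁ C₁ ↑cu⁻¹ := by
        rw [Units.mul_inv, map_one, _root_.one_mul]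
    _ = p2 R₁ C₁ ↑cu⁻¹ * Φ (coM g) * p1 R₁ C₁ ((cu : C₁) * ↑cu⁻¹) := by
        simp only [map_mul, e]; ring
    _ = _ := by rw [Units.mul_inv, map_one, _root_.mul_one]

theorem gm_section {X : Over S} {a : AlgGrp.Action (Red.Gm S) X} (ha : NonAbH1.IsPseudoTorsorSch a)
    (s : sp j C ⟶ X) (p : PrimeSpectrum R) :
    ∃ f : R, f ∉ p.asIdeal ∧ NonAbH1.HasSectionOver X
      (Spec.map (CommRingCat.ofHom (algebraMap R (Localization.Away f))) ≫ j) := by
  obtain ⟨g, hg, hcoc⟩ := exists_cocycle ha s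
  have hd := congrArg coM hcoc
  rw [coM_mul, coM_comp _ _ rfl, coM_comp _ _ rfl, coM_comp _ _ rfl] at hd
  obtain ⟨f, c, hf, hc, hunit⟩ := exists_coboundary_locally (coM g) (coM_isUnit g) hd p.asIdeal
  refine ⟨f, hf, gm_change (R₁ := Localization.Away f) (C₁ := Localization.Away f ⊗[R] C)
    (includeRight : C →ₐ[R] Localization.Away f ⊗[R] C) s g hg c hc (hunit _ _ ?_)⟩
  rw [AlgHom.toRingHom_eq_coe, RingHom.coe_coe, AlgHom.commutes,
    IsScalarTower.algebraMap_apply R (Localization.Away f) (Localization.Away f ⊗[R] C)]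
  exact (IsLocalization.Away.algebraMap_isUnit f).map _

/-- An fpqc torsor has local sections of the form above. -/
theorem exists_affine_point {G X : Over S} [GrpObj G] {a : AlgGrp.Action G X}
    (h : NonAbH1.IsTorsorFor Scheme.fpqcPrecoverage a) (x : S) :
    ∃ (R : Type u) (_ : CommRing R) (C : Type u) (_ : CommRing C) (_ : Algebra R C)
      (j : Spec (CommRingCat.of R) ⟶ S) (_ : IsOpenImmersion j) (p : PrimeSpectrum R),
        Module.FaithfullyFlat R C ∧ j p = x ∧ Nonempty (sp j C ⟶ X) := by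
  obtain ⟨U, hU, hxU, -⟩ := exists_isAffineOpen_mem_and_subset (X := S) (x := x) (U := ⊤) trivial
  obtain ⟨W, _, w, ⟨⟨hs, hfl⟩, -⟩, s, hsX⟩ := exists_affine_section h.2 hU
  let φ : Γ(S, U) ⟶ Γ(W, ⊤) := Spec.preimage (W.isoSpec.inv ≫ w ≫ hU.isoSpec.hom)
  have hφ : Spec.map φ = W.isoSpec.inv ≫ w ≫ hU.isoSpec.hom := Spec.map_preimage _
  let := φ.hom.toAlgebra
  refine ⟨Γ(S, U), inferInstance, Γ(W, ⊤), inferInstance, inferInstance, hU.fromSpec, inferInstance,
    hU.primeIdealOf ⟨x, hxU⟩, ?_, hU.fromSpec_primeIdealOf _, ⟨Over.homMk (W.isoSpec.inv ≫ s) ?_⟩⟩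
  · refine RingHom.faithfullyFlat_algebraMap_iff.mp ?_
    have h1 : Flat (Spec.map φ) := by rw [hφ]; infer_instance
    have h2 : Surjective (Spec.map φ) := by rw [hφ]; infer_instance
    exact (flat_and_surjective_SpecMap_iff _).mp ⟨h1, h2⟩
  · show (W.isoSpec.inv ≫ s) ≫ X.hom = Spec.map φ ≫ hU.fromSpec
    rw [Category.assoc, hsX, hφ, ← hU.isoSpec_inv_ι]
    simp

theorem zariski_of_local {G X : Over S} [GrpObj G] {a : AlgGrp.Action G X}
    (ha : NonAbH1.IsPseudoTorsorSch a)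
    (h : ∀ x : S, ∃ (T : Scheme.{u}) (j : T ⟶ S), IsOpenImmersion j ∧ x ∈ Set.range j ∧
      NonAbH1.HasSectionOver X j) :
    NonAbH1.IsTorsorFor Scheme.zariskiPrecoverage a := by
  choose T j hj hx hsec using h
  let 𝒰 : S.OpenCover := Scheme.Cover.mkOfCovers S T j
    (fun x => ⟨x, (hx x).choose, (hx x).choose_spec⟩) hj
  refine ⟨ha, 𝒰.presieve₀, 𝒰.mem₀, ?_⟩
  rintro T' f ⟨x⟩
  exact hsec x

end Groth.Agent.Sga84
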