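import Groth.Agent.Sga84.TorsorAff
import Mathlib.AlgebraicGeometry.Sites.Fpqc
import Mathlib.CategoryTheory.Sites.Canonical

/-! The exact cohomology sequence of a short exact sequence of group schemes, at torsor level. -/

set_option autoImplicit false
universe u

open CategoryTheory MonoidalCategory CartesianMonoidalCategory MonObj GrpObj AlgebraicGeometry
open CategoryTheory.Limits

namespace Groth.Agent.Sga84

variable {S : Scheme.{u}}

local notation "K" => Scheme.fpqcPrecoverage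

section Descend

variable {Q : Over S} (hQ : NonAbH1.IsLocallyTrivialFor K Q) {T Y : Over S}

include hQ

/-- The morphisms to `T` whose source has a point in `Q` cover `T`. -/
theorem exists_sieve (T : Over S) : ∃ U : Sieve T.left, U ∈ Scheme.fpqcTopology T.left ∧
    ∀ ⦃W : Scheme.{u}⦄ (k : W ⟶ T.left), U k → Nonempty (Over.mk (k ≫ T.hom) ⟶ Q) := by
  obtain ⟨R, hR, hsec⟩ := hQ
  refine ⟨(Sieve.generate R).pullback T.hom,
    Scheme.fpqcTopology.pullback_stable _ (Precoverage.generate_mem_toGrothendieck hR), ?_⟩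
  intro W k hk
  obtain ⟨W', a, b, hb, hab⟩ := hk
  obtain ⟨s, hs⟩ := hsec b hb
  exact ⟨Over.homMk (a ≫ s) (by rw [Category.assoc, hs, hab]; rfl)⟩

theorem hom_ext_of_point {a b : T ⟶ Y}
    (h : ∀ (Z : Over S) (g : Z ⟶ T), (Z ⟶ Q) → g ≫ a = g ≫ b) : a = b := by
  obtain ⟨U, hU, hpt⟩ := exists_sieve hQ T
  have hsh : Presieve.IsSheafFor (yoneda.obj Y.left) (U : Presieve T.left) :=
    GrothendieckTopology.Subcanonical.isSheaf_of_isRepresentable (J := Scheme.fpqcTopology) _ _ hU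
  refine Over.OverMorphism.ext (hsh.isSeparatedFor.ext fun W k hk => ?_)
  obtain ⟨q⟩ := hpt k hk
  exact congrArg CommaMorphism.left (h (Over.mk (k ≫ T.hom)) (Over.homMk k rfl) q)

theorem exists_glue (rel : ∀ Z : Over S, (Z ⟶ T) → (Z ⟶ Y) → Prop)
    (hnat : ∀ (Z Z' : Over S) (k : Z' ⟶ Z) (g : Z ⟶ T) (y : Z ⟶ Y), rel Z g y → rel Z' (k ≫ g) (k ≫ y))
    (huniq : ∀ (Z : Over S) (g : Z ⟶ T), (Z ⟶ Q) → ∃! y, rel Z g y) :
    ∃ y : T ⟶ Y, ∀ (Z : Over S) (g : Z ⟶ T), (Z ⟶ Q) → rel Z g (g ≫ y) := by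
  obtain ⟨U, hU, hpt⟩ := exists_sieve hQ T
  choose f hf hfu using huniq
  have hindep : ∀ (Z : Over S) (g : Z ⟶ T) (q q' : Z ⟶ Q), f Z g q = f Z g q' :=
    fun Z g q q' => hfu Z g q' _ (hf Z g q)
  let x : Presieve.FamilyOfElements (yoneda.obj Y.left) (U : Presieve T.left) := fun W k hk =>
    (f (Over.mk (k ≫ T.hom)) (Over.homMk k rfl) (hpt k hk).some).left
  have hx : x.Compatible := by
    intro W₁ W₂ Z a₁ a₂ k₁ k₂ h₁ h₂ e
    show a₁ ≫ x k₁ h₁ = a₂ ≫ x k₂ h₂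
    let Z' : Over S := Over.mk (a₁ ≫ k₁ ≫ T.hom)
    let l₁ : Z' ⟶ Over.mk (k₁ ≫ T.hom) := Over.homMk a₁ rfl
    let l₂ : Z' ⟶ Over.mk (k₂ ≫ T.hom) := Over.homMk a₂ (by
      show a₂ ≫ k₂ ≫ T.hom = a₁ ≫ k₁ ≫ T.hom
      simp only [← Category.assoc, e])
    have e1 := hnat _ _ l₁ _ _ (hf (Over.mk (k₁ ≫ T.hom)) (Over.homMk k₁ rfl) (hpt k₁ h₁).some)
    have e2 := hnat _ _ l₂ _ _ (hf (Over.mk (k₂ ≫ T.hom)) (Over.homMk k₂ rfl) (hpt k₂ h₂).some)
    have eg : l₂ ≫ (Over.homMk k₂ rfl : Over.mk (k₂ ≫ T.hom) ⟶ T) = l₁ ≫ Over.homMk k₁ rfl :=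
      Over.OverMorphism.ext e.symm
    rw [eg] at e2
    have q := l₁ ≫ (hpt k₁ h₁).some
    exact congrArg CommaMorphism.left ((hfu Z' _ q _ e1).trans (hfu Z' _ q _ e2).symm)
  have hsh : Presieve.IsSheafFor (yoneda.obj Y.left) (U : Presieve T.left) :=
    GrothendieckTopology.Subcanonical.isSheaf_of_isRepresentable (J := Scheme.fpqcTopology) _ _ hU
  have hshS : Presieve.IsSheafFor (yoneda.obj S) (U : Presieve T.left) :=
    GrothendieckTopology.Subcanonical.isSheaf_of_isRepresentable (J := Scheme.fpqcTopology) _ _ hU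
  obtain ⟨y₀, hy₀, -⟩ := hsh x hx
  let y : T ⟶ Y := Over.homMk y₀ (hshS.isSeparatedFor.ext fun W k hk => by
    show k ≫ y₀ ≫ Y.hom = k ≫ T.hom
    rw [← Category.assoc, show k ≫ y₀ = x k hk from hy₀ k hk]
    exact Over.w (f (Over.mk (k ≫ T.hom)) (Over.homMk k rfl) (hpt k hk).some))
  have hy : ∀ ⦃W : Scheme.{u}⦄ (k : W ⟶ T.left) (hk : U k),
      (Over.homMk k rfl : Over.mk (k ≫ T.hom) ⟶ T) ≫ y =
        f (Over.mk (k ≫ T.hom)) (Over.homMk k rfl) (hpt k hk).some :=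
    fun W k hk => Over.OverMorphism.ext (hy₀ k hk)
  refine ⟨y, fun Z g q => ?_⟩
  suffices g ≫ y = f Z g q by rw [this]; exact hf Z g q
  obtain ⟨U', hU', hsub⟩ : ∃ U' : Sieve Z.left, U' ∈ Scheme.fpqcTopology Z.left ∧
      ∀ ⦃W : Scheme.{u}⦄ (k : W ⟶ Z.left), U' k → U (k ≫ g.left) :=
    ⟨U.pullback g.left, Scheme.fpqcTopology.pullback_stable _ hU, fun W k hk => hk⟩
  have hshZ : Presieve.IsSheafFor (yoneda.obj Y.left) (U' : Presieve Z.left) :=
    GrothendieckTopology.Subcanonical.isSheaf_of_isRepresentable (J := Scheme.fpqcTopology) _ _ hU'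
  refine Over.OverMorphism.ext (hshZ.isSeparatedFor.ext fun W k hk => ?_)
  show k ≫ (g.left ≫ y₀) = k ≫ (f Z g q).left
  let l : Over.mk ((k ≫ g.left) ≫ T.hom) ⟶ Z := Over.homMk k (by
    show k ≫ Z.hom = (k ≫ g.left) ≫ T.hom
    rw [Category.assoc, Over.w g])
  have e1 := hnat _ _ l g _ (hf Z g q)
  have el : l ≫ g = Over.homMk (k ≫ g.left) rfl := Over.OverMorphism.ext rfl
  rw [el] at e1
  rw [← Category.assoc]
  exact (hy₀ _ (hsub k hk)).trans
    (congrArg CommaMorphism.left (hfu _ _ (hpt _ (hsub k hk)).some _ e1)).symm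

end Descend

theorem isPseudoTorsorSch_of_existsUnique {G X : Over S} [GrpObj G] (a : AlgGrp.Action G X)
    (h : ∀ (T : Over S) (x y : T ⟶ X), ∃! g : T ⟶ G, actPt a g x = y) :
    NonAbH1.IsPseudoTorsorSch a := by
  obtain ⟨g, hg, -⟩ := h (X ⊗ X) (snd X X) (fst X X)
  refine ⟨⟨lift g (snd X X), ?_, ?_⟩⟩
  · obtain ⟨g₀, -, hu⟩ := h (G ⊗ X) (snd G X) a.act
    have e1 : actPt a (fst G X) (snd G X) = a.act := by rw [actPt, lift_fst_snd, Category.id_comp]
    have e2 : actPt a (lift a.act (snd G X) ≫ g) (snd G X) = a.act := by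
      have := congrArg (lift a.act (snd G X) ≫ ·) hg
      simpa [comp_actPt] using this
    rw [comp_lift, lift_snd, (hu _ e2).trans (hu _ e1).symm, lift_fst_snd]
  · rw [comp_lift, lift_snd]
    show lift (actPt a g (snd X X)) (snd X X) = _
    rw [hg, lift_fst_snd]

section Exact

variable {G G' G'' : Over S} [GrpObj G] [GrpObj G'] [GrpObj G''] [IsCommMonObj G]
  {u : G' ⟶ G} {v : G ⟶ G''}

omit [IsCommMonObj G] in
theorem act_trivial {T : Over S} (a b : T ⟶ G) : lift a b ≫ (NonAbH1.trivialAction G).act = a * b := by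
  rw [Hom.mul_def]; rfl

variable (hex : NonAbH1.IsExactSeq K u v)

include hex

omit [IsCommMonObj G] in
theorem pt_uv {T : Over S} (h : T ⟶ G') : (h ≫ u) ≫ v = 1 := by
  rw [Category.assoc, hex.2.2.1, MonObj.comp_one]

omit [IsCommMonObj G] in
theorem ker_unique {T : Over S} {h h' : T ⟶ G'} (e : h ≫ u = h' ≫ u) : h = h' := by
  have key : ∀ k : T ⟶ G', lift (1 : T ⟶ G) k ≫ (G ◁ u) ≫ μ[G] = k ≫ u := fun k => by
    rw [lift_whiskerLeft_assoc, ← Hom.mul_def, _root_.one_mul]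
  have := hex.2.2.2.1.hom_ext (W := T) (k := lift (1 : T ⟶ G) h) (l := lift 1 h')
    (by simp) (by rw [key, key, e])
  simpa using congrArg (· ≫ snd _ _) this

omit [IsCommMonObj G] in
theorem ker_exists {T : Over S} {x y : T ⟶ G} (e : x ≫ v = y ≫ v) : ∃ h : T ⟶ G', y = x * (h ≫ u) := by
  let l := hex.2.2.2.1.lift x y e
  refine ⟨l ≫ snd _ _, ?_⟩
  have h1 : l ≫ fst _ _ = x := hex.2.2.2.1.lift_fst x y e
  have h2 : l ≫ (G ◁ u) ≫ μ[G] = y := hex.2.2.2.1.lift_snd x y e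
  rw [← h2, ← h1]
  conv_lhs => rw [show l = lift (l ≫ fst _ _) (l ≫ snd _ _) from by ext <;> simp]
  rw [lift_whiskerLeft_assoc, Hom.mul_def]

end Exact

end Groth.Agent.Sga84

namespace Groth.Agent.Sga84

variable {S : Scheme.{u}}

/-- If a morphism has local sections and its source is locally pointed, so is a refinement. -/
theorem isLocallyTrivialFor_of_two_steps {P Q G'' : Over S} {G : Over S} (v : G ⟶ G'')
    (hP : NonAbH1.IsLocallyTrivialFor Scheme.fpqcPrecoverage P)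
    (hv : NonAbH1.IsLocallyTrivialFor Scheme.fpqcPrecoverage (Over.mk v.left : Over G''.left))
    (φ : P ⟶ G'') (hQ : ∀ (Z : Over S) (p : Z ⟶ P) (g : Z ⟶ G), g ≫ v = p ≫ φ → Nonempty (Z ⟶ Q)) :
    NonAbH1.IsLocallyTrivialFor Scheme.fpqcPrecoverage Q := by
  obtain ⟨R, hR, hsec⟩ := hP
  obtain ⟨R₂, hR₂, hsec₂⟩ := hv
  obtain ⟨I, X, f, rfl⟩ := R.exists_eq_ofArrows
  obtain ⟨J, Y, b, rfl⟩ := R₂.exists_eq_ofArrows
  choose s hs using fun k => hsec (f k) ⟨k⟩
  choose t ht using fun l => hsec₂ (b l) ⟨l⟩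
  refine ⟨_, Scheme.fpqcPrecoverage.comp_mem_coverings f hR
    (fun k l => pullback.fst (s k ≫ φ.left) (b l))
    (fun k => Precoverage.mem_coverings_of_isPullback b hR₂ (s k ≫ φ.left) _
      (fun l => pullback.snd (s k ≫ φ.left) (b l)) (fun l => IsPullback.of_hasPullback _ _)), ?_⟩
  rintro W _ ⟨⟨k, l⟩⟩
  let Z : Over S := Over.mk (pullback.fst (s k ≫ φ.left) (b l) ≫ f k)
  let p : Z ⟶ P := Over.homMk (pullback.fst (s k ≫ φ.left) (b l) ≫ s k) (by
    show _ = pullback.fst (s k ≫ φ.left) (b l) ≫ f k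
    rw [Category.assoc, hs k])
  have htv : t l ≫ v.left = b l := ht l
  let g : Z ⟶ G := Over.homMk (pullback.snd (s k ≫ φ.left) (b l) ≫ t l) (by
    show _ = pullback.fst (s k ≫ φ.left) (b l) ≫ f k
    rw [← Over.w v, Category.assoc, ← Category.assoc (t l), htv, ← Category.assoc, ← pullback.condition,
      Category.assoc, Category.assoc, Over.w φ, hs k])
  obtain ⟨q⟩ := hQ Z p g (Over.OverMorphism.ext (by
    show (pullback.snd (s k ≫ φ.left) (b l) ≫ t l) ≫ v.left = (pullback.fst (s k ≫ φ.left) (b l) ≫ s k) ≫ φ.left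
    rw [Category.assoc, htv, Category.assoc, ← pullback.condition]))
  exact ⟨q.left, Over.w q⟩

end Groth.Agent.Sga84
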