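import Mathlib.AlgebraicGeometry.PullbackCarrier
import Mathlib.AlgebraicGeometry.Morphisms.Finite
import Mathlib.FieldTheory.IsAlgClosed.AlgebraicClosure
import Mathlib.Topology.Sober

set_option autoImplicit false
universe u
open CategoryTheory CategoryTheory.Limits AlgebraicGeometry

namespace Groth.Agent.GeomTrans84

/-- Transitivity on geometric points implies transitivity on the fibres. -/
theorem fibre_transitive {X S : Scheme.{u}} (q : X ⟶ S) {G : Type u} [Group G] (ρ : G →* Aut X)
    (htrans : ∀ (Ω : Type u) [Field Ω] [IsAlgClosed Ω] (τ₁ τ₂ : Spec (CommRingCat.of Ω) ⟶ X),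
      τ₁ ≫ q = τ₂ ≫ q → ∃ g : G, τ₁ ≫ (ρ g).hom = τ₂) (x y : X) (h : q x = q y) :
    ∃ g : G, (ρ g).hom x = y := by
  obtain ⟨z, hz1, hz2⟩ := Scheme.Pullback.exists_preimage_pullback (f := q) (g := q) x y h
  let Ω := AlgebraicClosure ((pullback q q).residueField z)
  let p : Spec (CommRingCat.of Ω) ⟶ pullback q q :=
    Spec.map (CommRingCat.ofHom (algebraMap ((pullback q q).residueField z) Ω)) ≫ (pullback q q).fromSpecResidueField z
  let pt : Spec (CommRingCat.of Ω) := default
  have hp : p pt = z := by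
    simp only [p, Scheme.Hom.comp_apply]
    exact Scheme.fromSpecResidueField_apply _ _
  obtain ⟨g, hg⟩ := htrans Ω (p ≫ pullback.fst q q) (p ≫ pullback.snd q q)
    (by simp only [Category.assoc, pullback.condition])
  refine ⟨g, ?_⟩
  have := congrArg (fun m : Spec (CommRingCat.of Ω) ⟶ X => m pt) hg
  simpa [Scheme.Hom.comp_apply, hp, hz1, hz2] using this

end Groth.Agent.GeomTrans84
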