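import Groth.Agent.Sga84.DescEtale
import Groth.Agent.Sga84.Top

/-! # Descent of properties along universally submersive morphisms -/

set_option autoImplicit false
universe u
open CategoryTheory CategoryTheory.Limits AlgebraicGeometry TopologicalSpace

namespace Sga84

variable {X Y X' Y' : Scheme.{u}} {f : X ⟶ Y} {f' : X' ⟶ Y'} {h : X' ⟶ X} {c : Y' ⟶ Y}

theorem image_eq_of_isPullback (H : IsPullback h f' f c) (U : Set X) :
    c ⁻¹' (f '' U) = f' '' (h ⁻¹' U) := by
  ext y'
  constructor
  · rintro ⟨x, hx, hxy⟩
    obtain ⟨z, hz1, hz2⟩ := Scheme.Pullback.exists_preimage_pullback (f := f) (g := c) x y' hxy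
    refine ⟨H.isoPullback.inv z, ?_, ?_⟩
    · change h (H.isoPullback.inv z) ∈ U
      rw [← Scheme.Hom.comp_apply, H.isoPullback_inv_fst, hz1]; exact hx
    · rw [← Scheme.Hom.comp_apply, H.isoPullback_inv_snd, hz2]
  · rintro ⟨x', hx', rfl⟩
    exact ⟨h x', hx', by rw [← Scheme.Hom.comp_apply, H.w]; rfl⟩

theorem isOpenMap_desc (H : IsPullback h f' f c) (hc : Topology.IsQuotientMap c) (hf : IsOpenMap f') :
    IsOpenMap f := fun U hU => by
  rw [← hc.isOpen_preimage, image_eq_of_isPullback H]
  exact hf _ (hU.preimage h.continuous)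

theorem isClosedMap_desc (H : IsPullback h f' f c) (hc : Topology.IsQuotientMap c)
    (hf : IsClosedMap f') : IsClosedMap f := fun U hU => by
  rw [← hc.isClosed_preimage, image_eq_of_isPullback H]
  exact hf _ (hU.preimage h.continuous)

theorem universally_desc (P : ∀ {A B : Type u} [TopologicalSpace A] [TopologicalSpace B], (A → B) → Prop)
    (hP : ∀ {X Y X' Y' : Scheme.{u}} {f : X ⟶ Y} {f' : X' ⟶ Y'} {h : X' ⟶ X} {c : Y' ⟶ Y},
      IsPullback h f' f c → Topology.IsQuotientMap c → P f' → P f)
    (H : IsPullback h f' f c) (hc : SGA1.UnivSubmersive c)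
    (hf : MorphismProperty.universally (topologically @P) f') :
    MorphismProperty.universally (topologically @P) f := by
  intro A B i₁ i₂ g' hg
  let hB := pullback.fst c i₂
  let A' := pullback g' (pullback.snd c i₂)
  have H2 : IsPullback (pullback.fst g' (pullback.snd c i₂)) (pullback.snd g' (pullback.snd c i₂))
      g' (pullback.snd c i₂) := IsPullback.of_hasPullback _ _
  refine hP H2 (hc _ _ _ (IsPullback.of_hasPullback c i₂).flip) ?_
  let k : A' ⟶ X' := H.lift (pullback.fst _ _ ≫ i₁) (pullback.snd _ _ ≫ pullback.fst c i₂) (by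
    rw [Category.assoc, ← hg.w, ← Category.assoc, H2.w, Category.assoc, Category.assoc,
      pullback.condition])
  refine hf k (pullback.fst c i₂) (pullback.snd g' (pullback.snd c i₂))
    (IsPullback.of_right ?_ (H.lift_snd _ _ _) H).flip
  rw [H.lift_fst, pullback.condition]
  exact H2.paste_horiz hg.flip

theorem isSeparated_desc (H : IsPullback h f' f c) (hc : SGA1.UnivSubmersive c)
    [IsSeparated f'] : IsSeparated f := by
  refine ⟨IsClosedImmersion.of_isPreimmersion _ ?_⟩
  let m : pullback f' f' ⟶ pullback f f := pullback.map f' f' f f h h c H.w.symm H.w.symm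
  have Hc : SGA1.UnivSubmersive m := by
    have e : IsPullback m (pullback.fst f' f' ≫ f') (pullback.fst f f ≫ f) c := by
      have A : IsPullback (pullback.snd f' f' ≫ h) (pullback.fst f' f') f (f' ≫ c) :=
        ((IsPullback.of_hasPullback f' f').flip.paste_horiz H)
      rw [← H.w] at A
      have B : IsPullback m (pullback.fst f' f') (pullback.fst f f) h := by
        refine IsPullback.of_right ?_ ?_ (IsPullback.of_hasPullback f f).flip
        · rw [show m ≫ pullback.snd f f = pullback.snd f' f' ≫ h from pullback.lift_snd _ _ _]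
          exact A
        · exact pullback.lift_fst _ _ _
      exact B.paste_vert H
    exact MorphismProperty.of_isPullback (P := SGA1.UnivSubmersive) e.flip hc
  rw [← (Hc _ _ _ IsPullback.of_id_snd).isClosed_preimage]
  have heq : m ⁻¹' Set.range (pullback.diagonal f) = Set.range (pullback.diagonal f') := by
    refine le_antisymm ?_ ?_
    · rintro z ⟨x, hx⟩
      obtain ⟨ω, hω, -⟩ := Scheme.Pullback.exists_preimage_pullback (f := m)
        (g := pullback.diagonal f) z x hx.symm
      let a := pullback.fst m (pullback.diagonal f) ≫ pullback.fst f' f'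
      let b := pullback.fst m (pullback.diagonal f) ≫ pullback.snd f' f'
      have hab : a = b := H.hom_ext (by
        simp only [a, b, Category.assoc]
        rw [← pullback.lift_fst (f := f) (g := f) (pullback.fst f' f' ≫ h) (pullback.snd f' f' ≫ h)
          (by simp [H.w, pullback.condition_assoc])]
        conv_rhs => rw [← pullback.lift_snd (f := f) (g := f) (pullback.fst f' f' ≫ h)
          (pullback.snd f' f' ≫ h) (by simp [H.w, pullback.condition_assoc])]
        change _ ≫ m ≫ _ = _ ≫ m ≫ _
        rw [pullback.condition_assoc, pullback.condition_assoc, pullback.diagonal_fst,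
          pullback.diagonal_snd]) (by simp [a, b, pullback.condition])
      have : pullback.fst m (pullback.diagonal f) = a ≫ pullback.diagonal f' := by
        apply pullback.hom_ext
        · simp [a]
        · simp only [Category.assoc, pullback.diagonal_snd, Category.comp_id]; exact hab.symm
      exact ⟨a ω, by rw [← Scheme.Hom.comp_apply, ← this, hω]⟩
    · rintro _ ⟨x, rfl⟩
      refine ⟨h x, ?_⟩
      rw [← Scheme.Hom.comp_apply, ← Scheme.Hom.comp_apply]
      refine congrArg (fun l : X' ⟶ pullback f f => l x) ?_
      apply pullback.hom_ext <;>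
        simp only [m, pullback.map, Category.assoc, pullback.lift_fst, pullback.lift_snd,
          pullback.diagonal_fst, pullback.diagonal_snd, pullback.diagonal_fst_assoc,
          pullback.diagonal_snd_assoc, Category.comp_id]
  exact heq ▸ (pullback.diagonal f').isClosedEmbedding.isClosed_range

theorem isPullback_baseChange {S' S X Y : Scheme.{u}} (g : S' ⟶ S) (f : X ⟶ Y) (q : Y ⟶ S) :
    IsPullback (pullback.fst (f ≫ q) g)
      (pullback.map (f ≫ q) g q g f (𝟙 S') (𝟙 S) (Category.comp_id _)
        ((Category.comp_id _).trans (Category.id_comp _).symm)) f (pullback.fst q g) := by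
  refine IsPullback.of_bot (v₂₁ := pullback.snd q g) (h₃₁ := g) ?_ ?_ (IsPullback.of_hasPullback q g)
  · rw [pullback.map, pullback.lift_snd, Category.comp_id]
    exact IsPullback.of_hasPullback (f ≫ q) g
  · rw [pullback.map, pullback.lift_fst]

theorem descends_univSubmersive {S' S X Y : Scheme.{u}} (g : S' ⟶ S) (hg : SGA1.UnivSubmersive g)
    (f : X ⟶ Y) (q : Y ⟶ S) :
    let f' := pullback.map (f ≫ q) g q g f (𝟙 S') (𝟙 S) (Category.comp_id _)
        ((Category.comp_id _).trans (Category.id_comp _).symm)
    (IsOpenMap f'.base → IsOpenMap f.base) ∧ (IsClosedMap f'.base → IsClosedMap f.base) ∧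
    (UniversallyOpen f' → UniversallyOpen f) ∧ (UniversallyClosed f' → UniversallyClosed f) ∧
    (IsSeparated f' → IsSeparated f) ∧
    (QuasiCompact g → LocallyOfFiniteType f → IsProper f' → IsProper f) := by
  intro f'
  have H := isPullback_baseChange g f q
  have hc : SGA1.UnivSubmersive (pullback.fst q g) :=
    MorphismProperty.of_isPullback (P := SGA1.UnivSubmersive)
      (IsPullback.of_hasPullback q g).flip hg
  have hcq := hc _ _ _ IsPullback.of_id_snd
  have ho : UniversallyOpen f' → UniversallyOpen f := fun hu =>
    ⟨universally_desc (fun {A B} _ _ φ => IsOpenMap φ) isOpenMap_desc H hc hu.universally_isOpenMap⟩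
  have hcl : UniversallyClosed f' → UniversallyClosed f := fun hu =>
    ⟨universally_desc (fun {A B} _ _ φ => IsClosedMap φ) isClosedMap_desc H hc hu.1⟩
  refine ⟨isOpenMap_desc H hcq, isClosedMap_desc H hcq, ho, hcl,
    fun hs => isSeparated_desc H hc, fun hgq hl hp => ?_⟩
  have := hcl inferInstance
  have := isSeparated_desc H hc
  have hqc : QuasiCompact f :=
    descendsAlong_quasiCompact.of_isPullback H.flip
      ⟨surjective_of_univSubmersive _ hc, inferInstance⟩ inferInstance
  exact IsProper.mk

end Sga84
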