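import Groth.Agent.Unr55.EtAscent
import Mathlib.FieldTheory.KummerExtension
import Mathlib.Algebra.DualNumber
import Mathlib.RingTheory.Etale.Basic

/-! # Finite étale algebras do not see a wild `p`-th root -/

set_option autoImplicit false
universe u

open Polynomial

namespace Groth.Agent.RootDescent84

variable {S E : Type u} [CommRing S] [IsDomain S] [IsIntegrallyClosed S] [Field E] [Algebra S E]
  {B : Type u} [CommRing B] [Algebra S B] [Algebra.IsIntegral S B] [Algebra.Etale S B]

/-- The image of a finite étale algebra over a normal domain in a field is integrally closed. -/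
theorem mem_range_of_isIntegral (hinj : Function.Injective (algebraMap S E)) (φ : B →ₐ[S] E) {z u v : E}
    (hz : IsIntegral S z) (hu : u ∈ φ.range) (hv : v ∈ φ.range) (hv0 : v ≠ 0) (he : z * v = u) :
    z ∈ φ.range := by
  classical
  let P := RingHom.ker φ.toRingHom
  have hP : P.IsPrime := RingHom.ker_isPrime _
  have hPc : P.comap (algebraMap S B) = ⊥ := by
    refine (Submodule.eq_bot_iff _).mpr fun s hs => hinj ?_
    rw [map_zero, ← φ.commutes]
    exact hs
  let J : Ideal B :=
    { carrier := {b | φ b * z ∈ φ.range}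
      zero_mem' := ⟨0, by simp⟩
      add_mem' := fun {a b} ha hb => by
        show φ (a + b) * z ∈ φ.range
        rw [map_add, add_mul]
        exact add_mem ha hb
      smul_mem' := fun c b hb => by
        show φ (c * b) * z ∈ φ.range
        rw [map_mul, mul_assoc]
        exact mul_mem ⟨c, rfl⟩ hb }
  by_cases hJ : J = ⊤
  · have : φ 1 * z ∈ φ.range := (Ideal.eq_top_iff_one J).mp hJ
    rwa [map_one, one_mul] at this
  obtain ⟨Q, hQ, hJQ⟩ := Ideal.exists_le_maximal J hJ
  have hPQ : P ≤ Q := fun b hb => hJQ (by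
    show φ b * z ∈ φ.range
    rw [show φ b = 0 from hb, zero_mul]
    exact zero_mem _)
  obtain ⟨hdom, hic⟩ := Unr55.isNormalDomain_localization_of_etale (A := S) (T := B) Q
  let L := Localization.AtPrime Q
  have hunit : ∀ s : Q.primeCompl, IsUnit (φ s) := fun s =>
    (IsUnit.mk0 _ fun h => s.2 (hPQ h))
  let ψ : L →ₐ[S] E := IsLocalization.liftAlgHom (M := Q.primeCompl) (f := φ) hunit
  have hψ : ∀ b, ψ (algebraMap B L b) = φ b := IsLocalization.lift_eq _
  have hψi : Function.Injective ψ := by
    refine (injective_iff_map_eq_zero ψ).mpr fun x hx => ?_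
    obtain ⟨b, s, rfl⟩ := IsLocalization.exists_mk'_eq Q.primeCompl x
    rw [IsLocalization.mk'_eq_zero_iff]
    have hb : b ∈ P := by
      have h1 := congrArg (· * ψ (algebraMap B L s)) hx
      rw [zero_mul, ← map_mul, IsLocalization.mk'_spec, hψ] at h1
      exact h1
    by_contra hne
    have hb0 : algebraMap B L b ≠ 0 := fun h0 => hne ((IsLocalization.map_eq_zero_iff Q.primeCompl L b).mp h0)
    let P0 := RingHom.ker (algebraMap B L)
    have hP0 : P0.IsPrime := RingHom.ker_isPrime _
    have hlt : P0 < P := by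
      refine lt_of_le_of_ne (fun c hc => ?_) fun h => hb0 (h ▸ hb : b ∈ P0)
      show φ c = 0
      rw [← hψ, show algebraMap B L c = 0 from hc, map_zero]
    have := Ideal.IsIntegral.comap_lt_comap (R := S) hlt
    rw [hPc] at this
    exact not_lt_bot this
  obtain ⟨bu, rfl⟩ := hu
  obtain ⟨bv, rfl⟩ := hv
  have hbv : algebraMap B L bv ≠ 0 := fun h => hv0 (by
    show φ bv = 0
    rw [← hψ, h, map_zero])
  let F := FractionRing L
  let ψF : F →ₐ[S] E := IsFractionRing.liftAlgHom (g := ψ) hψi
  have hψF : ∀ l, ψF (algebraMap L F l) = ψ l := IsFractionRing.lift_algebraMap hψi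
  let q : F := algebraMap L F (algebraMap B L bu) / algebraMap L F (algebraMap B L bv)
  have hq : ψF q = z := by
    rw [map_div₀, hψF, hψF, hψ, hψ]
    exact (div_eq_iff hv0).mpr he.symm
  have hqi : IsIntegral S q := (isIntegral_algHom_iff ψF ψF.toRingHom.injective).mp (hq.symm ▸ hz)
  obtain ⟨l, hl⟩ := IsIntegrallyClosed.isIntegral_iff.mp (hqi.tower_top (A := L))
  obtain ⟨b, s, rfl⟩ := IsLocalization.exists_mk'_eq Q.primeCompl l
  refine absurd (hJQ ?_) s.2
  show φ s * z ∈ φ.range
  rw [← hq, ← hl, hψF, ← hψ, ← map_mul, IsLocalization.mk'_spec', hψ]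
  exact ⟨b, rfl⟩

end Groth.Agent.RootDescent84
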