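import Groth.Agent.EGA4Alg4.IntegralDim
import Groth.Agent.EGA4Alg4.RegParam
import Groth.Agent.CAlg1.Regular
import Mathlib.RingTheory.Etale.Basic
import Mathlib.RingTheory.IntegralClosure.IsIntegralClosure.Basic
import Mathlib.RingTheory.Localization.Away.Basic

/-!
# Kummer algebras `A[T_i]/(T_i^{n_i} - a_i)`
-/

set_option autoImplicit false
universe u v

open IsLocalRing

namespace Groth.Agent.KummerAlg84

variable {A : Type u} [CommRing A] {ι : Type v} (a : ι → A) (n : ι → ℕ)

/-- The Kummer ideal. -/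
noncomputable abbrev ker : Ideal (MvPolynomial ι A) :=
  Ideal.span (Set.range fun i => (MvPolynomial.X i : MvPolynomial ι A) ^ n i - MvPolynomial.C (a i))

/-- The class of `T_i`. -/
noncomputable def T (i : ι) : MvPolynomial ι A ⧸ ker a n := Ideal.Quotient.mk _ (MvPolynomial.X i)

theorem T_pow (i : ι) : T a n i ^ n i = algebraMap A (MvPolynomial ι A ⧸ ker a n) (a i) := by
  rw [T, ← map_pow]
  exact Ideal.Quotient.eq.mpr (Ideal.subset_span ⟨i, rfl⟩)

variable {a n}

theorem isIntegral (hn : ∀ i, 1 ≤ n i) : Algebra.IsIntegral A (MvPolynomial ι A ⧸ ker a n) := by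
  refine ⟨fun x => ?_⟩
  obtain ⟨x, rfl⟩ := Ideal.Quotient.mk_surjective x
  induction x using MvPolynomial.induction_on with
  | C c => exact isIntegral_algebraMap
  | add x y hx hy => rw [map_add]; exact hx.add hy
  | mul_X x i hx =>
    rw [map_mul]
    exact hx.mul (IsIntegral.of_pow (hn i) ((T_pow a n i).symm ▸ isIntegral_algebraMap))

theorem finite [Finite ι] (hn : ∀ i, 1 ≤ n i) : Module.Finite A (MvPolynomial ι A ⧸ ker a n) := by
  have := isIntegral (a := a) hn
  exact Algebra.IsIntegral.finite

theorem injective_algebraMap [IsDomain A] (hn : ∀ i, 1 ≤ n i) :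
    Function.Injective (algebraMap A (MvPolynomial ι A ⧸ ker a n)) := by
  let Ω := AlgebraicClosure (FractionRing A)
  let ι₀ : A →+* Ω := (algebraMap (FractionRing A) Ω).comp (algebraMap A (FractionRing A))
  choose r hr using fun i => IsAlgClosed.exists_pow_nat_eq (ι₀ (a i)) (hn i)
  let ev : (MvPolynomial ι A ⧸ ker a n) →+* Ω :=
    Ideal.Quotient.lift _ (MvPolynomial.eval₂Hom ι₀ r) (fun x hx => by
      refine RingHom.mem_ker.mp (Ideal.span_le.mpr ?_ hx)
      rintro _ ⟨i, rfl⟩
      simp [hr])
  have hinj : Function.Injective ι₀ :=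
    (algebraMap (FractionRing A) Ω).injective.comp (IsFractionRing.injective A (FractionRing A))
  refine fun x y h => hinj ?_
  have := congrArg ev h
  simpa [ev, MvPolynomial.algebraMap_eq, ← Ideal.Quotient.mk_algebraMap] using this

/-- Over a local ring with all `a_i` in the maximal ideal, the Kummer algebra is local. -/
theorem isLocalRing_and_maximalIdeal [IsLocalRing A] (hn : ∀ i, 1 ≤ n i) (ha : ∀ i, a i ∈ maximalIdeal A) :
    ∃ h : IsLocalRing (MvPolynomial ι A ⧸ ker a n),
      @IsLocalRing.maximalIdeal (MvPolynomial ι A ⧸ ker a n) _ h =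
        (maximalIdeal A).map (algebraMap A (MvPolynomial ι A ⧸ ker a n)) ⊔ Ideal.span (Set.range (T a n)) := by
  let K := MvPolynomial ι A ⧸ ker a n
  let M : Ideal K := (maximalIdeal A).map (algebraMap A K) ⊔ Ideal.span (Set.range (T a n))
  let π : K →+* ResidueField A := Ideal.Quotient.lift _ (MvPolynomial.eval₂Hom (residue A) 0) (fun x hx => by
    refine RingHom.mem_ker.mp (Ideal.span_le.mpr ?_ hx)
    rintro _ ⟨i, rfl⟩
    simp [zero_pow (show n i ≠ 0 by have := hn i; omega), residue_eq_zero_iff, ha i])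
  have hπC : ∀ c, π (algebraMap A K c) = residue A c := fun c => by
    simp [π, K, ← Ideal.Quotient.mk_algebraMap, MvPolynomial.algebraMap_eq]
  have hπT : ∀ i, π (T a n i) = 0 := fun i => MvPolynomial.eval₂Hom_X' (residue A) 0 i
  have hπs : Function.Surjective π := fun y => (residue_surjective y).elim fun c hc => ⟨_, (hπC c).trans hc⟩
  have hker : RingHom.ker π = M := by
    refine le_antisymm (fun x hx => ?_) (sup_le (Ideal.map_le_iff_le_comap.mpr fun c hc => ?_)
      (Ideal.span_le.mpr (by rintro _ ⟨i, rfl⟩; exact hπT i)))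
    · have hdec : ∀ y : K, ∃ c, y - algebraMap A K c ∈ Ideal.span (Set.range (T a n)) := fun y => by
        obtain ⟨y, rfl⟩ := Ideal.Quotient.mk_surjective y
        induction y using MvPolynomial.induction_on with
        | C c => exact ⟨c, by simp [K, ← Ideal.Quotient.mk_algebraMap, MvPolynomial.algebraMap_eq]⟩
        | add p q hp hq =>
          obtain ⟨c, hc⟩ := hp
          obtain ⟨d, hd⟩ := hq
          exact ⟨c + d, by rw [map_add, map_add, add_sub_add_comm]; exact add_mem hc hd⟩
        | mul_X p i _ => exact ⟨0, by rw [map_zero, sub_zero, map_mul]; exact Ideal.mul_mem_left _ _ (Ideal.subset_span ⟨i, rfl⟩)⟩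
      obtain ⟨c, hc⟩ := hdec x
      have h0 : π (x - algebraMap A K c) = 0 :=
        (Ideal.span_le.mpr (by rintro _ ⟨i, rfl⟩; exact hπT i) : Ideal.span _ ≤ RingHom.ker π) hc
      rw [map_sub, RingHom.mem_ker.mp hx, zero_sub, neg_eq_zero, hπC, residue_eq_zero_iff] at h0
      rw [← sub_add_cancel x (algebraMap A K c)]
      exact add_mem (Submodule.mem_sup_right hc) (Submodule.mem_sup_left (Ideal.mem_map_of_mem _ h0))
    · rw [Ideal.mem_comap, RingHom.mem_ker, hπC, residue_eq_zero_iff]
      exact hc
  have hMmax : M.IsMaximal := hker ▸ RingHom.ker_isMaximal_of_surjective π hπs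
  have huniq : ∀ P : Ideal K, P.IsMaximal → P = M := fun P hP => by
    have := isIntegral (a := a) hn
    have hPm : P.comap (algebraMap A K) = maximalIdeal A :=
      IsLocalRing.eq_maximalIdeal (Ideal.isMaximal_comap_of_isIntegral_of_isMaximal P)
    refine (hMmax.eq_of_le hP.ne_top (sup_le (Ideal.map_le_iff_le_comap.mpr hPm.ge) (Ideal.span_le.mpr ?_))).symm
    rintro _ ⟨i, rfl⟩
    refine hP.isPrime.mem_of_pow_mem (n i) ?_
    rw [T_pow]
    exact hPm.ge (ha i)
  have hloc : IsLocalRing K := IsLocalRing.of_unique_max_ideal ⟨M, hMmax, huniq⟩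
  exact ⟨hloc, (IsLocalRing.eq_maximalIdeal hMmax).symm⟩

/-- Kummer algebras of part of a regular system of parameters are regular. -/
theorem isRegularLocalRing [IsRegularLocalRing A] {r : ℕ} (a : Fin r → A) (ha : ∀ i, a i ∈ maximalIdeal A)
    (hli : LinearIndependent (ResidueField A) (fun i => (maximalIdeal A).toCotangent ⟨a i, ha i⟩))
    {n : Fin r → ℕ} (hn : ∀ i, 1 ≤ n i) : IsRegularLocalRing (MvPolynomial (Fin r) A ⧸ ker a n) := by
  classical
  have : IsDomain A := CAlg1.isDomain_regular A
  obtain ⟨hdim, hreg⟩ := (EGA4Alg4.regular_params_iff (fun i => ⟨a i, ha i⟩ : Fin r → maximalIdeal A)).1.mp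
    ⟨inferInstance, hli⟩
  set K := MvPolynomial (Fin r) A ⧸ ker a n
  have := finite (a := a) hn
  have := isIntegral (a := a) hn
  obtain ⟨hloc, hmax⟩ := isLocalRing_and_maximalIdeal hn ha
  have : IsNoetherianRing K := inferInstance
  refine IsRegularLocalRing.of_spanFinrank_maximalIdeal_le K ?_
  rw [EGA4Alg4.ringKrullDim_eq_of_integral A K (injective_algebraMap hn), ← hdim,
    ← IsRegularLocalRing.spanFinrank_maximalIdeal (R := A ⧸ Ideal.span (Set.range fun i => (a i : A)))]
  obtain ⟨t, ht, hts⟩ := Submodule.FG.exists_span_set_encard_eq_spanFinrank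
    (IsNoetherian.noetherian (maximalIdeal (A ⧸ Ideal.span (Set.range fun i => (a i : A)))))
  have htfin : t.Finite := Set.finite_of_encard_eq_coe ht
  choose g hg using Ideal.Quotient.mk_surjective (I := Ideal.span (Set.range fun i => (a i : A)))
  have hm : maximalIdeal A ≤ Ideal.span (g '' t) ⊔ Ideal.span (Set.range fun i => (a i : A)) := fun c hc => by
    let mk := Ideal.Quotient.mk (Ideal.span (Set.range fun i => (a i : A)))
    have hmem : mk c ∈ (Ideal.span (g '' t)).map mk := by
      rw [Ideal.map_span, Set.image_image]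
      simp only [mk, hg, Set.image_id']
      rw [show Ideal.span t = maximalIdeal _ from hts,
        ← IsLocalRing.map_maximalIdeal_of_surjective _ (Ideal.Quotient.mk_surjective (I := Ideal.span (Set.range fun i => (a i : A))))]
      exact Ideal.mem_map_of_mem _ hc
    obtain ⟨s, hs, hse⟩ := (Ideal.mem_map_iff_of_surjective mk Ideal.Quotient.mk_surjective).mp hmem
    rw [← add_sub_cancel s c]
    exact add_mem (Submodule.mem_sup_left hs) (Submodule.mem_sup_right (Ideal.Quotient.eq.mp hse.symm))
  have hle : maximalIdeal K ≤ Ideal.span (algebraMap A K '' (g '' t) ∪ Set.range (T a n)) := by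
    rw [hmax, Ideal.span_union]
    refine sup_le ((Ideal.map_mono hm).trans ?_) le_sup_right
    rw [Ideal.map_sup, Ideal.map_span, Ideal.map_span]
    refine sup_le le_sup_left (Ideal.span_le.mpr ?_)
    rintro _ ⟨_, ⟨i, rfl⟩, rfl⟩
    refine Submodule.mem_sup_right ?_
    rw [← T_pow]
    exact Ideal.pow_mem_of_mem _ (Ideal.subset_span (Set.mem_range_self i)) _ (hn i)
  have hge : Ideal.span (algebraMap A K '' (g '' t) ∪ Set.range (T a n)) ≤ maximalIdeal K := by
    rw [hmax, Ideal.span_union]
    refine sup_le (le_sup_of_le_left (Ideal.span_le.mpr ?_)) le_sup_right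
    rintro _ ⟨_, ⟨y, hy, rfl⟩, rfl⟩
    refine Ideal.mem_map_of_mem _ (IsLocalRing.mem_maximalIdeal _ |>.mpr fun hu => ?_)
    have := hu.map (Ideal.Quotient.mk (Ideal.span (Set.range fun i => (a i : A))))
    rw [hg] at this
    exact (IsLocalRing.mem_maximalIdeal _).mp (hts ▸ Submodule.subset_span hy : y ∈ maximalIdeal _) this
  have hfin : (algebraMap A K '' (g '' t) ∪ Set.range (T a n)).Finite :=
    ((htfin.image _).image _).union (Set.finite_range _)
  rw [le_antisymm hle hge]
  have h1 := Submodule.spanFinrank_span_le_ncard_of_finite (R := K) hfin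
  have h2 : (algebraMap A K '' (g '' t) ∪ Set.range (T a n)).ncard ≤ t.ncard + r := by
    refine (Set.ncard_union_le _ _).trans (Nat.add_le_add ?_ ?_)
    · exact (Set.ncard_image_le (htfin.image _)).trans (Set.ncard_image_le htfin)
    · rw [← Set.image_univ]
      exact (Set.ncard_image_le Set.finite_univ).trans_eq (by simp)
  have h3 : t.ncard = (maximalIdeal (A ⧸ Ideal.span (Set.range fun i => (a i : A)))).spanFinrank := by
    exact_mod_cast (Set.Finite.cast_ncard_eq htfin).trans ht
  rw [← h3]
  exact_mod_cast h1.trans h2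

/-- Inverting the `a_i` makes the Kummer algebra étale when the `n_i` are invertible. -/
theorem etale_away [Finite ι] (hn : ∀ i, 1 ≤ n i) (hu : ∀ i, IsUnit ((n i : ℕ) : A)) (F : A)
    (hF : ∀ i, a i ∣ F) :
    Algebra.Etale A (Localization.Away (algebraMap A (MvPolynomial ι A ⧸ ker a n) F)) := by
  set K := MvPolynomial ι A ⧸ ker a n
  let L := Localization.Away (algebraMap A K F)
  have hT : ∀ i, IsUnit (algebraMap K L (T a n i)) := fun i => by
    refine (isUnit_pow_iff (show n i ≠ 0 by have := hn i; omega)).mp ?_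
    rw [← map_pow, T_pow]
    exact isUnit_of_dvd_unit (map_dvd (algebraMap K L) (map_dvd (algebraMap A K) (hF i)))
      (IsLocalization.Away.algebraMap_isUnit _)
  have : Algebra.FinitePresentation A K := Algebra.FinitePresentation.quotient (Submodule.fg_span (Set.finite_range _))
  have hfp : Algebra.FinitePresentation K L := IsLocalization.Away.finitePresentation (algebraMap A K F)
  have hTL : ∀ i, algebraMap K L (T a n i ^ n i) = algebraMap A L (a i) := fun i => by
    rw [T_pow]
    exact (IsScalarTower.algebraMap_apply A K L _).symm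
  refine { finitePresentation := Algebra.FinitePresentation.trans A K L, formallyEtale := ?_ }
  rw [Algebra.FormallyEtale.iff_comp_bijective]
  intro B _ _ I hI
  refine ⟨fun φ ψ h => ?_, fun φ => ?_⟩
  · refine IsLocalization.algHom_ext (Submonoid.powers (algebraMap A K F)) (Ideal.Quotient.algHom_ext _ (MvPolynomial.algHom_ext fun i => ?_))
    show φ (algebraMap K L (T a n i)) = ψ (algebraMap K L (T a n i))
    set x := φ (algebraMap K L (T a n i))
    set y := ψ (algebraMap K L (T a n i))
    have hd : y - x ∈ I := Ideal.Quotient.eq.mp (AlgHom.congr_fun h (algebraMap K L (T a n i))).symm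
    have hxy : y ^ n i = x ^ n i := by
      simp only [x, y, ← map_pow, hTL]
      exact (ψ.commutes (a i)).trans (φ.commutes (a i)).symm
    have h2 : (y - x) ^ 2 = 0 := Ideal.mem_bot.mp (hI ▸ Ideal.pow_mem_pow hd 2)
    have h3 := add_pow_sq_zero x (y - x) h2 (n i) (hn i)
    rw [add_sub_cancel, hxy] at h3
    have h4 : (n i : B) * x ^ (n i - 1) * (y - x) = 0 := by linear_combination -h3
    have hu' : IsUnit ((n i : B) * x ^ (n i - 1)) :=
      ((map_natCast (algebraMap A B) (n i)) ▸ (hu i).map (algebraMap A B)).mul (((hT i).map φ).pow _)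
    exact (sub_eq_zero.mp (hu'.mul_right_eq_zero.mp h4)).symm
  · have hlift : ∀ i, ∃ y : B, y ^ n i = algebraMap A B (a i) ∧
        Ideal.Quotient.mk I y = φ (algebraMap K L (T a n i)) := fun i => by
      obtain ⟨x, hx⟩ := Ideal.Quotient.mk_surjective (φ (algebraMap K L (T a n i)))
      have hxu : IsUnit x := by
        obtain ⟨w, hw⟩ := isUnit_iff_exists_inv.mp ((hT i).map φ)
        obtain ⟨w, rfl⟩ := Ideal.Quotient.mk_surjective w
        rw [← hx, ← map_mul, ← map_one (Ideal.Quotient.mk I), Ideal.Quotient.eq] at hw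
        have hnil : IsNilpotent (x * w - 1) := ⟨2, Ideal.mem_bot.mp (hI ▸ Ideal.pow_mem_pow hw 2)⟩
        have := hnil.isUnit_add_one
        rw [sub_add_cancel] at this
        exact isUnit_of_mul_isUnit_left this
      have hd : algebraMap A B (a i) - x ^ n i ∈ I := by
        rw [← Ideal.Quotient.eq, map_pow, hx, ← map_pow, ← map_pow, hTL,
          AlgHom.commutes, Ideal.Quotient.mk_algebraMap]
      obtain ⟨w, hw⟩ := isUnit_iff_exists_inv.mp
        (((map_natCast (algebraMap A B) (n i)) ▸ (hu i).map (algebraMap A B) : IsUnit ((n i : ℕ) : B)).mul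
          (hxu.pow (n i - 1)))
      refine ⟨x + w * (algebraMap A B (a i) - x ^ n i), ?_, ?_⟩
      · have h2 : (w * (algebraMap A B (a i) - x ^ n i)) ^ 2 = 0 :=
          Ideal.mem_bot.mp (hI ▸ Ideal.pow_mem_pow (I.mul_mem_left w hd) 2)
        rw [add_pow_sq_zero x _ h2 (n i) (hn i)]
        linear_combination (algebraMap A B (a i) - x ^ n i) * hw
      · rw [map_add, map_mul, Ideal.Quotient.eq_zero_iff_mem.mpr hd, mul_zero, add_zero, hx]
    choose y hy hyq using hlift
    let ψ₀ : K →ₐ[A] B := Ideal.Quotient.liftₐ _ (MvPolynomial.aeval y) fun z hz => by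
      refine RingHom.mem_ker.mp (Ideal.span_le.mpr ?_ hz)
      rintro _ ⟨i, rfl⟩
      simp [hy]
    have hq : (Ideal.Quotient.mkₐ A I).comp ψ₀ = φ.comp (IsScalarTower.toAlgHom A K L) :=
      Ideal.Quotient.algHom_ext _ (MvPolynomial.algHom_ext fun i => by
        show Ideal.Quotient.mk I (MvPolynomial.aeval y (MvPolynomial.X i)) = _
        rw [MvPolynomial.aeval_X, hyq]
        rfl)
    have hunit : IsUnit (ψ₀ (algebraMap A K F)) := by
      rw [AlgHom.commutes]
      have h : IsUnit (φ (algebraMap K L (algebraMap A K F))) := (IsLocalization.Away.algebraMap_isUnit _).map φ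
      rw [← IsScalarTower.algebraMap_apply, AlgHom.commutes, ← Ideal.Quotient.mk_algebraMap] at h
      exact (isUnit_map_iff_of_nilpotent (J := I) hI).mp h
    refine ⟨IsLocalization.liftAlgHom (M := Submonoid.powers (algebraMap A K F)) (f := ψ₀) ?_, ?_⟩
    · rintro ⟨_, m, rfl⟩
      rw [map_pow]
      exact hunit.pow m
    · refine IsLocalization.algHom_ext (Submonoid.powers (algebraMap A K F)) ?_
      refine Eq.trans ?_ hq
      refine AlgHom.ext fun z => congrArg (Ideal.Quotient.mk I) ?_
      exact IsLocalization.lift_eq _ z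
where
  add_pow_sq_zero {B : Type (max u v)} [CommRing B] (x d : B) (hd : d ^ 2 = 0) (m : ℕ) (hm : 1 ≤ m) :
      (x + d) ^ m = x ^ m + (m : B) * x ^ (m - 1) * d := by
    obtain ⟨m, rfl⟩ := Nat.exists_eq_succ_of_ne_zero (show m ≠ 0 by omega)
    clear hm
    induction m with
    | zero => simp
    | succ m ih =>
      rw [pow_succ, ih]
      simp only [Nat.succ_eq_add_one, Nat.add_sub_cancel, Nat.cast_add, Nat.cast_one, pow_succ]
      linear_combination ((m : B) + 1) * x ^ m * hd
  isUnit_map_iff_of_nilpotent {B : Type (max u v)} [CommRing B] {J : Ideal B} (hJ : J ^ 2 = ⊥) {x : B} :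
      IsUnit (Ideal.Quotient.mk J x) ↔ IsUnit x := by
    refine ⟨fun h => ?_, fun h => h.map _⟩
    obtain ⟨w, hw⟩ := isUnit_iff_exists_inv.mp h
    obtain ⟨w, rfl⟩ := Ideal.Quotient.mk_surjective w
    rw [← map_mul, ← map_one (Ideal.Quotient.mk J), Ideal.Quotient.eq] at hw
    have hnil : IsNilpotent (x * w - 1) := ⟨2, Ideal.mem_bot.mp (hJ ▸ Ideal.pow_mem_pow hw 2)⟩
    have := hnil.isUnit_add_one
    rw [sub_add_cancel] at this
    exact isUnit_of_mul_isUnit_left this

end Groth.Agent.KummerAlg84
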