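import Mathlib.AlgebraicGeometry.FunctionField
import Mathlib.AlgebraicGeometry.ResidueField
import Mathlib.RingTheory.DiscreteValuationRing.Basic

/-! # The residue field of a proper generisation of a point with a DVR stalk -/

set_option autoImplicit false
universe u
open CategoryTheory AlgebraicGeometry

namespace Groth.Agent.DvrFrac84

theorem isFractionRing_residueField {X : Scheme.{u}} {η y : X} (h : η ⤳ y) (hne : η ≠ y)
    [IsDomain (X.presheaf.stalk y)] [IsDiscreteValuationRing (X.presheaf.stalk y)] :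
    letI : Algebra (X.presheaf.stalk y) (X.residueField η) :=
      ((X.residue η).hom.comp (X.presheaf.stalkSpecializes h).hom).toAlgebra
    IsFractionRing (X.presheaf.stalk y) (X.residueField η) := by
  let : Algebra (X.presheaf.stalk y) (X.residueField η) :=
    ((X.residue η).hom.comp (X.presheaf.stalkSpecializes h).hom).toAlgebra
  obtain ⟨U, hU, hy, -⟩ := exists_isAffineOpen_mem_and_subset (X := X) (x := y) (U := ⊤) trivial
  have hη : η ∈ U := h.mem_open U.2 hy
  let py := hU.primeIdealOf ⟨y, hy⟩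
  let pη := hU.primeIdealOf ⟨η, hη⟩
  have hle : pη.asIdeal ≤ py.asIdeal := by
    refine (PrimeSpectrum.le_iff_specializes pη py).mpr (hU.fromSpec.isOpenEmbedding.isInducing.specializes_iff.mp ?_)
    show hU.fromSpec pη ⤳ hU.fromSpec py
    rw [hU.fromSpec_primeIdealOf, hU.fromSpec_primeIdealOf]
    exact h
  have hne' : pη.asIdeal ≠ py.asIdeal := fun he => hne (by
    have h1 := congrArg hU.fromSpec (PrimeSpectrum.ext he : pη = py)
    rwa [hU.fromSpec_primeIdealOf, hU.fromSpec_primeIdealOf] at h1)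
  obtain ⟨r, hr, hr'⟩ := Set.exists_of_ssubset (lt_of_le_of_ne hle hne' : pη.asIdeal < py.asIdeal)
  have hly := hU.isLocalization_stalk ⟨y, hy⟩
  have hlη := hU.isLocalization_stalk ⟨η, hη⟩
  let : Algebra Γ(X, U) (X.presheaf.stalk y) := TopCat.Presheaf.algebra_section_stalk X.presheaf ⟨y, hy⟩
  let : Algebra Γ(X, U) (X.presheaf.stalk η) := TopCat.Presheaf.algebra_section_stalk X.presheaf ⟨η, hη⟩
  have hcomp : ∀ a : Γ(X, U), (X.presheaf.stalkSpecializes h).hom (algebraMap Γ(X, U) (X.presheaf.stalk y) a) =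
      algebraMap Γ(X, U) (X.presheaf.stalk η) a :=
    fun a => congrArg (fun m => m.hom a) (X.presheaf.germ_stalkSpecializes hy h)
  have hunit : ∀ a : Γ(X, U), a ∉ pη.asIdeal →
      algebraMap (X.presheaf.stalk y) (X.residueField η) (algebraMap Γ(X, U) (X.presheaf.stalk y) a) ≠ 0 := fun a ha => by
    show (X.residue η).hom ((X.presheaf.stalkSpecializes h).hom _) ≠ 0
    rw [hcomp]
    exact ((IsLocalization.map_units (M := pη.asIdeal.primeCompl) (X.presheaf.stalk η) ⟨a, ha⟩).map (X.residue η).hom).ne_zero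
  obtain ⟨π, hπ⟩ := IsDiscreteValuationRing.exists_irreducible (X.presheaf.stalk y)
  have hπ0 : algebraMap (X.presheaf.stalk y) (X.residueField η) π ≠ 0 := by
    intro h0
    have hru : ¬ IsUnit (algebraMap Γ(X, U) (X.presheaf.stalk y) r) := fun hu =>
      ((IsLocalization.AtPrime.isUnit_to_map_iff _ py.asIdeal r).mp hu) hr
    have hr0 : algebraMap Γ(X, U) (X.presheaf.stalk y) r ≠ 0 := fun he =>
      hunit r hr' (by rw [he, map_zero])
    obtain ⟨n, v, hv⟩ := IsDiscreteValuationRing.eq_unit_mul_pow_irreducible hr0 hπ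
    rcases n with _ | n
    · exact hru (by rw [hv, pow_zero, mul_one]; exact v.isUnit)
    · exact hunit r hr' (by rw [hv, map_mul, map_pow, h0, zero_pow (Nat.succ_ne_zero n), mul_zero])
  have hall : ∀ a : X.presheaf.stalk y, a ≠ 0 → algebraMap (X.presheaf.stalk y) (X.residueField η) a ≠ 0 := by
    intro a ha
    obtain ⟨n, v, rfl⟩ := IsDiscreteValuationRing.eq_unit_mul_pow_irreducible ha hπ
    rw [map_mul, map_pow]
    exact mul_ne_zero (v.isUnit.map _).ne_zero (pow_ne_zero _ hπ0)
  have hinj : Function.Injective (algebraMap (X.presheaf.stalk y) (X.residueField η)) :=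
    (injective_iff_map_eq_zero _).mpr fun a ha => by_contra fun h0 => hall a h0 ha
  refine ⟨fun a => (hall _ (nonZeroDivisors.ne_zero a.2)).isUnit, fun z => ?_, fun {a b} e => ⟨1, by rw [hinj e]⟩⟩
  obtain ⟨x, rfl⟩ := X.residue_surjective η z
  obtain ⟨⟨a, b⟩, hx⟩ := IsLocalization.surj pη.asIdeal.primeCompl x
  refine ⟨⟨algebraMap Γ(X, U) (X.presheaf.stalk y) a, algebraMap Γ(X, U) (X.presheaf.stalk y) b,
    mem_nonZeroDivisors_of_ne_zero fun h0 => hunit b b.2 (by rw [h0, map_zero])⟩, ?_⟩
  show (X.residue η).hom x * (X.residue η).hom ((X.presheaf.stalkSpecializes h).hom _) = (X.residue η).hom ((X.presheaf.stalkSpecializes h).hom _)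
  rw [← map_mul, hcomp, hcomp, hx]

end Groth.Agent.DvrFrac84
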