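import Groth.Agent.Unr55.EtAscent
import Groth.Agent.Ind91.Loc
import Groth.Agent.Sga84.KummerAlg
import Groth.Prelude.Def_SGA1t
import Mathlib.RingTheory.Etale.Basic
import Mathlib.RingTheory.Ideal.GoingDown
import Mathlib.RingTheory.Localization.BaseChange
import Mathlib.RingTheory.Spectrum.Prime.Topology
import Mathlib.RingTheory.TensorProduct.Quotient
import Mathlib.Algebra.MvPolynomial.Nilpotent

/-! # Connectedness of Kummer covers away from the branch divisor -/

set_option autoImplicit false
universe u v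

open TensorProduct

namespace Groth.Agent.KummerConn84

theorem nil_cancel {K : Type u} [CommRing K] {u x : K} (hu : IsUnit u) (h : IsNilpotent (u * x)) : IsNilpotent x := by
  obtain ⟨v, hv⟩ := isUnit_iff_exists_inv'.mp hu
  have := (Commute.all v (u * x)).isNilpotent_mul_left h
  rwa [← mul_assoc, hv, one_mul] at this

/-- Idempotents of a localization of a local ring away from a product of elements which are nonzerodivisors and
radical modulo nilpotents are trivial. -/
theorem pow_dichotomy {K : Type u} [CommRing K] [IsLocalRing K] {ι : Type v} [Fintype ι] (T : ι → K)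
    (h1 : ∀ i x, IsNilpotent (T i * x) → IsNilpotent x)
    (h2 : ∀ i, (Ideal.span {T i}).radical ≤ Ideal.span {T i} ⊔ nilradical K)
    (b : K) (k : ℕ) (hb : IsNilpotent (b ^ 2 - (∏ i, T i) ^ k * b)) :
    IsNilpotent b ∨ IsNilpotent (b - (∏ i, T i) ^ k) := by
  classical
  suffices H : ∀ M ∈ Submonoid.closure (Set.range T), ∀ b : K, IsNilpotent (b ^ 2 - M * b) →
      IsNilpotent b ∨ IsNilpotent (b - M) from
    H _ (pow_mem (prod_mem fun i _ => Submonoid.subset_closure (s := Set.range T) (Set.mem_range_self i)) k) b hb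
  intro M hM
  induction hM using Submonoid.closure_induction_left with
  | one =>
    intro b hb
    have h : IsNilpotent (b * (b - 1)) := by rwa [show b * (b - 1) = b ^ 2 - 1 * b by ring]
    rcases IsLocalRing.isUnit_or_isUnit_one_sub_self b with hu | hu
    · exact Or.inr (nil_cancel hu h)
    · refine Or.inl (nil_cancel hu ?_)
      rw [show (1 - b) * b = -(b * (b - 1)) by ring]
      exact h.neg
  | mul_left x hx M hM ih =>
    obtain ⟨i, rfl⟩ := hx
    intro b hb
    have hb2 : b ∈ (Ideal.span {T i}).radical := by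
      have hle : nilradical K ≤ (Ideal.span {T i}).radical := Ideal.radical_mono bot_le
      refine Ideal.mem_radical_of_pow_mem (m := 2) ?_
      rw [← sub_add_cancel (b ^ 2) (T i * M * b)]
      exact add_mem (hle (mem_nilradical.mpr hb))
        (Ideal.le_radical (Ideal.mem_span_singleton.mpr ⟨M * b, mul_assoc _ _ _⟩))
    obtain ⟨y, hy, z, hz, rfl⟩ := Submodule.mem_sup.mp (h2 i hb2)
    obtain ⟨c, rfl⟩ := Ideal.mem_span_singleton.mp hy
    replace hz := mem_nilradical.mp hz
    have hc : IsNilpotent (c ^ 2 - M * c) := by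
      refine h1 i _ (h1 i _ ?_)
      rw [show T i * (T i * (c ^ 2 - M * c)) =
        ((T i * c + z) ^ 2 - T i * M * (T i * c + z)) - (2 * (T i * c) + z - T i * M) * z by ring]
      exact (Commute.all _ _).isNilpotent_sub hb ((Commute.all _ _).isNilpotent_mul_left hz)
    rcases ih c hc with h | h
    · exact Or.inl ((Commute.all _ _).isNilpotent_add ((Commute.all _ _).isNilpotent_mul_left h) hz)
    · refine Or.inr ?_
      rw [show T i * c + z - T i * M = T i * (c - M) + z by ring]
      exact (Commute.all _ _).isNilpotent_add ((Commute.all _ _).isNilpotent_mul_left h) hz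

/-- The basic open of `F` is connected if the localization away from `F` has only trivial idempotents. -/
theorem connectedSpace_basicOpen {K : Type u} [CommRing K] (F : K) (hF : ¬ IsNilpotent F)
    (h : ∀ (b : K) (k : ℕ), IsNilpotent (b ^ 2 - F ^ k * b) → IsNilpotent b ∨ IsNilpotent (b - F ^ k)) :
    ConnectedSpace (PrimeSpectrum.basicOpen F : Set (PrimeSpectrum K)) := by
  let L := Localization.Away F
  have hnt : Nontrivial L := by
    refine not_subsingleton_iff_nontrivial.mp fun hs => hF ?_
    have h0 : (0 : K) ∈ Submonoid.powers F := IsLocalization.subsingleton_iff.mp hs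
    obtain ⟨n, hn⟩ := h0
    exact ⟨n, hn⟩
  have hidem : ∀ e : L, IsIdempotentElem e → e = 0 ∨ e = 1 := by
    intro e he
    obtain ⟨b, ⟨_, k, rfl⟩, rfl⟩ := IsLocalization.exists_mk'_eq (Submonoid.powers F) e
    have hs : IsUnit (algebraMap K L (F ^ k)) := IsLocalization.map_units L (⟨F ^ k, k, rfl⟩ : Submonoid.powers F)
    have hmk : IsLocalization.mk' L b (⟨F ^ k, k, rfl⟩ : Submonoid.powers F) * algebraMap K L (F ^ k) = algebraMap K L b :=
      IsLocalization.mk'_spec L b _
    have hkey : algebraMap K L (b ^ 2) = algebraMap K L (F ^ k * b) := by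
      rw [map_pow, map_mul, ← hmk]
      linear_combination (algebraMap K L (F ^ k)) ^ 2 * he.eq
    obtain ⟨⟨_, j, rfl⟩, hj⟩ := (IsLocalization.eq_iff_exists (Submonoid.powers F) L).mp hkey
    dsimp only at hj
    have hnil : IsNilpotent ((F ^ j * b) ^ 2 - F ^ (j + k) * (F ^ j * b)) := by
      rw [show (F ^ j * b) ^ 2 - F ^ (j + k) * (F ^ j * b) = F ^ j * (F ^ j * b ^ 2 - F ^ j * (F ^ k * b)) by ring,
        hj, sub_self, mul_zero]
      exact IsNilpotent.zero
    have hu : IsUnit (algebraMap K L (F ^ j)) := IsLocalization.map_units L (⟨F ^ j, j, rfl⟩ : Submonoid.powers F)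
    rcases h _ _ hnil with h' | h'
    · refine Or.inl (eq_of_isNilpotent_sub_of_isIdempotentElem he IsIdempotentElem.zero ?_)
      rw [sub_zero]
      have := h'.map (algebraMap K L)
      rw [map_mul, ← hmk] at this
      exact nil_cancel hs (by rw [mul_comm]; exact nil_cancel hu this)
    · refine Or.inr (eq_of_isNilpotent_sub_of_isIdempotentElem he IsIdempotentElem.one ?_)
      have := h'.map (algebraMap K L)
      rw [map_sub, map_mul, pow_add, map_mul, ← hmk, ← mul_sub] at this
      refine nil_cancel hs ?_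
      rw [mul_sub, mul_one, mul_comm]
      exact nil_cancel hu this
  have hpre : PreconnectedSpace (PrimeSpectrum L) := by
    refine preconnectedSpace_iff_clopen.mpr fun s hs => ?_
    obtain ⟨e, he, rfl⟩ := PrimeSpectrum.isClopen_iff.mp hs
    rcases hidem e he with rfl | rfl
    · exact Or.inl (by simp)
    · exact Or.inr (by simp)
  have : Nonempty (PrimeSpectrum L) := inferInstance
  have : ConnectedSpace (PrimeSpectrum L) := ⟨this⟩
  have hE := PrimeSpectrum.localization_away_isOpenEmbedding L F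
  rw [← PrimeSpectrum.localization_away_comap_range L F]
  exact hE.isEmbedding.toHomeomorph.surjective.connectedSpace hE.isEmbedding.toHomeomorph.continuous

section Transfer

variable {P : Type u} [CommRing P]

/-- `t` lies in no minimal prime and generates a radical ideal modulo nilpotents. -/
structure IsParam (t : P) : Prop where
  exists_le : ∀ p : Ideal P, p.IsPrime → ∃ q ≤ p, q.IsPrime ∧ t ∉ q
  radical_le : (Ideal.span {t}).radical ≤ Ideal.span {t} ⊔ nilradical P

theorem IsParam.of_equiv {Q : Type u} [CommRing Q] (ε : Q ≃+* P) {t : Q} (h : IsParam (ε t)) : IsParam t := by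
  refine ⟨fun p hp => ?_, fun x hx => ?_⟩
  · obtain ⟨q, hq, hqp, hqt⟩ := h.exists_le (p.comap (ε.symm : P →+* Q)) (hp.comap _)
    refine ⟨q.comap (ε : Q →+* P), fun y hy => ?_, hqp.comap _, hqt⟩
    simpa using hq hy
  · obtain ⟨n, hn⟩ := hx
    obtain ⟨c, hc⟩ := Ideal.mem_span_singleton.mp hn
    have hεx : ε x ∈ (Ideal.span {ε t}).radical :=
      ⟨n, Ideal.mem_span_singleton.mpr ⟨ε c, by rw [← map_pow, hc, map_mul]⟩⟩
    obtain ⟨y, hy, z, hz, hyz⟩ := Submodule.mem_sup.mp (h.radical_le hεx)
    obtain ⟨d, rfl⟩ := Ideal.mem_span_singleton.mp hy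
    refine Submodule.mem_sup.mpr ⟨t * ε.symm d, Ideal.mem_span_singleton.mpr ⟨_, rfl⟩, ε.symm z,
      mem_nilradical.mpr ((mem_nilradical.mp hz).map ε.symm), ?_⟩
    rw [← ε.symm_apply_apply x, ← hyz, map_add, map_mul, RingEquiv.symm_apply_apply]

theorem isParam_X {R J : Type u} [CommRing R] (j : J) : IsParam (MvPolynomial.X j : MvPolynomial J R) := by
  classical
  refine ⟨fun p hp => ⟨(p.comap MvPolynomial.C).map MvPolynomial.C, Ideal.map_comap_le, ?_, fun h => ?_⟩,
    fun x hx => ?_⟩
  · have := hp.comap (MvPolynomial.C (σ := J) (R := R))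
    have hker := MvPolynomial.ker_map (σ := J) (Ideal.Quotient.mk (p.comap MvPolynomial.C))
    rw [Ideal.mk_ker] at hker
    rw [← hker]
    exact RingHom.ker_isPrime _
  · rw [MvPolynomial.mem_map_C_iff] at h
    have h1 := h (Finsupp.single j 1)
    rw [MvPolynomial.coeff_X] at h1
    exact (hp.comap MvPolynomial.C).ne_top ((Ideal.eq_top_iff_one _).mpr (by simpa using h1))
  · obtain ⟨n, hn⟩ := hx
    let s : MvPolynomial J R →ₐ[R] MvPolynomial J R :=
      MvPolynomial.aeval (Function.update MvPolynomial.X j 0)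
    have hs : ∀ p, p - s p ∈ Ideal.span {(MvPolynomial.X j : MvPolynomial J R)} := fun p => by
      rw [← Ideal.Quotient.eq]
      refine AlgHom.congr_fun (φ₁ := Ideal.Quotient.mkₐ R _) (φ₂ := (Ideal.Quotient.mkₐ R _).comp s)
        (MvPolynomial.algHom_ext fun i => ?_) p
      rcases eq_or_ne i j with rfl | hi
      · simp [s]
      · simp [s, hi]
    rw [← sub_add_cancel x (s x)]
    refine add_mem (Submodule.mem_sup_left (hs x)) (Submodule.mem_sup_right (mem_nilradical.mpr ⟨n, ?_⟩))
    obtain ⟨c, hc⟩ := Ideal.mem_span_singleton.mp hn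
    rw [← map_pow, hc, map_mul]
    simp [s]

variable {P' A : Type u} [CommRing P'] [CommRing A] [Algebra P A] [Algebra P P'] (hA : EtPBC.IsIndEtale P A)

/-- Ind-etale algebras over reduced rings are reduced. -/
theorem isReduced_of_isIndEtale {R C : Type u} [CommRing R] [IsReduced R] [CommRing C] [Algebra R C]
    (h : EtPBC.IsIndEtale R C) : IsReduced C := by
  refine ⟨fun x hx => ?_⟩
  obtain ⟨m, hm⟩ := hx
  let I : Ideal (MvPolynomial (Fin 1) R) := Ideal.span {MvPolynomial.X 0 ^ m}
  have : Algebra.FinitePresentation R (MvPolynomial (Fin 1) R ⧸ I) :=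
    Algebra.FinitePresentation.quotient (Submodule.fg_span (Set.finite_singleton _))
  let g : (MvPolynomial (Fin 1) R ⧸ I) →ₐ[R] C := Ideal.Quotient.liftₐ I (MvPolynomial.aeval fun _ => x) (by
    intro z hz
    obtain ⟨q, rfl⟩ := Ideal.mem_span_singleton'.mp hz
    simp [hm])
  obtain ⟨W, _, _, hW, u, v, huv⟩ := (Groth.Agent.Ind91.isIndEtale_iff R C).1 h _ g
  have : Algebra.Etale R W := hW
  have : IsReduced W := Groth.Agent.Unr55.isReduced_of_etale (A := R)
  have h0 : u (Ideal.Quotient.mk I (MvPolynomial.X 0)) = 0 := by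
    refine IsNilpotent.eq_zero ⟨m, ?_⟩
    rw [← map_pow, ← map_pow, Ideal.Quotient.eq_zero_iff_mem.mpr (Ideal.mem_span_singleton_self _), map_zero]
  have hgx : g (Ideal.Quotient.mk I (MvPolynomial.X 0)) = x := MvPolynomial.aeval_X (fun _ => x) 0
  rw [← hgx, ← huv, AlgHom.comp_apply, h0, map_zero]

include hA in
theorem flat_baseChange : Module.Flat P' (P' ⊗[P] A) := by
  have : Module.Flat P A := Groth.Agent.Ind91.flat_of_isIndEtale hA
  infer_instance

include hA in
theorem radical_map_baseChange {I : Ideal P'} (hI : I.IsRadical) :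
    (I.map (algebraMap P' (P' ⊗[P] A))).IsRadical := by
  let Q := P' ⊗[P] A
  have : IsReduced (P' ⧸ I) := Ideal.isRadical_iff_quotient_reduced I |>.mp hI
  have : IsReduced ((P' ⧸ I) ⊗[P'] Q) := isReduced_of_isIndEtale
    (Groth.Agent.Ind91.isIndEtale_baseChange P' Q (P' ⧸ I) (Groth.Agent.Ind91.isIndEtale_baseChange P A P' hA))
  have : IsReduced (Q ⧸ I.map (algebraMap P' Q)) :=
    isReduced_of_injective (Algebra.TensorProduct.quotIdealMapEquivQuotTensor Q I).toRingEquiv
      (AlgEquiv.injective _)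
  exact (Ideal.isRadical_iff_quotient_reduced _).mpr this

include hA in
theorem isNilpotent_of_mul {t : P'} (ht : IsParam t) {x : P' ⊗[P] A}
    (h : IsNilpotent (algebraMap P' (P' ⊗[P] A) t * x)) : IsNilpotent x := by
  have := flat_baseChange (P' := P') hA
  rw [← mem_nilradical, nilradical_eq_sInf, Submodule.mem_sInf]
  intro (q : Ideal (P' ⊗[P] A)) (hq : q.IsPrime)
  obtain ⟨p, hp, hpp, hpt⟩ := ht.exists_le (q.under P') inferInstance
  obtain ⟨q', hq', hq'p, hlo⟩ := Ideal.exists_ideal_le_liesOver_of_le q hp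
  have hmem : algebraMap P' (P' ⊗[P] A) t * x ∈ q' := by
    have h0 := mem_nilradical.mpr h
    rw [nilradical_eq_sInf, Submodule.mem_sInf] at h0
    exact h0 q' hq'p
  refine hq' ((hq'p.mem_or_mem hmem).resolve_left fun h' => hpt ?_)
  rw [hlo.over]
  exact h'

include hA in
theorem radical_span_le {t : P'} (ht : IsParam t) :
    (Ideal.span {algebraMap P' (P' ⊗[P] A) t}).radical ≤
      Ideal.span {algebraMap P' (P' ⊗[P] A) t} ⊔ nilradical (P' ⊗[P] A) := by
  have hrad := radical_map_baseChange hA (Ideal.radical_isRadical (Ideal.span {t}))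
  have h1 : (Ideal.span {algebraMap P' (P' ⊗[P] A) t}).radical ≤
      (Ideal.span {t}).radical.map (algebraMap P' (P' ⊗[P] A)) := by
    rw [← hrad.radical]
    refine Ideal.radical_mono ?_
    rw [Ideal.span_singleton_le_iff_mem]
    exact Ideal.mem_map_of_mem _ (Ideal.le_radical (Ideal.mem_span_singleton_self t))
  refine h1.trans ((Ideal.map_mono ht.radical_le).trans ?_)
  rw [Ideal.map_sup, Ideal.map_span, Set.image_singleton]
  refine sup_le_sup_left (Ideal.map_le_iff_le_comap.mpr fun z hz => ?_) _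
  exact mem_nilradical.mpr ((mem_nilradical.mp hz).map _)

end Transfer

/-- Kummer algebras commute with base change. -/
theorem exists_baseChange {P A : Type u} [CommRing P] [CommRing A] [Algebra P A] {ι : Type} (a : ι → P)
    (n : ι → ℕ) :
    ∃ Φ : SGA1t.kummer A (fun i => algebraMap P A (a i)) n →+* SGA1t.kummer P a n ⊗[P] A,
      Function.Bijective Φ ∧ ∀ i, Φ (KummerAlg84.T (fun i => algebraMap P A (a i)) n i) =
        KummerAlg84.T a n i ⊗ₜ[P] (1 : A) := by
  let P' := SGA1t.kummer P a n
  let K := SGA1t.kummer A (fun i => algebraMap P A (a i)) n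
  let r : A →+* P' ⊗[P] A := (Algebra.TensorProduct.includeRight (R := P) (A := P')).toRingHom
  let T' : ι → P' ⊗[P] A := fun i => KummerAlg84.T a n i ⊗ₜ 1
  have hT' : ∀ i, T' i ^ n i = r (algebraMap P A (a i)) := fun i => by
    show (KummerAlg84.T a n i ⊗ₜ (1 : A)) ^ n i = (1 : P') ⊗ₜ algebraMap P A (a i)
    rw [Algebra.TensorProduct.tmul_pow, one_pow, KummerAlg84.T_pow, Algebra.algebraMap_eq_smul_one,
      Algebra.algebraMap_eq_smul_one]
    exact TensorProduct.smul_tmul _ _ _
  let Φ : K →+* P' ⊗[P] A := Ideal.Quotient.lift _ (MvPolynomial.eval₂Hom r T') fun z hz => by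
    refine RingHom.mem_ker.mp (Ideal.span_le.mpr ?_ hz)
    rintro _ ⟨i, rfl⟩
    simp only [SetLike.mem_coe, RingHom.mem_ker, map_sub, map_pow, MvPolynomial.eval₂Hom_X', MvPolynomial.eval₂Hom_C]
    exact sub_eq_zero.mpr (hT' i)
  have hΦC : ∀ c, Φ (algebraMap A K c) = 1 ⊗ₜ c := fun c => by
    show MvPolynomial.eval₂Hom r T' (MvPolynomial.C c) = _
    rw [MvPolynomial.eval₂Hom_C]
    rfl
  have hΦT : ∀ i, Φ (KummerAlg84.T _ n i) = T' i := fun i => by
    show MvPolynomial.eval₂Hom r T' (MvPolynomial.X i) = _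
    rw [MvPolynomial.eval₂Hom_X']
  let gA : P' →ₐ[P] K := Ideal.Quotient.liftₐ _ (MvPolynomial.aeval (KummerAlg84.T _ n))
    (by
      intro z hz
      refine RingHom.mem_ker.mp (Ideal.span_le.mpr ?_ hz)
      rintro _ ⟨i, rfl⟩
      simp only [SetLike.mem_coe, RingHom.mem_ker, map_sub, map_pow, MvPolynomial.aeval_X, MvPolynomial.aeval_C]
      exact sub_eq_zero.mpr ((KummerAlg84.T_pow _ n i).trans (IsScalarTower.algebraMap_apply P A K _).symm))
  let Ψ : P' ⊗[P] A →ₐ[P] K := Algebra.TensorProduct.productMap gA (IsScalarTower.toAlgHom P A K)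
  have hgT : ∀ i, gA (KummerAlg84.T a n i) = KummerAlg84.T _ n i := fun i => MvPolynomial.aeval_X _ i
  refine ⟨Φ, Function.bijective_iff_has_inverse.mpr ⟨Ψ, fun z => ?_, fun z => ?_⟩, hΦT⟩
  · refine RingHom.congr_fun (Ideal.Quotient.ringHom_ext (f := Ψ.toRingHom.comp Φ) (g := RingHom.id K) ?_) z
    refine MvPolynomial.ringHom_ext (fun c => ?_) fun i => ?_
    · show Ψ (Φ (algebraMap A K c)) = algebraMap A K c
      simp [hΦC, Ψ]
    · show Ψ (Φ (KummerAlg84.T _ n i)) = KummerAlg84.T _ n i
      simp [hΦT, T', Ψ, hgT]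
  · induction z with
    | zero => simp
    | add x y hx hy => rw [map_add, map_add, hx, hy]
    | tmul p c =>
      have hp : ∀ p : P', Φ (gA p) = p ⊗ₜ 1 := fun p => by
        obtain ⟨p, rfl⟩ := Ideal.Quotient.mk_surjective p
        induction p using MvPolynomial.induction_on with
        | C d =>
          show Φ (gA (algebraMap P P' d)) = algebraMap P P' d ⊗ₜ 1
          rw [AlgHom.commutes, IsScalarTower.algebraMap_apply P A K, hΦC, Algebra.algebraMap_eq_smul_one,
            Algebra.algebraMap_eq_smul_one]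
          exact (TensorProduct.smul_tmul _ _ _).symm
        | add x y hx hy => simp only [map_add, hx, hy, TensorProduct.add_tmul]
        | mul_X x i hx =>
          rw [map_mul, map_mul, map_mul, hx]
          show (Ideal.Quotient.mk _ x ⊗ₜ (1 : A)) * Φ (gA (KummerAlg84.T a n i)) = _
          rw [hgT, hΦT, Algebra.TensorProduct.tmul_mul_tmul, one_mul]
          rfl
      show Φ (Ψ (p ⊗ₜ c)) = p ⊗ₜ c
      simp [Ψ, hp, hΦC, Algebra.TensorProduct.tmul_mul_tmul]

/-- The Kummer algebra of coordinates of a polynomial ring is a polynomial ring. -/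
theorem exists_equiv_mvPolynomial {R J : Type u} [CommRing R] {ι : Type} (e : ι → J) (he : Function.Injective e)
    (n : ι → ℕ) :
    ∃ ε : SGA1t.kummer (MvPolynomial J R) (fun i => MvPolynomial.X (e i)) n ≃+* MvPolynomial J R,
      ∀ i, ε (KummerAlg84.T _ n i) = MvPolynomial.X (e i) := by
  classical
  let P := MvPolynomial J R
  let a : ι → P := fun i => MvPolynomial.X (e i)
  let K := SGA1t.kummer P a n
  let sv : J → P := fun j => if h : ∃ i, e i = j then MvPolynomial.X j ^ n h.choose else MvPolynomial.X j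
  have hsv : ∀ i, sv (e i) = MvPolynomial.X (e i) ^ n i := fun i => by
    have h : ∃ i', e i' = e i := ⟨i, rfl⟩
    simp only [sv, dif_pos h, he h.choose_spec]
  let s : P →+* P := MvPolynomial.eval₂Hom MvPolynomial.C sv
  let Φ : K →+* P := Ideal.Quotient.lift _ (MvPolynomial.eval₂Hom s a) fun z hz => by
    refine RingHom.mem_ker.mp (Ideal.span_le.mpr ?_ hz)
    rintro _ ⟨i, rfl⟩
    simp only [SetLike.mem_coe, RingHom.mem_ker, map_sub, map_pow, MvPolynomial.eval₂Hom_X', MvPolynomial.eval₂Hom_C]
    show a i ^ n i - MvPolynomial.eval₂Hom MvPolynomial.C sv (MvPolynomial.X (e i)) = 0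
    rw [MvPolynomial.eval₂Hom_X', hsv, sub_self]
  let tv : J → K := fun j => if h : ∃ i, e i = j then KummerAlg84.T a n h.choose
    else algebraMap P K (MvPolynomial.X j)
  have htv : ∀ i, tv (e i) = KummerAlg84.T a n i := fun i => by
    have h : ∃ i', e i' = e i := ⟨i, rfl⟩
    simp only [tv, dif_pos h, he h.choose_spec]
  let Ψ : P →+* K := MvPolynomial.eval₂Hom ((algebraMap P K).comp MvPolynomial.C) tv
  have hΦC : ∀ p, Φ (algebraMap P K p) = s p := fun p => MvPolynomial.eval₂Hom_C s a p
  have hΦT : ∀ i, Φ (KummerAlg84.T a n i) = MvPolynomial.X (e i) := fun i => MvPolynomial.eval₂Hom_X' s a i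
  have hΨX : ∀ j, Ψ (MvPolynomial.X j) = tv j := fun j => MvPolynomial.eval₂Hom_X' _ _ j
  have hsX : ∀ j, s (MvPolynomial.X j) = sv j := fun j => MvPolynomial.eval₂Hom_X' _ _ j
  have hΨs : ∀ p, Ψ (s p) = algebraMap P K p := fun p => by
    refine RingHom.congr_fun (MvPolynomial.ringHom_ext (f := Ψ.comp s) (g := algebraMap P K) (fun r => ?_) fun j => ?_) p
    · show Ψ (s (MvPolynomial.C r)) = algebraMap P K (MvPolynomial.C r)
      rw [show s (MvPolynomial.C r) = MvPolynomial.C r from MvPolynomial.eval₂Hom_C _ _ _]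
      exact MvPolynomial.eval₂Hom_C _ _ _
    · show Ψ (s (MvPolynomial.X j)) = algebraMap P K (MvPolynomial.X j)
      rw [hsX]
      by_cases h : ∃ i, e i = j
      · obtain ⟨i, rfl⟩ := h
        rw [hsv, map_pow, hΨX, htv]
        exact KummerAlg84.T_pow a n i
      · simp only [sv, dif_neg h]
        rw [hΨX]
        simp only [tv, dif_neg h]
  refine ⟨RingEquiv.ofRingHom Φ Ψ ?_ ?_, hΦT⟩
  swap
  · refine Ideal.Quotient.ringHom_ext (MvPolynomial.ringHom_ext (fun p => ?_) fun i => ?_)
    · show Ψ (Φ (algebraMap P K p)) = algebraMap P K p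
      rw [hΦC, hΨs]
    · show Ψ (Φ (KummerAlg84.T a n i)) = KummerAlg84.T a n i
      rw [hΦT, hΨX, htv]
  · refine MvPolynomial.ringHom_ext (fun r => ?_) fun j => ?_
    · show Φ (Ψ (MvPolynomial.C r)) = MvPolynomial.C r
      rw [show Ψ (MvPolynomial.C r) = algebraMap P K (MvPolynomial.C r) from MvPolynomial.eval₂Hom_C _ _ _, hΦC]
      exact MvPolynomial.eval₂Hom_C _ _ _
    · show Φ (Ψ (MvPolynomial.X j)) = MvPolynomial.X j
      rw [hΨX]
      by_cases h : ∃ i, e i = j
      · obtain ⟨i, rfl⟩ := h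
        rw [htv, hΦT]
      · simp only [tv, dif_neg h]
        rw [hΦC, hsX]
        simp only [sv, dif_neg h]

/-- A Kummer algebra of coordinates of an ind-étale chart is connected away from the coordinates. -/
theorem connectedSpace_kummer {R J A : Type u} [CommRing R] [CommRing A] [IsLocalRing A]
    [Algebra (MvPolynomial J R) A] (hA : EtPBC.IsIndEtale (MvPolynomial J R) A)
    {ι : Type} [Fintype ι] (e : ι → J) (he : Function.Injective e) (a : ι → A)
    (hae : ∀ i, algebraMap (MvPolynomial J R) A (MvPolynomial.X (e i)) = a i)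
    (ha : ∀ i, a i ∈ IsLocalRing.maximalIdeal A) (n : ι → ℕ) (hn : ∀ i, 1 ≤ n i) :
    ConnectedSpace (PrimeSpectrum.basicOpen (∏ i, KummerAlg84.T a n i) :
      Set (PrimeSpectrum (SGA1t.kummer A a n))) := by
  let P := MvPolynomial J R
  obtain rfl : a = fun i => algebraMap P A (MvPolynomial.X (e i)) := funext fun i => (hae i).symm
  obtain ⟨hloc, -⟩ := KummerAlg84.isLocalRing_and_maximalIdeal (a := fun i => algebraMap P A (MvPolynomial.X (e i))) hn ha
  obtain ⟨ε, hε⟩ := exists_equiv_mvPolynomial (R := R) e he n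
  obtain ⟨Φ, hΦ, hΦT⟩ := exists_baseChange (A := A) (fun i => (MvPolynomial.X (e i) : P)) n
  let eΦ := RingEquiv.ofBijective Φ hΦ
  have : IsLocalRing (SGA1t.kummer P (fun i => MvPolynomial.X (e i)) n ⊗[P] A) := eΦ.isLocalRing
  have hp : ∀ i, IsParam (KummerAlg84.T (fun i => (MvPolynomial.X (e i) : P)) n i) := fun i =>
    IsParam.of_equiv ε (by rw [hε]; exact isParam_X (e i))
  have hdich := pow_dichotomy (fun i => algebraMap _ (SGA1t.kummer P (fun i => MvPolynomial.X (e i)) n ⊗[P] A)
      (KummerAlg84.T (fun i => (MvPolynomial.X (e i) : P)) n i))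
    (fun i x => isNilpotent_of_mul hA (hp i)) (fun i => radical_span_le hA (hp i))
  have hprod : ∀ k : ℕ, Φ ((∏ i, KummerAlg84.T _ n i) ^ k) =
      (∏ i, algebraMap _ (SGA1t.kummer P (fun i => MvPolynomial.X (e i)) n ⊗[P] A)
        (KummerAlg84.T (fun i => (MvPolynomial.X (e i) : P)) n i)) ^ k := fun k => by
    rw [map_pow, map_prod]
    exact congrArg (· ^ k) (Finset.prod_congr rfl fun i _ => by rw [hΦT i, Algebra.TensorProduct.algebraMap_apply, Algebra.algebraMap_self_apply])
  refine connectedSpace_basicOpen _ (fun hnil => ?_) fun b k hb => ?_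
  · have h1 : ∀ s : Finset ι, IsNilpotent (∏ i ∈ s, Φ (KummerAlg84.T _ n i)) → False := fun s => by
      induction s using Finset.cons_induction with
      | empty => exact fun h => not_isNilpotent_one (R := SGA1t.kummer P (fun i => MvPolynomial.X (e i)) n ⊗[P] A) (by simpa using h)
      | cons j s hj ih =>
        rw [Finset.prod_cons, hΦT]
        exact fun h => ih (isNilpotent_of_mul hA (hp j) h)
    exact h1 Finset.univ (by rw [← map_prod]; exact hnil.map Φ)
  · have := hdich (Φ b) k (by rw [← hprod, ← map_pow, ← map_mul, ← map_sub]; exact hb.map Φ)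
    rwa [IsNilpotent.map_iff hΦ.1, ← hprod, ← map_sub, IsNilpotent.map_iff hΦ.1] at this

/-- Composite of an étale chart, a localization and an ind-étale map. -/
theorem isIndEtale_chart {P B A C : Type u} [CommRing P] [CommRing B] [CommRing A] [CommRing C]
    [Algebra P B] [Algebra.Etale P B] [Algebra B A] (M : Submonoid B) [IsLocalization M A] [Algebra A C]
    [Algebra P A] [IsScalarTower P B A] [Algebra P C] [IsScalarTower P A C]
    (hC : EtPBC.IsIndEtale A C) : EtPBC.IsIndEtale P C :=
  Groth.Agent.Ind91.isIndEtale_trans (Groth.Agent.Ind91.isIndEtale_trans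
    (Groth.Agent.Ind91.isIndEtale_of_etale P B) (Groth.Agent.Ind91.isIndEtale_of_isLocalization B A M)) hC

end Groth.Agent.KummerConn84
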