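import Groth.Prelude.Def_SGA1t
import Mathlib.AlgebraicGeometry.AffineSpace
import Mathlib.AlgebraicGeometry.Morphisms.Etale
import Mathlib.RingTheory.RingHom.Etale
import Mathlib.RingTheory.Etale.Basic
import Mathlib.RingTheory.Smooth.Basic

/-! # Local charts of a relative strict normal crossings divisor -/

set_option autoImplicit false
universe u v

open CategoryTheory CategoryTheory.Limits AlgebraicGeometry

namespace Groth.Agent.RelSNCChart84

/-- An étale map to affine space, at the level of affine opens. -/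
theorem exists_etale_chart {X S : Scheme.{u}} (f : X ⟶ S) (W : X.Opens) {d : ℕ}
    (v : ULift.{u} (Fin d) → Γ(W, ⊤)) [Etale (AffineSpace.homOfVector (W.ι ≫ f) v)] (x : X) (hxW : x ∈ W)
    (U : S.Opens) (hU : IsAffineOpen U) (hxU : f x ∈ U) :
    ∃ (V : X.Opens) (hV : IsAffineOpen V) (hxV : x ∈ V) (χ₀ : MvPolynomial (ULift.{u} (Fin d)) Γ(S, U) →+* Γ(X, V)),
      χ₀.Etale ∧
      ((X.presheaf.germ V x hxV).hom.comp χ₀).comp MvPolynomial.C = (S.presheaf.germ U (f x) hxU ≫ f.stalkMap x).hom ∧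
      ∀ (j : ULift.{u} (Fin d)) (s : Γ(X, ⊤)),
        v j = W.topIso.inv (X.presheaf.map (homOfLE le_top).op s) →
        (X.presheaf.germ V x hxV).hom (χ₀ (MvPolynomial.X j)) = (X.presheaf.germ ⊤ x trivial).hom s := by
  obtain ⟨_, ⟨V, hV, rfl⟩, hxV, hVle⟩ :=
    X.isBasis_affineOpens.exists_subset_of_mem_open (show x ∈ W ⊓ f ⁻¹ᵁ U from ⟨hxW, hxU⟩) (W ⊓ f ⁻¹ᵁ U).isOpen
  have hVW : V ≤ W := fun y hy => (hVle hy).1
  have hVU : V ≤ f ⁻¹ᵁ U := fun y hy => (hVle hy).2
  have : IsAffine V := hV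
  let l : Spec Γ(X, V) ⟶ (W : Scheme.{u}) := hV.isoSpec.inv ≫ X.homOfLE hVW
  have hl : l ≫ W.ι = hV.fromSpec := by
    rw [IsAffineOpen.fromSpec, Category.assoc, Scheme.homOfLE_ι]
  let c : ULift.{u} (Fin d) → Γ(X, V) := fun j => (Scheme.ΓSpecIso Γ(X, V)).hom (l.appTop (v j))
  let χ₀ : MvPolynomial (ULift.{u} (Fin d)) Γ(S, U) →+* Γ(X, V) :=
    MvPolynomial.eval₂Hom (f.appLE U V hVU).hom c
  let h : Spec Γ(X, V) ⟶ 𝔸(ULift.{u} (Fin d); Spec Γ(S, U)) :=
    Spec.map (CommRingCat.ofHom χ₀) ≫ (AffineSpace.SpecIso (ULift.{u} (Fin d)) Γ(S, U)).inv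
  have key : h ≫ AffineSpace.map _ hU.fromSpec = l ≫ AffineSpace.homOfVector (W.ι ≫ f) v := by
    refine AffineSpace.hom_ext ?_ fun j => ?_
    · simp only [h, Category.assoc, AffineSpace.map_over, AffineSpace.homOfVector_over, reassoc_of% hl]
      rw [AffineSpace.SpecIso_inv_over_assoc, ← Spec.map_comp_assoc]
      refine Eq.trans ?_ (IsAffineOpen.SpecMap_appLE_fromSpec f hU hV hVU)
      congr 2
      ext r
      simp [χ₀]
    · simp only [h, Scheme.Hom.comp_appTop, CommRingCat.comp_apply, AffineSpace.map_appTop_coord,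
        AffineSpace.homOfVector_appTop_coord, AffineSpace.SpecIso_inv_appTop_coord]
      rw [← CommRingCat.comp_apply, ← Scheme.ΓSpecIso_inv_naturality, CommRingCat.comp_apply,
        show (CommRingCat.ofHom χ₀).hom (MvPolynomial.X j) = c j from MvPolynomial.eval₂Hom_X' _ _ _]
      exact (Scheme.ΓSpecIso Γ(X, V)).hom_inv_id_apply (l.appTop (v j))
  have hmap : IsOpenImmersion (AffineSpace.map (ULift.{u} (Fin d)) hU.fromSpec) :=
    MorphismProperty.of_isPullback (AffineSpace.isPullback_map hU.fromSpec).flip inferInstance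
  have hcomp : Etale (h ≫ AffineSpace.map _ hU.fromSpec) := key ▸ inferInstance
  have hh : Etale h :=
    MorphismProperty.of_postcomp (W := @Etale) (W' := @Etale) h (AffineSpace.map _ hU.fromSpec) inferInstance hcomp
  have hsp : Etale (Spec.map (CommRingCat.ofHom χ₀)) := by
    have : Spec.map (CommRingCat.ofHom χ₀) = h ≫ (AffineSpace.SpecIso (ULift.{u} (Fin d)) Γ(S, U)).hom := by
      simp [h]
    rw [this]
    infer_instance
  have hχ₀ : χ₀.Etale := (HasRingHomProperty.Spec_iff (P := @Etale)).mp hsp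
  refine ⟨V, hV, hxV, χ₀, hχ₀, ?_, fun j s hs => ?_⟩
  · refine RingHom.ext fun r => ?_
    show (X.presheaf.germ V x hxV).hom (χ₀ (MvPolynomial.C r)) = _
    rw [show χ₀ (MvPolynomial.C r) = (f.appLE U V hVU).hom r from MvPolynomial.eval₂Hom_C _ _ _]
    have e : f.appLE U V hVU ≫ X.presheaf.germ V x hxV = S.presheaf.germ U (f x) hxU ≫ f.stalkMap x := by
      rw [Scheme.Hom.germ_stalkMap, Scheme.Hom.appLE, Category.assoc]
      exact congrArg (f.app U ≫ ·) (TopCat.Presheaf.germ_res _ _ _ _)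
    exact congrArg (fun q : Γ(S, U) ⟶ X.presheaf.stalk x => q.hom r) e
  · show (X.presheaf.germ V x hxV).hom (χ₀ (MvPolynomial.X j)) = _
    rw [show χ₀ (MvPolynomial.X j) = c j from MvPolynomial.eval₂Hom_X' _ _ _]
    have h1 : v j = W.ι.appTop s := by
      rw [hs, Scheme.Opens.ι_appTop]
      show (X.presheaf.map (homOfLE le_top).op ≫ X.presheaf.map (eqToIso W.ι_image_top.symm).op.inv).hom s = _
      refine congrArg (fun q : Γ(X, ⊤) ⟶ Γ(X, W.ι ''ᵁ ⊤) => q.hom s) ?_
      exact (X.presheaf.map_comp _ _).symm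
    have h2 : c j = X.presheaf.map (homOfLE le_top).op s := by
      show (Scheme.ΓSpecIso Γ(X, V)).hom (l.appTop (v j)) = _
      rw [h1, ← CommRingCat.comp_apply (f := W.ι.appTop), ← Scheme.Hom.comp_appTop, hl, Scheme.Hom.appTop,
        IsAffineOpen.fromSpec_app_of_le hV ⊤ le_top]
      simp
      rw [← CommRingCat.comp_apply, Scheme.ΓSpecIso_naturality, CommRingCat.comp_apply]
      exact congrArg _ ((Scheme.ΓSpecIso Γ(X, ⊤)).inv_hom_id_apply s)
    rw [h2]
    exact TopCat.Presheaf.germ_res_apply _ _ _ _ _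

/-- An étale map to affine space, at the level of local rings. -/
theorem exists_formallyEtale_chart {X S : Scheme.{u}} (f : X ⟶ S) (W : X.Opens) {d : ℕ}
    (v : ULift.{u} (Fin d) → Γ(W, ⊤)) [Etale (AffineSpace.homOfVector (W.ι ≫ f) v)] (x : X) (hxW : x ∈ W)
    (U : S.Opens) (hU : IsAffineOpen U) (hxU : f x ∈ U) :
    ∃ χ : MvPolynomial (ULift.{u} (Fin d)) Γ(S, U) →+* X.presheaf.stalk x,
      χ.FormallyEtale ∧
      χ.comp MvPolynomial.C = (S.presheaf.germ U (f x) hxU ≫ f.stalkMap x).hom ∧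
      ∀ (j : ULift.{u} (Fin d)) (s : Γ(X, ⊤)),
        v j = W.topIso.inv (X.presheaf.map (homOfLE le_top).op s) →
        χ (MvPolynomial.X j) = (X.presheaf.germ ⊤ x trivial).hom s := by
  obtain ⟨V, hV, hxV, χ₀, hχ₀, hC, hX⟩ := exists_etale_chart f W v x hxW U hU hxU
  refine ⟨(X.presheaf.germ V x hxV).hom.comp χ₀, ?_, hC, hX⟩
  refine RingHom.FormallyEtale.comp hχ₀.formallyEtale ?_
  let := (X.presheaf.germ V x hxV).hom.toAlgebra
  have : IsLocalization.AtPrime (X.presheaf.stalk x) (hV.primeIdealOf ⟨x, hxV⟩).asIdeal :=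
    hV.isLocalization_stalk ⟨x, hxV⟩
  exact RingHom.formallyEtale_algebraMap.mpr
    (Algebra.FormallyEtale.of_isLocalization (hV.primeIdealOf ⟨x, hxV⟩).asIdeal.primeCompl)

/-- Kummer algebras of coordinates of an étale chart are formally smooth over the base. -/
theorem formallySmooth_kummer {R A : Type u} [CommRing R] [CommRing A] [Algebra R A] {J : Type u}
    (χ : MvPolynomial J R →+* A) (hχ : χ.FormallyEtale) (hC : χ.comp MvPolynomial.C = algebraMap R A)
    {ι : Type v} (e : ι → J) (he : Function.Injective e) (n : ι → ℕ) :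
    Algebra.FormallySmooth R (SGA1t.kummer A (fun i => χ (MvPolynomial.X (e i))) n) := by
  classical
  let K := SGA1t.kummer A (fun i => χ (MvPolynomial.X (e i))) n
  let : Algebra (MvPolynomial J R) A := χ.toAlgebra
  have hetale : Algebra.FormallyEtale (MvPolynomial J R) A := hχ
  have : IsScalarTower R (MvPolynomial J R) A := .of_algebraMap_eq' hC.symm
  refine Algebra.FormallySmooth.of_comp_surjective fun {B} _ _ I hI φ => ?_
  choose u hu using fun i => Ideal.Quotient.mk_surjective (φ (Ideal.Quotient.mk _ (MvPolynomial.X i)))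
  choose w₀ hw₀ using fun j => Ideal.Quotient.mk_surjective (φ (algebraMap A K (χ (MvPolynomial.X j))))
  let w : J → B := fun j => if h : ∃ i, e i = j then u h.choose ^ n h.choose else w₀ j
  have hwe : ∀ i, w (e i) = u i ^ n i := fun i => by
    have h : ∃ i', e i' = e i := ⟨i, rfl⟩
    simp only [w, dif_pos h, he h.choose_spec]
  have hw : ∀ j, Ideal.Quotient.mk I (w j) = φ (algebraMap A K (χ (MvPolynomial.X j))) := fun j => by
    by_cases h : ∃ i, e i = j
    · obtain ⟨i, rfl⟩ := h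
      rw [hwe, map_pow, hu, ← map_pow]
      refine congrArg φ ?_
      exact ((map_pow _ _ _).symm.trans (Ideal.Quotient.eq.mpr (Ideal.subset_span ⟨i, rfl⟩)))
    · simp only [w, dif_neg h, hw₀]
  let ψ₀ : MvPolynomial J R →ₐ[R] B := MvPolynomial.aeval w
  let : Algebra (MvPolynomial J R) B := ψ₀.toRingHom.toAlgebra
  have : IsScalarTower R (MvPolynomial J R) B := .of_algebraMap_eq fun r => (ψ₀.commutes r).symm
  let φA : A →ₐ[R] B ⧸ I := φ.comp (IsScalarTower.toAlgHom R A K)
  have hφA : (φA.comp (IsScalarTower.toAlgHom R (MvPolynomial J R) A)) = (Ideal.Quotient.mkₐ R I).comp ψ₀ :=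
    MvPolynomial.algHom_ext fun j => by
      show φ (algebraMap A K (χ (MvPolynomial.X j))) = Ideal.Quotient.mk I (MvPolynomial.aeval w (MvPolynomial.X j))
      rw [MvPolynomial.aeval_X, hw]
  let φP : A →ₐ[MvPolynomial J R] B ⧸ I :=
    { φA.toRingHom with commutes' := fun p => AlgHom.congr_fun hφA p }
  obtain ⟨ψ, hψ⟩ := Algebra.FormallySmooth.comp_surjective (MvPolynomial J R) A I hI φP
  have hψI : ∀ a, Ideal.Quotient.mk I (ψ a) = φ (algebraMap A K a) := AlgHom.congr_fun hψ
  have hψR : ∀ r, ψ (algebraMap R A r) = algebraMap R B r := fun r => by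
    rw [IsScalarTower.algebraMap_apply R (MvPolynomial J R) A, AlgHom.commutes,
      ← IsScalarTower.algebraMap_apply]
  let ψK : K →+* B := Ideal.Quotient.lift _ (MvPolynomial.eval₂Hom ψ.toRingHom u) fun z hz => by
    refine RingHom.mem_ker.mp (Ideal.span_le.mpr ?_ hz)
    rintro _ ⟨i, rfl⟩
    have hX : ψ (χ (MvPolynomial.X (e i))) = u i ^ n i := by
      rw [show χ (MvPolynomial.X (e i)) = algebraMap (MvPolynomial J R) A (MvPolynomial.X (e i)) from rfl,
        AlgHom.commutes, ← hwe]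
      exact MvPolynomial.aeval_X _ _
    simp [hX]
  have hcomm : ∀ r, ψK (algebraMap R K r) = algebraMap R B r := fun r => by
    rw [IsScalarTower.algebraMap_apply R A K]
    show MvPolynomial.eval₂Hom ψ.toRingHom u (MvPolynomial.C (algebraMap R A r)) = _
    rw [MvPolynomial.eval₂Hom_C]
    exact hψR r
  refine ⟨{ ψK with commutes' := hcomm }, AlgHom.ext fun z => ?_⟩
  obtain ⟨z, rfl⟩ := Ideal.Quotient.mk_surjective z
  show Ideal.Quotient.mk I (MvPolynomial.eval₂Hom ψ.toRingHom u z) = φ (Ideal.Quotient.mk _ z)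
  induction z using MvPolynomial.induction_on with
  | C a => rw [MvPolynomial.eval₂Hom_C]; exact hψI a
  | add p q hp hq => rw [map_add, map_add, map_add, map_add, hp, hq]
  | mul_X p i hp => rw [map_mul, map_mul, map_mul, map_mul, hp, MvPolynomial.eval₂Hom_X', hu]

/-- A map from an affine scheme into an affine open is formally smooth on stalks if the ring map is. -/
theorem formallySmooth_stalkMap {S : Scheme.{u}} {K : CommRingCat.{u}} (h : Spec K ⟶ S) (U : S.Opens)
    (hU : IsAffineOpen U) (φ : Γ(S, U) ⟶ K) (hφ : Spec.map φ ≫ hU.fromSpec = h) (hsm : φ.hom.FormallySmooth)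
    (x' : Spec K) : (h.stalkMap x').hom.FormallySmooth := by
  have hyU : h x' ∈ U := by
    rw [← SetLike.mem_coe, ← hU.range_fromSpec]
    exact ⟨Spec.map φ x', by rw [← Scheme.Hom.comp_apply, hφ]⟩
  have key : S.presheaf.germ U (h x') hyU ≫ h.stalkMap x' = φ ≫ StructureSheaf.toStalk K x' := by
    refine Spec.map_injective ((cancel_mono hU.fromSpec).mp ?_)
    have e1 : Spec.map (S.presheaf.germ U (h x') hyU) ≫ hU.fromSpec = S.fromSpecStalk (h x') :=
      hU.fromSpecStalk_eq_fromSpecStalk hyU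
    rw [Spec.map_comp, Category.assoc, e1, Scheme.SpecMap_stalkMap_fromSpecStalk, Spec.fromSpecStalk_eq']
    subst hφ
    exact (congrArg (· ≫ hU.fromSpec) (Spec.map_comp _ _)).trans (Category.assoc _ _ _) |>.symm
  let : Algebra Γ(S, U) (S.presheaf.stalk (h x')) := (S.presheaf.germ U (h x') hyU).hom.toAlgebra
  let : Algebra (S.presheaf.stalk (h x')) ((Spec K).presheaf.stalk x') := (h.stalkMap x').hom.toAlgebra
  let : Algebra Γ(S, U) ((Spec K).presheaf.stalk x') :=
    (S.presheaf.germ U (h x') hyU ≫ h.stalkMap x').hom.toAlgebra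
  have : IsScalarTower Γ(S, U) (S.presheaf.stalk (h x')) ((Spec K).presheaf.stalk x') := .of_algebraMap_eq fun _ => rfl
  have : IsLocalization.AtPrime (S.presheaf.stalk (h x')) (hU.primeIdealOf ⟨h x', hyU⟩).asIdeal :=
    hU.isLocalization_stalk ⟨h x', hyU⟩
  have : Algebra.FormallyEtale Γ(S, U) (S.presheaf.stalk (h x')) :=
    Algebra.FormallyEtale.of_isLocalization (hU.primeIdealOf ⟨h x', hyU⟩).asIdeal.primeCompl
  have : Algebra.FormallySmooth Γ(S, U) ((Spec K).presheaf.stalk x') := by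
    show (S.presheaf.germ U (h x') hyU ≫ h.stalkMap x').hom.FormallySmooth
    rw [key]
    refine hsm.comp ?_
    have : Algebra.FormallyEtale K ((Spec.structureSheaf K).presheaf.stalk x') :=
      Algebra.FormallyEtale.of_isLocalization x'.asIdeal.primeCompl
    exact (RingHom.formallySmooth_algebraMap (R := K) (S := (Spec.structureSheaf K).presheaf.stalk x')).mpr inferInstance
  exact Algebra.FormallySmooth.of_restrictScalars Γ(S, U) _ _

end Groth.Agent.RelSNCChart84
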