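import Groth.Agent.Sga84.KummerAlg
import Groth.Agent.EtRam26.AbhIff
import Groth.Agent.EtRam26.Unr

/-! # Extensions generated by roots of order prime to the residue characteristic are tame -/

set_option autoImplicit false
universe u v

open IsLocalRing Polynomial

namespace Groth.Agent.TameRoots84

/-- A field generated over a discrete valuation ring by roots, of orders invertible in the residue field, of
nonzero elements is tamely ramified. -/
theorem isTamelyRamified_of_roots {A L : Type u} [CommRing A] [IsDomain A] [IsDiscreteValuationRing A]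
    [Field L] (g : A →+* L) (hg : Function.Injective g) {ι : Type} [Finite ι] (t : ι → A) (ht : ∀ i, t i ≠ 0)
    (n : ι → ℕ) (hn : ∀ i, 1 ≤ n i) (hu : ∀ i, IsUnit ((n i : ℕ) : A)) (z : ι → L)
    (hz : ∀ i, z i ^ n i = g (t i)) (hgen : Subfield.closure (Set.range z ∪ Set.range g) = ⊤) :
    EtRam.IsTamelyRamified A g := by
  classical
  open Groth.Agent.EtRam26 in
  have := Fintype.ofFinite ι
  let K := FractionRing A
  let : Algebra K L := (IsFractionRing.lift hg).toAlgebra
  let : Algebra A L := g.toAlgebra
  have hT : IsScalarTower A K L := .of_algebraMap_eq fun a => (IsFractionRing.lift_algebraMap hg a).symm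
  have hKL : ∀ a, algebraMap K L (algebraMap A K a) = g a := fun a => IsFractionRing.lift_algebraMap hg a
  have hne : ∀ i, (n i : K) ≠ 0 := fun i => by
    rw [← map_natCast (algebraMap A K)]
    exact (map_ne_zero_iff _ (IsFractionRing.injective A K)).mpr (hu i).ne_zero
  have hint : ∀ i, IsSeparable K (z i) := fun i => by
    refine (Polynomial.separable_X_pow_sub_C (algebraMap A K (t i)) (hne i)
      ((map_ne_zero_iff _ (IsFractionRing.injective A K)).mpr (ht i))).of_dvd (minpoly.dvd _ _ ?_)
    simp [hz, hKL]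
  have hclosure : Subfield.closure (Set.range z ∪ Set.range (algebraMap K L)) = ⊤ := by
    rw [eq_top_iff, ← hgen, Subfield.closure_le]
    rintro x (hx | ⟨a, rfl⟩)
    · exact Subfield.subset_closure (Or.inl hx)
    · exact Subfield.subset_closure (Or.inr ⟨algebraMap A K a, hKL a⟩)
  have hadj : IntermediateField.adjoin K (Set.range z) = ⊤ := by
    apply IntermediateField.toSubfield_injective
    rw [IntermediateField.adjoin_toSubfield, Set.union_comm, hclosure]
    rfl
  have hfd : FiniteDimensional K L := by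
    have := IntermediateField.finiteDimensional_adjoin (K := K) (S := Set.range z)
      (by rintro _ ⟨i, rfl⟩; exact (hint i).isIntegral)
    rw [hadj] at this
    exact Module.Finite.equiv (IntermediateField.topEquiv (F := K) (E := L)).toLinearEquiv
  have hsep : Algebra.IsSeparable K L := by
    have := (IntermediateField.isSeparable_adjoin_iff_isSeparable K L).mpr
      (by rintro _ ⟨i, rfl⟩; exact hint i : ∀ x ∈ Set.range z, IsSeparable K x)
    rw [hadj] at this
    exact AlgEquiv.Algebra.isSeparable (IntermediateField.topEquiv (F := K) (E := L))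
  obtain ⟨π, hπirr⟩ := IsDiscreteValuationRing.exists_irreducible A
  have hπ : maximalIdeal A = Ideal.span {π} := hπirr.maximalIdeal_eq
  have hdec : ∀ i, ∃ (m : ℕ) (w : Aˣ), t i = w * π ^ m := fun i =>
    IsDiscreteValuationRing.eq_unit_mul_pow_irreducible (ht i) hπirr
  choose m w hw using hdec
  let e := ∏ i, n i
  have he : 0 < e := Finset.prod_pos fun i _ => hn i
  have heA : IsUnit ((e : ℕ) : A) := by
    rw [Nat.cast_prod]
    exact IsUnit.prod_iff.mpr fun i _ => hu i
  have hc : ∀ i, ∃ c, e = n i * c := fun i => Finset.dvd_prod_of_mem n (Finset.mem_univ i)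
  choose c hc using hc
  -- adjoin a root of the uniformizer
  let Ω := AlgebraicClosure L
  obtain ⟨ρ₀, hρ₀⟩ := IsAlgClosed.exists_pow_nat_eq (algebraMap L Ω (g π)) he
  have hρint : IsIntegral L ρ₀ := ⟨_, monic_X_pow_sub_C (g π) he.ne', by simp [hρ₀]⟩
  let M := IntermediateField.adjoin L ({ρ₀} : Set Ω)
  have : FiniteDimensional L M := IntermediateField.adjoin.finiteDimensional hρint
  have : FiniteDimensional K M := FiniteDimensional.trans K L M
  let ρ : M := ⟨ρ₀, IntermediateField.mem_adjoin_simple_self L ρ₀⟩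
  have hρ : ρ ^ e = algebraMap L M (g π) := Subtype.ext hρ₀
  have hgπ : g π ≠ 0 := (map_ne_zero_iff g hg).mpr hπirr.ne_zero
  have hρ0 : ρ ≠ 0 := fun h0 => hgπ ((algebraMap L M).injective (by
    rw [map_zero, ← hρ, h0, zero_pow he.ne']))
  let ψ : AdjoinRoot (X ^ e - C π : A[X]) →+* M :=
    AdjoinRoot.lift ((algebraMap L M).comp g) ρ (by simp [hρ])
  have hψof : ψ.comp (AdjoinRoot.of _) = (algebraMap K M).comp (algebraMap A K) := by
    refine RingHom.ext fun a => ?_
    simp only [ψ, RingHom.comp_apply, AdjoinRoot.lift_of]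
    rw [IsScalarTower.algebraMap_apply K L M, hKL]
  show EtRam.IsTamelyRamified A (algebraMap A L)
  refine isTamelyRamified_of_unramified_root (K := K) hπ he ?_ (IsScalarTower.toAlgHom K L M) ψ hψof ?_
  · rw [← map_natCast (residue A)]
    exact (heA.map _).ne_zero
  intro hloc
  obtain ⟨hdom, hdvr, hmax, hof⟩ := eisenstein_root hπ he
  rw [isUnramifiedExt_iff]
  intro V hV
  let a : ι → A := fun i => (w i : A)
  let D := MvPolynomial ι A ⧸ KummerAlg84.ker a n
  have : Module.Finite A D := KummerAlg84.finite hn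
  have : Algebra.FormallyUnramified A D := by
    have hF : ∀ i, a i ∣ (1 : A) := fun i => isUnit_iff_dvd_one.mp (w i).isUnit
    have he' := KummerAlg84.etale_away (a := a) hn hu 1 hF
    have hu1 : IsUnit (algebraMap A D (1 : A)) := by rw [map_one]; exact isUnit_one
    have eq : D ≃ₐ[D] Localization.Away (algebraMap A D (1 : A)) := IsLocalization.atUnit D _ _ hu1
    exact Algebra.FormallyUnramified.of_equiv (eq.restrictScalars A).symm
  let y : ι → M := fun i => algebraMap L M (z i) / ρ ^ (m i * c i)
  have hy : ∀ i, y i ^ n i = algebraMap L M (g (a i)) := fun i => by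
    simp only [y, div_pow, ← pow_mul]
    rw [show m i * c i * n i = e * m i by rw [hc i]; ring, pow_mul, hρ, ← map_pow, hz, hw i, map_mul, map_pow,
      map_mul, map_pow, mul_div_cancel_right₀ _ (pow_ne_zero _ (hρ ▸ pow_ne_zero _ hρ0))]
  let kD : D →+* M := Ideal.Quotient.lift _ (MvPolynomial.eval₂Hom ((algebraMap L M).comp g) y) fun x hx => by
    refine RingHom.mem_ker.mp (Ideal.span_le.mpr ?_ hx)
    rintro _ ⟨i, rfl⟩
    simp [hy]
  refine (ramHom_one_of_baseChange (A := A) (AdjoinRoot.of _) ψ kD ?_ ?_
    ({ρ} ∪ Set.range (algebraMap K M)) ?_ ?_ V hV).2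
  · refine RingHom.ext fun b => ?_
    show MvPolynomial.eval₂Hom ((algebraMap L M).comp g) y (MvPolynomial.C b) = ψ (AdjoinRoot.of _ b)
    simp only [ψ, MvPolynomial.eval₂Hom_C, AdjoinRoot.lift_of]
  · rw [RingHom.injective_iff_ker_eq_bot]
    by_contra hne'
    have hp : (RingHom.ker ψ).IsPrime := RingHom.ker_isPrime ψ
    have hroot : AdjoinRoot.root _ ∈ RingHom.ker ψ :=
      (IsLocalRing.eq_maximalIdeal (hp.isMaximal hne')).ge (hmax.ge (Ideal.mem_span_singleton_self _))
    exact hρ0 (by simpa [ψ] using hroot)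
  · rintro x (rfl | ⟨d, rfl⟩)
    · exact ⟨AdjoinRoot.root _, 1, by simp, by simp [ψ]⟩
    · obtain ⟨p, q, hq, rfl⟩ := IsFractionRing.div_surjective (A := A) d
      have h0 : ∀ b, ψ (AdjoinRoot.of _ b) = algebraMap K M (algebraMap A K b) := fun b => RingHom.congr_fun hψof b
      refine ⟨AdjoinRoot.of _ p, AdjoinRoot.of _ q, ?_, ?_⟩
      · rw [h0]
        exact (_root_.map_ne_zero _).mpr ((map_ne_zero_iff _ (IsFractionRing.injective A K)).mpr (nonZeroDivisors.ne_zero hq))
      · rw [h0, h0, map_div₀, div_mul_cancel₀ _ ((_root_.map_ne_zero _).mpr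
          ((map_ne_zero_iff _ (IsFractionRing.injective A K)).mpr (nonZeroDivisors.ne_zero hq)))]
  · let F := Subfield.closure ({ρ} ∪ Set.range (algebraMap K M) ∪ Set.range kD)
    have hL : ∀ x : L, algebraMap L M x ∈ F := fun x => by
      have hle : Subfield.closure (Set.range z ∪ Set.range g) ≤ F.comap (algebraMap L M) := by
        rw [Subfield.closure_le]
        rintro _ (⟨i, rfl⟩ | ⟨b, rfl⟩)
        · have h1 : algebraMap L M (z i) = y i * ρ ^ (m i * c i) :=
            (div_mul_cancel₀ _ (pow_ne_zero _ hρ0)).symm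
          show algebraMap L M (z i) ∈ F
          rw [h1]
          refine mul_mem (Subfield.subset_closure (Or.inr ⟨Ideal.Quotient.mk _ (MvPolynomial.X i), ?_⟩))
            (pow_mem (show ρ ∈ F from Subfield.subset_closure (Or.inl (Or.inl rfl))) _)
          exact MvPolynomial.eval₂Hom_X' ((algebraMap L M).comp g) y i
        · exact Subfield.subset_closure (Or.inl (Or.inr ⟨algebraMap A K b, by
            rw [IsScalarTower.algebraMap_apply K L M, hKL]⟩))
      exact hle (hgen ▸ Subfield.mem_top x)
    let N := Subfield.toIntermediateField (K := L) F hL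
    refine top_le_iff.mp fun x _ => ?_
    have hle : IntermediateField.adjoin L ({ρ₀} : Set Ω) ≤ N.map M.val := by
      rw [IntermediateField.adjoin_simple_le_iff]
      exact ⟨ρ, Subfield.subset_closure (Or.inl (Or.inl rfl)), rfl⟩
    obtain ⟨x', hx', hxx⟩ := hle x.2
    rwa [← show x' = x from Subtype.ext hxx]

end Groth.Agent.TameRoots84
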