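import Groth.Agent.Sga84.KummerAlg
import Groth.Prelude.Def_SGA1t
import Mathlib.AlgebraicGeometry.Scheme

/-! # The twists of a Kummer algebra by roots of unity, and the locus away from the parameters -/

set_option autoImplicit false
universe u

open CategoryTheory AlgebraicGeometry

namespace Groth.Agent.KummerTwist84

variable {R : Type u} [CommRing R] {ι : Type} (a : ι → R) (n : ι → ℕ)

theorem twist_algebraMap (ζ : ∀ i, rootsOfUnity (n i) R) (c : R) :
    SGA1t.kummerTwist R a n ζ (algebraMap R (SGA1t.kummer R a n) c) = algebraMap R (SGA1t.kummer R a n) c :=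
  congrArg (Ideal.Quotient.mk _) (MvPolynomial.aeval_C _ c)

theorem twist_T (ζ : ∀ i, rootsOfUnity (n i) R) (i : ι) :
    SGA1t.kummerTwist R a n ζ (KummerAlg84.T a n i) =
      algebraMap R (SGA1t.kummer R a n) ((ζ i : Rˣ) : R) * KummerAlg84.T a n i := by
  refine (congrArg (Ideal.Quotient.mk _) (MvPolynomial.aeval_X
    (R := R) (fun j => MvPolynomial.C (((ζ j : Rˣ) : R)) * MvPolynomial.X j) i)).trans ?_
  rw [map_mul]
  rfl

/-- Two maps out of a Kummer algebra agree if they agree on scalars and on the roots. -/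
theorem hom_ext {L : Type u} [CommRing L] {f g : SGA1t.kummer R a n →+* L}
    (hC : ∀ c, f (algebraMap R _ c) = g (algebraMap R _ c))
    (hT : ∀ i, f (KummerAlg84.T a n i) = g (KummerAlg84.T a n i)) : f = g :=
  Ideal.Quotient.ringHom_ext (MvPolynomial.ringHom_ext hC hT)

theorem twist_mul (ζ η : ∀ i, rootsOfUnity (n i) R) :
    SGA1t.kummerTwist R a n (ζ * η) = (SGA1t.kummerTwist R a n ζ).comp (SGA1t.kummerTwist R a n η) := by
  refine hom_ext a n (fun c => ?_) fun i => ?_
  · rw [RingHom.comp_apply, twist_algebraMap, twist_algebraMap, twist_algebraMap]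
  · rw [RingHom.comp_apply, twist_T, twist_T, map_mul, twist_algebraMap, twist_T, ← mul_assoc, ← map_mul,
      Pi.mul_apply, Subgroup.coe_mul, Units.val_mul, mul_comm ((ζ i : Rˣ) : R)]

theorem twist_one : SGA1t.kummerTwist R a n 1 = RingHom.id _ := by
  refine hom_ext a n (fun c => ?_) fun i => ?_
  · rw [twist_algebraMap, RingHom.id_apply]
  · rw [twist_T, Pi.one_apply, OneMemClass.coe_one, Units.val_one, map_one, one_mul, RingHom.id_apply]

theorem twist_comp_algebraMap (ζ : ∀ i, rootsOfUnity (n i) R) :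
    (SGA1t.kummerTwist R a n ζ).comp (algebraMap R (SGA1t.kummer R a n)) = algebraMap R (SGA1t.kummer R a n) :=
  RingHom.ext (twist_algebraMap a n ζ)

/-- The preimage of a product of the parameters and units is the locus where the roots are invertible. -/
theorem basicOpen_eq [Fintype ι] {κ : Type} [Fintype κ] (v : κ → R) (e : ι → κ) (he : ∀ i, v (e i) = a i)
    (hunit : ∀ k, (∀ i, e i ≠ k) → IsUnit (v k)) (hn : ∀ i, 1 ≤ n i) :
    PrimeSpectrum.basicOpen (algebraMap R (SGA1t.kummer R a n) (∏ k, v k)) =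
      PrimeSpectrum.basicOpen (∏ i, KummerAlg84.T a n i) := by
  refine TopologicalSpace.Opens.ext (Set.ext fun q => ?_)
  simp only [SetLike.mem_coe, PrimeSpectrum.mem_basicOpen]
  simp only [map_prod, q.isPrime.prod_mem_iff, Finset.mem_univ, true_and, not_exists]
  refine ⟨fun h i hi => h (e i) ?_, fun h k hk => ?_⟩
  · rw [he]
    exact (KummerAlg84.T_pow a n i) ▸ Ideal.pow_mem_of_mem _ hi _ (hn i)
  · by_cases hke : ∃ i, e i = k
    · obtain ⟨i, rfl⟩ := hke
      rw [he] at hk
      exact h i (q.isPrime.mem_of_pow_mem _ ((KummerAlg84.T_pow a n i).symm ▸ hk))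
    · exact q.isPrime.ne_top (Ideal.eq_top_of_isUnit_mem _ hk
        ((hunit k fun i hi => hke ⟨i, hi⟩).map (algebraMap R _)))

end Groth.Agent.KummerTwist84
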