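import Mathlib.AlgebraicGeometry.Morphisms.FormallyUnramified
import Mathlib.AlgebraicGeometry.Morphisms.Separated

/-! # Rigidity of unramified separated morphisms -/

set_option autoImplicit false
universe u

open CategoryTheory CategoryTheory.Limits AlgebraicGeometry

namespace Groth.Agent.RigidUnram84

/-- Maps from a connected scheme to an unramified separated scheme agreeing at a point are equal. -/
theorem ext_of_connected {P C S Z : Scheme.{u}} [ConnectedSpace P] [Nonempty Z] (c : C ⟶ S)
    [FormallyUnramified c] [LocallyOfFiniteType c] [IsSeparated c] (f g : P ⟶ C) (h : f ≫ c = g ≫ c)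
    (q : Z ⟶ P) (hq : q ≫ f = q ≫ g) : f = g := by
  let d : P ⟶ pullback c c := pullback.lift f g h
  let e : pullback d (pullback.diagonal c) ⟶ P := pullback.fst d (pullback.diagonal c)
  have : IsClosedImmersion e := MorphismProperty.pullback_fst _ _ inferInstance
  have : IsIso e := by
    apply isIso_of_isOpenImmersion_of_opensRange_eq_top
    refine SetLike.coe_injective (IsClopen.eq_univ ⟨e.isClosedEmbedding.isClosed_range,
      e.isOpenEmbedding.isOpen_range⟩ ?_)
    obtain ⟨z⟩ := (inferInstance : Nonempty Z)
    have hl : q ≫ d = (q ≫ f) ≫ pullback.diagonal c := by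
      apply pullback.hom_ext <;> simp only [d, Category.assoc, pullback.lift_fst, pullback.lift_snd,
        pullback.diagonal_fst, pullback.diagonal_snd, Category.comp_id, hq]
    exact ⟨q z, pullback.lift q (q ≫ f) hl z, by rw [← Scheme.Hom.comp_apply, pullback.lift_fst]⟩
  have h1 := congrArg (· ≫ pullback.fst c c) (pullback.condition (f := d) (g := pullback.diagonal c))
  have h2 := congrArg (· ≫ pullback.snd c c) (pullback.condition (f := d) (g := pullback.diagonal c))
  simp only [d, Category.assoc, pullback.lift_fst, pullback.lift_snd, pullback.diagonal_fst,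
    pullback.diagonal_snd, Category.comp_id] at h1 h2
  exact (cancel_epi e).mp (h1.trans h2.symm)

end Groth.Agent.RigidUnram84
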