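import Mathlib.RingTheory.Henselian
import Mathlib.RingTheory.RootsOfUnity.EnoughRootsOfUnity
import Mathlib.RingTheory.RootsOfUnity.AlgebraicallyClosed
import Mathlib.FieldTheory.IsSepClosed

/-! # Roots of unity in strictly henselian rings -/

set_option autoImplicit false
universe u v

open IsLocalRing Polynomial

namespace Groth.Agent.RootsUnity84

variable {R : Type u} [CommRing R] [IsLocalRing R] {n : ℕ} {Ω : Type v} [Field Ω] (g : R →+* Ω)

/-- Roots of unity of order invertible in a local ring are detected in any residue field. -/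
theorem eq_one_of_map (hn : IsUnit (n : R)) {w : R} (hw : w ^ n = 1) (h : g w = 1) : w = 1 := by
  have hres : residue R w = 1 := by
    by_contra hne
    have hu : IsUnit (w - 1) := by
      rw [← IsLocalRing.residue_ne_zero_iff_isUnit, map_sub, map_one, sub_ne_zero]
      exact hne
    exact (hu.map g).ne_zero (by rw [map_sub, map_one, h, sub_self])
  have hu : IsUnit (∑ k ∈ Finset.range n, w ^ k) := by
    rw [← IsLocalRing.residue_ne_zero_iff_isUnit, map_sum]
    simpa [hres] using (hn.map (residue R)).ne_zero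
  refine sub_eq_zero.mp (hu.mul_right_eq_zero.mp ?_)
  rw [geom_sum_mul, hw, sub_self]

/-- A strictly henselian ring has all roots of unity of order invertible in it. -/
theorem exists_map_eq [HenselianLocalRing R] [IsSepClosed (ResidueField R)] (hn : IsUnit (n : R))
    {c : Ω} (hc : c ^ n = 1) : ∃ w : R, w ^ n = 1 ∧ g w = c := by
  have : NeZero n := ⟨fun h => by subst h; simp at hn⟩
  have hn' : (n : ResidueField R) ≠ 0 := by simpa using (hn.map (residue R)).ne_zero
  have : NeZero (n : ResidueField R) := ⟨hn'⟩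
  obtain ⟨z, hz⟩ := HasEnoughRootsOfUnity.exists_primitiveRoot (ResidueField R) n
  have h2 := ((HenselianLocalRing.TFAE R).out 0 1).mp ‹HenselianLocalRing R›
  obtain ⟨w, hw, hwz⟩ := h2 (X ^ n - 1) (monic_X_pow_sub_C (1 : R) (NeZero.ne n)) z
    (by simp [hz.pow_eq_one])
    (by
      simp only [derivative_sub, derivative_X_pow, derivative_one, sub_zero, map_mul, map_pow, aeval_X,
        aeval_C, map_natCast]
      exact mul_ne_zero hn' (pow_ne_zero _ (hz.ne_zero (NeZero.ne n))))
  have hwn : w ^ n = 1 := sub_eq_zero.mp (by simpa [IsRoot] using hw)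
  have hprim : IsPrimitiveRoot (g w) n := by
    refine IsPrimitiveRoot.mk_of_lt _ (Nat.pos_of_ne_zero (NeZero.ne n)) (by rw [← map_pow, hwn, map_one]) ?_
    intro l hl hln hl1
    have := eq_one_of_map g hn (w := w ^ l) (by rw [← pow_mul, mul_comm, pow_mul, hwn, one_pow])
      (by rwa [map_pow])
    refine hz.pow_ne_one_of_pos_of_lt hl.ne' hln ?_
    rw [← hwz, ← map_pow, this, map_one]
  obtain ⟨l, -, rfl⟩ := hprim.eq_pow_of_pow_eq_one hc
  exact ⟨w ^ l, by rw [← pow_mul, mul_comm, pow_mul, hwn, one_pow], map_pow g w l⟩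

end Groth.Agent.RootsUnity84
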