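import Groth.Agent.Sga84.SmoothQuot
import Groth.Agent.Unr55.JacobiSmooth
import Groth.Agent.FlatMor66.SliceAlg
import Groth.Prelude.Def_CInt
import Mathlib.RingTheory.Kaehler.Polynomial
import Mathlib.RingTheory.Localization.LocalizationLocalization
import Mathlib.RingTheory.Smooth.Locus
import Mathlib.RingTheory.Smooth.Flat
import Mathlib.RingTheory.Regular.Flat

/-! # The ideal of a smooth subscheme of a smooth scheme is regular -/

set_option autoImplicit false
universe u

open TensorProduct IsLocalRing

namespace Groth.Agent.SmoothRegIdeal84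

theorem isRegularIdeal {A₀ B₀ L C : Type u} [CommRing A₀] [IsNoetherianRing A₀] [CommRing B₀] [Algebra A₀ B₀]
    [Algebra.Smooth A₀ B₀] (q : Ideal B₀) [q.IsPrime] [CommRing L] [IsLocalRing L] [Algebra B₀ L]
    [IsLocalization.AtPrime L q] [Algebra A₀ L] [IsScalarTower A₀ B₀ L]
    [CommRing C] [Nontrivial C] [Algebra A₀ C] [Algebra L C] [IsScalarTower A₀ L C]
    [Algebra.FormallySmooth A₀ C] (hs : Function.Surjective (algebraMap L C)) :
    CInt.IsRegularIdeal (RingHom.ker (algebraMap L C)) := by
  classical
  have : IsNoetherianRing B₀ := Algebra.FiniteType.isNoetherianRing A₀ B₀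
  have : IsNoetherianRing L := IsLocalization.isNoetherianRing q.primeCompl L inferInstance
  have : Algebra.FormallySmooth B₀ L := Algebra.FormallySmooth.of_isLocalization q.primeCompl
  have : Algebra.FormallySmooth A₀ L := Algebra.FormallySmooth.comp A₀ B₀ L
  have : Algebra.EssFiniteType B₀ L := Algebra.EssFiniteType.of_isLocalization L q.primeCompl
  have : Algebra.EssFiniteType A₀ L := Algebra.EssFiniteType.comp A₀ B₀ L
  have : Module.Free L Ω[L⁄A₀] := Module.free_of_flat_of_isLocalRing
  set J := RingHom.ker (algebraMap L C) with hJ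
  let ι := {b : B₀ // algebraMap B₀ L b ∈ J}
  let gι : ι → L := fun b => algebraMap B₀ L b.1
  have hgen : J = Ideal.span (Set.range gι) := by
    conv_lhs => rw [← IsLocalization.map_comap q.primeCompl L J]
    rw [Ideal.map]
    congr 1
    ext x
    constructor
    · rintro ⟨b, hb, rfl⟩; exact ⟨⟨b, hb⟩, rfl⟩
    · rintro ⟨b, rfl⟩; exact ⟨b.1, b.2, rfl⟩
  obtain ⟨t, ht, hli⟩ := (Groth.Agent.SmoothQuot84.formallySmooth_iff A₀ L C hs (IsNoetherian.noetherian J) gι hgen).mp
    inferInstance
  let c := Fintype.card ↥t
  let e : Fin c ≃ ↥t := (Fintype.equivFin ↥t).symm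
  let g : Fin c → B₀ := fun i => (e i).1.1
  let P := MvPolynomial (Fin c) A₀
  let : Algebra P B₀ := (MvPolynomial.aeval g).toRingHom.toAlgebra
  have : IsScalarTower A₀ P B₀ := .of_algebraMap_eq fun r => ((MvPolynomial.aeval g).commutes r).symm
  let : Algebra P L := ((algebraMap B₀ L).comp (algebraMap P B₀)).toAlgebra
  have : IsScalarTower P B₀ L := .of_algebraMap_eq fun _ => rfl
  have : IsScalarTower A₀ P L := .of_algebraMap_eq fun r => by
    show _ = algebraMap B₀ L (algebraMap P B₀ (algebraMap A₀ P r))
    rw [← IsScalarTower.algebraMap_apply A₀ P B₀, ← IsScalarTower.algebraMap_apply A₀ B₀ L]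
  have hPX : ∀ i, algebraMap P L (MvPolynomial.X i) = gι (e i).1 := fun i =>
    congrArg (algebraMap B₀ L) (MvPolynomial.aeval_X g i)
  -- smoothness over the polynomial ring
  have : Algebra.FormallySmooth P L := by
    rw [Unr55.formallySmooth_iff_exists_retraction (A := A₀)]
    have hN : Module.Finite L (L ⊗[P] Ω[P⁄A₀]) := inferInstance
    rw [IsLocalRing.split_injective_iff_lTensor_residueField_injective]
    let b₁ := (KaehlerDifferential.mvPolynomialBasis A₀ (Fin c)).baseChange L
    let b₂ := b₁.baseChange (ResidueField L)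
    let φ := (KaehlerDifferential.mapBaseChange A₀ P L).baseChange (ResidueField L)
    have hφ : ∀ i, φ (b₂ i) = (1 : ResidueField L) ⊗ₜ[L] KaehlerDifferential.D A₀ L (gι (e i).1) := fun i => by
      simp only [φ, b₁, b₂, Module.Basis.baseChange_apply, KaehlerDifferential.mvPolynomialBasis_apply,
        LinearMap.baseChange_tmul]
      refine congrArg _ ?_
      show KaehlerDifferential.mapBaseChange A₀ P L (1 ⊗ₜ[P] KaehlerDifferential.D A₀ P (MvPolynomial.X i)) = _
      rw [KaehlerDifferential.mapBaseChange_tmul, one_smul, KaehlerDifferential.map_D, hPX]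
    have hinj : Function.Injective φ := by
      rw [← LinearMap.ker_eq_bot]
      refine LinearMap.ker_eq_bot'.mpr fun z hz => ?_
      have h := hli.comp e e.injective
      rw [← b₂.sum_repr z, map_sum] at hz
      simp only [map_smul, hφ] at hz
      rw [← b₂.sum_repr z]
      refine Finset.sum_eq_zero fun i _ => ?_
      rw [Fintype.linearIndependent_iff.mp h _ hz i, zero_smul]
    exact hinj
  have : Algebra.FinitePresentation P B₀ := Algebra.FinitePresentation.of_restrict_scalars_finitePresentation A₀ P B₀
  have : Algebra.IsSmoothAt P q := Algebra.FormallySmooth.of_equiv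
    ((IsLocalization.algEquiv q.primeCompl L (Localization.AtPrime q)).restrictScalars P)
  obtain ⟨r, hr, hsm⟩ := Algebra.IsSmoothAt.exists_notMem_smooth P q
  -- weak regularity
  let φr : Localization.Away r →+* L := IsLocalization.Away.lift r
    (IsLocalization.map_units (M := q.primeCompl) L ⟨r, hr⟩)
  let : Algebra (Localization.Away r) L := φr.toAlgebra
  have : IsScalarTower B₀ (Localization.Away r) L := .of_algebraMap_eq fun b =>
    (IsLocalization.Away.lift_eq r _ b).symm
  have : IsScalarTower P (Localization.Away r) L := .of_algebraMap_eq fun p => by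
    rw [IsScalarTower.algebraMap_apply P B₀ (Localization.Away r), ← IsScalarTower.algebraMap_apply B₀,
      ← IsScalarTower.algebraMap_apply]
  have : IsLocalization (q.primeCompl.map (algebraMap B₀ (Localization.Away r))) L :=
    IsLocalization.isLocalization_of_submonoid_le (Localization.Away r) L (Submonoid.powers r) q.primeCompl
      (by rintro _ ⟨k, rfl⟩; exact q.primeCompl.pow_mem hr k)
  have : Module.Flat (Localization.Away r) L :=
    IsLocalization.flat L (q.primeCompl.map (algebraMap B₀ (Localization.Away r)))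
  have : Module.Flat P L := Module.Flat.trans P (Localization.Away r) L
  have hwr := (FlatMor66.isWeaklyRegular_X (R := A₀) c).of_flat (S := L)
  have hlist : (List.ofFn fun i : Fin c => (MvPolynomial.X i : P)).map (algebraMap P L) =
      List.ofFn fun i => gι (e i).1 := by
    rw [List.map_ofFn]
    exact congrArg List.ofFn (funext hPX)
  rw [hlist] at hwr
  have hspan : Ideal.ofList (List.ofFn fun i => gι (e i).1) = J := by
    refine Eq.trans ?_ ht.symm
    unfold Ideal.ofList
    congr 1
    ext x
    simp only [Set.mem_setOf_eq, List.mem_ofFn, Set.mem_image, Finset.mem_coe]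
    constructor
    · rintro ⟨i, rfl⟩; exact ⟨_, (e i).2, rfl⟩
    · rintro ⟨b, hb, rfl⟩; exact ⟨e.symm ⟨b, hb⟩, by simp⟩
  refine ⟨_, ⟨hwr, ?_⟩, hspan⟩
  rw [hspan, Ne, eq_comm, Ideal.smul_eq_mul, Ideal.mul_top]
  exact RingHom.ker_ne_top _

end Groth.Agent.SmoothRegIdeal84
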