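import Mathlib.RingTheory.Unramified.Finite
import Mathlib.RingTheory.TensorProduct.IncludeLeftSubRight
import Mathlib.RingTheory.Flat.FaithfullyFlat.Algebra
import Mathlib.RingTheory.Etale.Basic
import Mathlib.RingTheory.Jacobson.Ideal
import Mathlib.LinearAlgebra.Vandermonde
import Mathlib.LinearAlgebra.Matrix.NonsingularInverse
import Mathlib.FieldTheory.IsAlgClosed.AlgebraicClosure
import Mathlib.RingTheory.Ideal.Quotient.Operations
import Mathlib.RingTheory.AdjoinRoot

/-!
# Galois algebras

A faithfully flat unramified algebra `B` over `A` with a finite group acting simply transitively on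
geometric points over each geometric point of `A` satisfies `B ⊗ B ≃ (G → B)`.
-/

set_option autoImplicit false

universe u v

open scoped TensorProduct

namespace Groth.Agent.GaloisAlg84

variable {A B : Type u} [CommRing A] [CommRing B] [Algebra A B] {G : Type v}

/-- Simple transitivity on geometric points. -/
def PtTorsor (σ : G → (B ≃ₐ[A] B)) : Prop :=
  ∀ (Ω : Type u) [Field Ω] [IsAlgClosed Ω] (ψ ψ' : B →+* Ω),
    ψ.comp (algebraMap A B) = ψ'.comp (algebraMap A B) → ∃! g : G, ψ.comp (σ g).toAlgHom.toRingHom = ψ'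

variable (σ : G → (B ≃ₐ[A] B))

/-- `b ⊗ b' ↦ (g ↦ b * σ g b')`. -/
noncomputable def Θ : B ⊗[A] B →ₐ[B] (G → B) :=
  Algebra.TensorProduct.lift (Algebra.ofId B (G → B)) (AlgHom.pi fun g => (σ g).toAlgHom) fun _ _ => Commute.all _ _

@[simp]
theorem Θ_tmul (b c : B) (g : G) : Θ σ (b ⊗ₜ c) g = b * σ g c := by
  simp [Θ, Algebra.ofId_apply, Pi.algebraMap_apply]

variable {σ}

theorem exists_idempotents [Finite G] [Algebra.EssFiniteType A B] [Algebra.FormallyUnramified A B]
    (h : PtTorsor σ) :
    ∃ e : G → B ⊗[A] B, ∀ g, Θ σ (e g) g = 1 ∧ (∀ g', g' ≠ g → Θ σ (e g) g' = 0) ∧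
      ∀ x, e g * x = e g * (Θ σ x g ⊗ₜ[A] 1) := by
  classical
  obtain ⟨t, ht₁, ht₂⟩ := Algebra.FormallyUnramified.iff_exists_tensorProduct.mp
    ‹_›
  let e : G → B ⊗[A] B := fun g =>
    Algebra.TensorProduct.map (AlgHom.id A B) (σ g).symm.toAlgHom t
  refine ⟨e, fun g => ?_⟩
  let μ := Algebra.TensorProduct.map (AlgHom.id A B) (σ g).symm.toAlgHom
  have hμ : ∀ x, Θ σ (μ x) g = Algebra.TensorProduct.lmul' A x := fun x => by
    induction x using TensorProduct.induction_on with
    | zero => simp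
    | tmul b c =>
      simp only [μ, Algebra.TensorProduct.map_tmul, AlgHom.coe_id, id_eq, Θ_tmul,
        Algebra.TensorProduct.lmul'_apply_tmul]
      congr 1
      exact (σ g).apply_symm_apply c
    | add x y hx hy => simp [map_add, hx, hy]
  have h1 : Θ σ (e g) g = 1 := (hμ t).trans ht₂
  have hkill : ∀ x, e g * x = e g * (Θ σ x g ⊗ₜ[A] 1) := fun x => by
    induction x using TensorProduct.induction_on with
    | zero => simp
    | tmul b c =>
      have := congrArg μ (ht₁ (σ g c))
      rw [map_mul, map_sub, map_zero] at this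
      simp only [μ, Algebra.TensorProduct.map_tmul, map_one, AlgHom.coe_id, id_eq] at this
      rw [show (σ g).symm.toAlgHom (σ g c) = c from
        (σ g).symm_apply_apply c, sub_mul, sub_eq_zero] at this
      rw [Θ_tmul, show (b ⊗ₜ[A] c : B ⊗[A] B) = (b ⊗ₜ 1) * (1 ⊗ₜ c) by simp,
        show ((b * σ g c) ⊗ₜ[A] (1 : B)) = (b ⊗ₜ 1) * (σ g c ⊗ₜ 1) by simp]
      linear_combination (b ⊗ₜ[A] (1 : B)) * this
    | add x y hx hy => rw [map_add, Pi.add_apply, TensorProduct.add_tmul, mul_add, mul_add, hx, hy]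
  refine ⟨h1, fun g' hg' => ?_, hkill⟩
  let z := Θ σ (e g) g'
  have hz : IsIdempotentElem z := by
    show Θ σ (e g) g' * Θ σ (e g) g' = _
    rw [← Pi.mul_apply, ← map_mul, hkill (e g), h1,
      show ((1 : B) ⊗ₜ[A] (1 : B)) = 1 from rfl, mul_one]
  have hz' : ∀ c, z * σ g' c = z * σ g c := fun c => by
    have := congrArg (fun y => Θ σ y g') (hkill (1 ⊗ₜ c))
    simpa [map_mul, z] using this
  refine hz.eq_zero_of_isNilpotent (mem_nilradical.mp ?_)
  rw [nilradical_eq_sInf, Ideal.mem_sInf]
  intro P hP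
  have : P.IsPrime := hP
  let Ω := AlgebraicClosure (FractionRing (B ⧸ P))
  let ψ : B →+* Ω := ((algebraMap (FractionRing (B ⧸ P)) Ω).comp (algebraMap (B ⧸ P) _)).comp (Ideal.Quotient.mk P)
  have hψ : ∀ b, ψ b = 0 ↔ b ∈ P := fun b => by
    simp only [ψ, RingHom.comp_apply, map_eq_zero, map_eq_zero_iff _ (IsFractionRing.injective (B ⧸ P) _),
      Ideal.Quotient.eq_zero_iff_mem]
  by_contra hzP
  obtain ⟨g₀, hg₀, huniq⟩ := h Ω ψ (ψ.comp (σ g).toAlgHom.toRingHom) (by
    ext a; simp [(σ g).commutes a])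
  refine hg' ((huniq g' ?_).trans (huniq g rfl).symm)
  ext c
  have := congrArg ψ (hz' c)
  rw [map_mul, map_mul] at this
  exact mul_left_cancel₀ (fun h0 => hzP ((hψ z).mp h0)) this

theorem bijective_Θ [Finite G] [Algebra.EssFiniteType A B] [Algebra.FormallyUnramified A B]
    (h : PtTorsor σ) : Function.Bijective (Θ σ) := by
  classical
  have := Fintype.ofFinite G
  obtain ⟨e, he⟩ := exists_idempotents h
  have hΘe : ∀ g, Θ σ (e g) = Pi.single g 1 := fun g => funext fun g' => by
    rcases eq_or_ne g' g with rfl | hne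
    · rw [(he _).1, Pi.single_eq_same]
    · rw [(he g).2.1 g' hne, Pi.single_eq_of_ne hne]
  have hidem : ∀ g, IsIdempotentElem (e g) := fun g => by
    show e g * e g = e g
    rw [(he g).2.2 (e g), (he g).1, show ((1 : B) ⊗ₜ[A] (1 : B)) = 1 from rfl, mul_one]
  let S := ∑ g, e g
  have hS : Θ σ S = 1 := by
    rw [map_sum]
    simp only [hΘe]
    exact Finset.univ_sum_single (1 : G → B)
  have hSe : ∀ g, e g * S = e g := fun g => by
    rw [(he g).2.2 S, hS, Pi.one_apply, show ((1 : B) ⊗ₜ[A] (1 : B)) = 1 from rfl, mul_one]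
  have hSi : IsIdempotentElem S := by
    show S * S = S
    rw [Finset.sum_mul]
    exact Finset.sum_congr rfl fun g _ => hSe g
  have hS1 : S = 1 := by
    refine (sub_eq_zero.mp (hSi.one_sub.eq_zero_of_isNilpotent (mem_nilradical.mp ?_))).symm
    rw [nilradical_eq_sInf, Ideal.mem_sInf]
    intro P hP
    have : P.IsPrime := hP
    let Ω := AlgebraicClosure (FractionRing ((B ⊗[A] B) ⧸ P))
    let ψ : B ⊗[A] B →+* Ω := ((algebraMap (FractionRing ((B ⊗[A] B) ⧸ P)) Ω).comp (algebraMap _ _)).comp
      (Ideal.Quotient.mk P)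
    let ψ₁ : B →+* Ω := ψ.comp Algebra.TensorProduct.includeLeftRingHom
    obtain ⟨g, hg, -⟩ := h Ω ψ₁ (ψ.comp (Algebra.TensorProduct.includeRight (R := A) (A := B)).toRingHom) (by
      refine RingHom.ext fun a => ?_
      show ψ (algebraMap A B a ⊗ₜ 1) = ψ (1 ⊗ₜ algebraMap A B a)
      refine congrArg ψ ?_
      simp [Algebra.algebraMap_eq_smul_one, TensorProduct.smul_tmul])
    have hfac : ∀ x, ψ x = ψ₁ (Θ σ x g) := fun x => by
      induction x using TensorProduct.induction_on with
      | zero => simp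
      | tmul b c =>
        rw [Θ_tmul, map_mul, show ψ₁ (σ g c) = ψ (1 ⊗ₜ c) from RingHom.congr_fun hg c]
        show ψ (b ⊗ₜ c) = ψ (b ⊗ₜ 1) * ψ (1 ⊗ₜ c)
        rw [← map_mul, Algebra.TensorProduct.tmul_mul_tmul, mul_one, one_mul]
      | add x y hx hy => simp [map_add, hx, hy]
    have h0 : ψ (1 - S) = 0 := by simp [hfac, map_sub, hS]
    simp only [ψ, RingHom.comp_apply, map_eq_zero,
      map_eq_zero_iff _ (IsFractionRing.injective ((B ⊗[A] B) ⧸ P) _), Ideal.Quotient.eq_zero_iff_mem] at h0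
    exact h0
  refine ⟨(injective_iff_map_eq_zero _).mpr fun x hx => ?_, fun f => ⟨∑ g, f g • e g, ?_⟩⟩
  · rw [← one_mul x, ← hS1, Finset.sum_mul]
    exact Finset.sum_eq_zero fun g _ => by
      rw [(he g).2.2 x, hx, Pi.zero_apply, TensorProduct.zero_tmul, mul_zero]
  · rw [map_sum]
    simp only [map_smul, hΘe]
    funext g'
    simp [Finset.sum_apply, Pi.single_apply, smul_eq_mul]

/-- The invariants of a Galois algebra. -/
theorem mem_range_of_fixed [Module.FaithfullyFlat A B] (hΘ : Function.Injective (Θ σ)) {b : B}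
    (hb : ∀ g, σ g b = b) : b ∈ Set.range (algebraMap A B) := by
  refine (Algebra.IsEffective.eqLocus_includeLeft_includeRight (Algebra.IsEffective.of_faithfullyFlat A B)) ▸ ?_
  show b ⊗ₜ[A] (1 : B) = (1 : B) ⊗ₜ[A] b
  refine hΘ (funext fun g => ?_)
  simp [hb g]

/-- A combination of the translates with value `1` somewhere. -/
theorem exists_sum_eq_one [Module.FaithfullyFlat A B] {G : Type v} [CommGroup G] [Fintype G]
    {σ : G → (B ≃ₐ[A] B)} (hΘ : Function.Bijective (Θ σ)) (c : G → A) (hc : c 1 = 1) :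
    ∃ (s : Finset (B × B)), ∑ p ∈ s, p.1 * (∑ g, algebraMap A B (c g) * σ g p.2) = 1 := by
  classical
  obtain ⟨e, he⟩ := hΘ.2 (Pi.single 1 1)
  obtain ⟨s, hs⟩ := TensorProduct.exists_finset (R := A) e
  refine ⟨s, ?_⟩
  have h2 : ∀ g, ∑ p ∈ s, p.1 * σ g p.2 = (Pi.single 1 1 : G → B) g := fun g => by
    rw [← he, hs, map_sum, Finset.sum_apply]
    simp
  calc ∑ p ∈ s, p.1 * (∑ g, algebraMap A B (c g) * σ g p.2)
      = ∑ g, algebraMap A B (c g) * ∑ p ∈ s, p.1 * σ g p.2 := by
        simp only [Finset.mul_sum]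
        rw [Finset.sum_comm]
        exact Finset.sum_congr rfl fun g _ => Finset.sum_congr rfl fun p _ => by ring
    _ = 1 := by simp [h2, Pi.single_apply, hc]

/-- An element with pairwise unit differences of conjugates generates a power basis. -/
theorem bijective_powers [Module.FaithfullyFlat A B] [Fintype G] (hΘ : Function.Bijective (Θ σ)) (t : B)
    (ht : ∀ g g', g ≠ g' → IsUnit (σ g t - σ g' t)) :
    Function.Bijective (Fintype.linearCombination A (fun i : Fin (Fintype.card G) => t ^ (i : ℕ))) := by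
  classical
  let n := Fintype.card G
  let L := Fintype.linearCombination A (fun i : Fin n => t ^ (i : ℕ))
  rw [← Module.FaithfullyFlat.lTensor_bijective_iff_bijective (R := A) (M := B)]
  let κ : Fin n ≃ G := (Fintype.equivFin G).symm
  let v : Fin n → B := fun i => σ (κ i) t
  let M := Matrix.vandermonde v
  have hM : IsUnit M := by
    rw [Matrix.isUnit_iff_isUnit_det, Matrix.det_vandermonde]
    refine IsUnit.prod_iff.mpr fun i _ => IsUnit.prod_iff.mpr fun j hj => ?_
    exact ht _ _ (fun he => (Finset.mem_Ioi.mp hj).ne' (κ.injective he))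
  have hVB : Function.Bijective M.mulVec := ⟨Matrix.mulVec_injective_of_isUnit hM, Matrix.mulVec_surjective_iff_isUnit.mpr hM⟩
  let P : B ⊗[A] (Fin n → A) ≃ₗ[B] (Fin n → B) := TensorProduct.piScalarRight A B B (Fin n)
  let e₁ : (G → B) ≃ (Fin n → B) := Equiv.piCongrLeft' (fun _ => B) κ.symm
  have key : ∀ x, e₁ (Θ σ (L.lTensor B x)) = M.mulVec (P x) := fun x => by
    induction x using TensorProduct.induction_on with
    | zero => funext i; simp [e₁]
    | tmul b c =>
      funext i
      simp only [LinearMap.lTensor_tmul, e₁, Equiv.piCongrLeft'_apply, Equiv.symm_symm, Θ_tmul, M, P,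
        Matrix.mulVec, dotProduct, Matrix.vandermonde_apply, TensorProduct.piScalarRight_apply,
        TensorProduct.piScalarRightHom_tmul, L, Fintype.linearCombination_apply, map_sum, Finset.mul_sum,
        Algebra.smul_def, map_mul, map_pow, v]
      refine Finset.sum_congr rfl fun j _ => ?_
      rw [AlgEquiv.commutes]
      ring
    | add x y hx hy =>
      rw [map_add P, Matrix.mulVec_add, ← hx, ← hy, map_add, map_add]
      rfl
  have : Function.Bijective (e₁ ∘ Θ σ ∘ (L.lTensor B)) := by
    rw [show e₁ ∘ Θ σ ∘ (L.lTensor B) = M.mulVec ∘ P from funext key]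
    exact hVB.comp P.bijective
  exact (Function.Bijective.of_comp_iff' hΘ _).mp ((Function.Bijective.of_comp_iff' e₁.bijective _).mp this)

/-- A root of a monic polynomial of degree the order of the group, with pairwise unit differences of
conjugates, presents the algebra. -/
theorem bijective_liftHom [Module.FaithfullyFlat A B] [Fintype G] (hΘ : Function.Bijective (Θ σ)) (t : B)
    (ht : ∀ g g', g ≠ g' → IsUnit (σ g t - σ g' t)) (f : Polynomial A) (hf : f.Monic)
    (hdeg : f.natDegree = Fintype.card G)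
    (q : AdjoinRoot f →ₐ[A] B) (hq : q (AdjoinRoot.root f) = t) : Function.Bijective q := by
  have hp := bijective_powers hΘ t ht
  let pb := AdjoinRoot.powerBasis' hf
  let idx : Fin pb.dim ≃ Fin (Fintype.card G) := finCongr ((AdjoinRoot.powerBasis'_dim hf).trans hdeg)
  let bB : Module.Basis (Fin (Fintype.card G)) A B :=
    (Pi.basisFun A _).map (LinearEquiv.ofBijective _ hp)
  have : q.toLinearMap = (pb.basis.equiv bB idx).toLinearMap := pb.basis.ext fun i => by
    refine Eq.trans ?_ (pb.basis.equiv_apply i bB idx).symm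
    rw [AlgHom.toLinearMap_apply, pb.basis_eq_pow, map_pow, AdjoinRoot.powerBasis'_gen, hq]
    simp [bB, Fintype.linearCombination_apply_single, idx]
  rw [show ⇑q = ⇑(pb.basis.equiv bB idx) from congrArg DFunLike.coe this]
  exact LinearEquiv.bijective _

end Groth.Agent.GaloisAlg84
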