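import Groth.Prelude.Def_SGA1t
import Groth.Agent.Sga84.GaloisAlg
import Mathlib.AlgebraicGeometry.Morphisms.Finite
import Mathlib.RingTheory.RingHom.Etale
import Mathlib.AlgebraicGeometry.Morphisms.Etale

/-! # Principal covers of an affine scheme as Galois algebras -/

set_option autoImplicit false

universe u v

open CategoryTheory CategoryTheory.Limits AlgebraicGeometry
open SGA1t

namespace Groth.Agent.GaloisAlg84

/-- A principal cover of an affine scheme is the spectrum of a Galois algebra. -/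
theorem exists_galoisAlg (A : Type u) [CommRing A] {G : Type v} [CommGroup G]
    (P : FEt.Cat (Spec (CommRingCat.of A))) (ρ : G →* Aut P) (hP : SGA1t.IsPrincipal G P ρ) :
    ∃ (B : Type u) (_ : CommRing B) (_ : Algebra A B) (σ : G → (B ≃ₐ[A] B)),
      Algebra.Etale A B ∧ Module.FaithfullyFlat A B ∧ PtTorsor σ ∧
      (∀ g h b, σ (g * h) b = σ g (σ h b)) ∧
      ∃ e : P.left ≅ Spec (CommRingCat.of B),
        e.hom ≫ Spec.map (CommRingCat.ofHom (algebraMap A B)) = P.hom ∧
        ∀ g, (ρ g).hom.left ≫ e.hom =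
          e.hom ≫ Spec.map (CommRingCat.ofHom (σ g).toAlgHom.toRingHom) := by
  have : IsFinite P.hom := P.prop.1
  have : Etale P.hom := P.prop.2
  let f : P.left ⟶ Spec (CommRingCat.of A) := P.hom
  have : IsFinite f := P.prop.1
  have : IsAffine P.left := isAffine_of_isAffineHom f
  let e0 := P.left.isoSpec
  let φ : CommRingCat.of A ⟶ Γ(P.left, ⊤) := Spec.preimage (e0.inv ≫ P.hom)
  have hφ : Spec.map φ = e0.inv ≫ P.hom := Spec.map_preimage _
  let τ : G → (Γ(P.left, ⊤) ⟶ Γ(P.left, ⊤)) := fun g => Spec.preimage (e0.inv ≫ (ρ g).hom.left ≫ e0.hom)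
  have hτ : ∀ g, Spec.map (τ g) = e0.inv ≫ (ρ g).hom.left ≫ e0.hom := fun g => Spec.map_preimage _
  have hw : ∀ g, (ρ g).hom.left ≫ P.hom = P.hom := fun g => Over.w (ρ g).hom.hom
  have hφτ : ∀ g, φ ≫ τ g = φ := fun g => Spec.map_injective (by
    rw [Spec.map_comp, hτ, hφ]
    simp only [Category.assoc, Iso.hom_inv_id_assoc]
    exact congrArg (e0.inv ≫ ·) (hw g))
  have hmul : ∀ g h, τ (g * h) = τ g ≫ τ h := fun g h => Spec.map_injective (by
    rw [Spec.map_comp, hτ, hτ, hτ, map_mul]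
    simp only [Category.assoc, Iso.hom_inv_id_assoc]
    show e0.inv ≫ ((ρ h).hom.left ≫ (ρ g).hom.left) ≫ e0.hom = _
    rw [Category.assoc])
  have hone : τ 1 = 𝟙 _ := Spec.map_injective (by
    rw [hτ, map_one, Spec.map_id]
    show e0.inv ≫ 𝟙 P.left ≫ e0.hom = _
    rw [Category.id_comp, Iso.inv_hom_id])
  let : Algebra A Γ(P.left, ⊤) := φ.hom.toAlgebra
  have hinv : ∀ g b, (τ g).hom ((τ g⁻¹).hom b) = b := fun g b => by
    have := congrArg (fun f : Γ(P.left, ⊤) ⟶ Γ(P.left, ⊤) => f.hom b) (hmul g⁻¹ g)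
    simp only [inv_mul_cancel, hone] at this
    exact this.symm
  let σ : G → (Γ(P.left, ⊤) ≃ₐ[A] Γ(P.left, ⊤)) := fun g =>
    { toFun := (τ g).hom
      invFun := (τ g⁻¹).hom
      left_inv := fun b => by simpa using hinv g⁻¹ b
      right_inv := hinv g
      map_mul' := map_mul _
      map_add' := map_add _
      commutes' := fun a => congrArg (fun f : CommRingCat.of A ⟶ Γ(P.left, ⊤) => f.hom a) (hφτ g) }
  have het : Etale (Spec.map φ) := hφ.symm ▸ inferInstance
  have hsurj : Function.Surjective (Spec.map φ).base := by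
    rw [hφ]
    intro y
    obtain ⟨x, hx⟩ := hP.1 y
    refine ⟨e0.hom x, ?_⟩
    rw [← Scheme.Hom.comp_apply, Iso.hom_inv_id_assoc]
    exact hx
  have hetA : Algebra.Etale A Γ(P.left, ⊤) := (HasRingHomProperty.Spec_iff (P := @Etale)).mp het
  refine ⟨Γ(P.left, ⊤), inferInstance, inferInstance, σ, hetA, ?_, ?_, ?_, e0, ?_, fun g => ?_⟩
  · exact Module.FaithfullyFlat.of_comap_surjective hsurj
  · intro Ω _ _ ψ ψ' hψ
    let s : Spec (CommRingCat.of Ω) ⟶ P.left := Spec.map (CommRingCat.ofHom ψ) ≫ e0.inv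
    let t : Spec (CommRingCat.of Ω) ⟶ P.left := Spec.map (CommRingCat.ofHom ψ') ≫ e0.inv
    have hst : t ≫ P.hom = s ≫ P.hom := by
      simp only [s, t, Category.assoc, ← hφ, ← Spec.map_comp]
      exact congrArg Spec.map (CommRingCat.hom_ext hψ.symm)
    have key : ∀ g, ψ.comp (σ g).toAlgHom.toRingHom = ψ' ↔ s ≫ (ρ g).hom.left = t := fun g => by
      rw [← cancel_mono e0.hom, show (s ≫ (ρ g).hom.left) ≫ e0.hom = Spec.map (τ g ≫ CommRingCat.ofHom ψ) by
        simp [s, Spec.map_comp, hτ], show t ≫ e0.hom = Spec.map (CommRingCat.ofHom ψ') by simp [t]]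
      exact ⟨fun h => congrArg Spec.map (CommRingCat.hom_ext h), fun h =>
        congrArg CommRingCat.Hom.hom (Spec.map_injective h)⟩
    obtain ⟨g, hg, huniq⟩ := hP.2 Ω _ ⟨s, rfl⟩ ⟨t, hst⟩
    exact ⟨g, (key g).mpr (congrArg Subtype.val hg), fun g' hg' => huniq g' (Subtype.ext ((key g').mp hg'))⟩
  · intro g h b
    show (τ (g * h)).hom b = (τ g).hom ((τ h).hom b)
    rw [mul_comm g h, hmul]
    rfl
  · show e0.hom ≫ Spec.map φ = _
    rw [hφ, Iso.hom_inv_id_assoc]
  · show _ = e0.hom ≫ Spec.map (τ g)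
    rw [hτ, Iso.hom_inv_id_assoc]

end Groth.Agent.GaloisAlg84
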