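import Mathlib

/-! # Kummer and Artin-Schreier computations -/

set_option autoImplicit false
universe u
open Polynomial LaurentPolynomial

namespace Sga84

theorem isUnit_of_etale_roots (A : Type u) [CommRing A] (n : ℕ)
    [Algebra.FormallyUnramified A (AdjoinRoot ((X : A[X]) ^ n - 1))] : IsUnit ((n : ℕ) : A) := by
  let B := A ⧸ Ideal.span {(n : A)}
  let I : Ideal (TrivSqZeroExt B B) := RingHom.ker (TrivSqZeroExt.fstHom B B B).toRingHom
  have hI : I ^ 2 = ⊥ := by
    rw [eq_bot_iff, pow_two, Ideal.mul_le]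
    intro a ha b hb
    have ha' : a.fst = 0 := ha
    have hb' : b.fst = 0 := hb
    refine TrivSqZeroExt.ext ?_ ?_ <;> simp [ha', hb']
  have hn : (n : B) = 0 := by
    rw [← map_natCast (Ideal.Quotient.mk (Ideal.span {(n : A)})), Ideal.Quotient.eq_zero_iff_mem]
    exact Ideal.subset_span rfl
  have hpow : ∀ k : ℕ, (1 + TrivSqZeroExt.inr (1 : B) : (TrivSqZeroExt B B)) ^ k = 1 + TrivSqZeroExt.inr (k : B) := by
    intro k
    induction k with
    | zero => simp
    | succ k ih =>
      rw [pow_succ, ih]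
      refine TrivSqZeroExt.ext ?_ ?_ <;> simp [add_comm]
  let mk : (x : (TrivSqZeroExt B B)) → x ^ n = 1 → (AdjoinRoot ((X : A[X]) ^ n - 1) →ₐ[A] (TrivSqZeroExt B B)) := fun x hx =>
    AdjoinRoot.liftAlgHom _ (Algebra.ofId A (TrivSqZeroExt B B)) x (by
      simp [eval₂_sub, eval₂_pow, hx])
  let f₁ := mk 1 (one_pow n)
  let f₂ := mk (1 + TrivSqZeroExt.inr (1 : B)) (by rw [hpow, hn]; simp)
  have hf : f₁ = f₂ := by
    refine Algebra.FormallyUnramified.comp_injective I hI (AdjoinRoot.algHom_ext ?_)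
    simp only [AlgHom.comp_apply, f₁, f₂, mk, AdjoinRoot.liftAlgHom_root]
    refine (Ideal.Quotient.eq.mpr ?_)
    change ((1 : (TrivSqZeroExt B B)) - (1 + TrivSqZeroExt.inr (1 : B))).fst = 0
    simp
  have h1 := congrArg (fun g : AdjoinRoot ((X : A[X]) ^ n - 1) →ₐ[A] (TrivSqZeroExt B B) =>
    (g (AdjoinRoot.root _)).snd) hf
  simp only [f₁, f₂, mk, AdjoinRoot.liftAlgHom_root, TrivSqZeroExt.snd_one, TrivSqZeroExt.snd_add,
    TrivSqZeroExt.snd_inr, zero_add] at h1
  have h2 : (Ideal.Quotient.mk (Ideal.span {(n : A)})) 1 = 0 := by rw [map_one]; exact h1.symm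
  rw [Ideal.Quotient.eq_zero_iff_mem, ← Ideal.eq_top_iff_one, Ideal.span_singleton_eq_top] at h2
  exact h2

theorem etale_roots_of_isUnit (A : Type u) [CommRing A] (n : ℕ) (hn : 1 ≤ n)
    (hu : IsUnit ((n : ℕ) : A)) : Algebra.Etale A (AdjoinRoot ((X : A[X]) ^ n - 1)) := by
  obtain ⟨u, hu⟩ := hu
  let P : StandardEtalePair A :=
    { f := (X : A[X]) ^ n - 1
      monic_f := monic_X_pow_sub_C 1 (Nat.one_le_iff_ne_zero.mp hn)
      g := 1
      cond := ⟨Polynomial.C (↑u⁻¹ : A) * X, -1, 0, by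
        have hc : Polynomial.C (n : A) * Polynomial.C (↑u⁻¹ : A) = 1 := by
          rw [← map_mul, ← hu, Units.mul_inv, map_one]
        obtain ⟨m, rfl⟩ := Nat.exists_eq_add_of_le hn
        rw [Nat.add_comm 1 m] at hc ⊢
        rw [derivative_sub, derivative_X_pow, derivative_one, Nat.add_sub_cancel, sub_zero,
          pow_zero, pow_succ]
        linear_combination (X ^ m * X) * hc⟩ }
  have hone : IsUnit (AdjoinRoot.mk P.f P.g) := by simp [P]
  let e : Localization.Away (AdjoinRoot.mk P.f P.g) ≃ₐ[AdjoinRoot P.f] AdjoinRoot P.f :=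
    (IsLocalization.atUnits _ (Submonoid.powers (AdjoinRoot.mk P.f P.g)) (by
      rintro _ ⟨k, rfl⟩
      exact hone.pow k)).symm
  exact Algebra.Etale.of_equiv (P.equivAwayAdjoinRoot.trans (e.restrictScalars A))

theorem existsUnique_laurent (A : Type u) [CommRing A] (n : ℕ) (hn : 1 ≤ n) (q : A[T;T⁻¹]) :
    ∃! c : Fin n → A[T;T⁻¹],
      q = ∑ i : Fin n, (AddMonoidAlgebra.mapDomainRingHom A (AddMonoidHom.mulLeft (n : ℤ)) :
        A[T;T⁻¹] →+* A[T;T⁻¹]) (c i) * LaurentPolynomial.T (i : ℤ) := by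
  have hn0 : (n : ℤ) ≠ 0 := by positivity
  set u := (AddMonoidAlgebra.mapDomainRingHom A (AddMonoidHom.mulLeft (n : ℤ)) :
    A[T;T⁻¹] →+* A[T;T⁻¹]) with hu
  have hui : ∀ (a : A[T;T⁻¹]) (m : ℤ), (u a).coeff ((n : ℤ) * m) = a.coeff m := fun a m =>
    Finsupp.mapDomain_apply (mul_right_injective₀ hn0) a.coeff m
  have huo : ∀ (a : A[T;T⁻¹]) (m : ℤ), ¬ (n : ℤ) ∣ m → (u a).coeff m = 0 := fun a m hm => by
    exact Finsupp.mapDomain_of_notMem_range (f := fun k : ℤ => (n : ℤ) * k) a.coeff m
      (fun ⟨k, hk⟩ => hm ⟨k, hk.symm⟩)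
  have key : ∀ (c : Fin n → A[T;T⁻¹]) (m : ℤ) (i : Fin n),
      (∑ j : Fin n, u (c j) * LaurentPolynomial.T (j : ℤ)).coeff ((n : ℤ) * m + i) =
        (c i).coeff m := by
    intro c m i
    have : ∀ (j : Fin n) (k : ℤ), (u (c j) * LaurentPolynomial.T (j : ℤ)).coeff k =
        (u (c j)).coeff (k - j) := fun j k => by
      rw [LaurentPolynomial.T]
      simpa [sub_eq_add_neg] using
        AddMonoidAlgebra.coeff_mul_single_apply (u (c j)) (1 : A) (j : ℤ) k
    simp only [AddMonoidAlgebra.coeff_sum, Finset.sum_apply', this]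
    rw [Finset.sum_eq_single i]
    · rw [add_sub_cancel_right, hui]
    · intro j _ hj
      refine huo _ _ fun ⟨k, hk⟩ => hj ?_
      have h1 : (n : ℤ) ∣ (i : ℤ) - j := ⟨k - m, by linarith⟩
      have h2 : (i : ℤ) - j = 0 := by
        apply Int.eq_zero_of_abs_lt_dvd h1
        rw [abs_lt]
        constructor <;> linarith [i.2, j.2, (Int.natCast_nonneg i : (0 : ℤ) ≤ i),
          (Int.natCast_nonneg j : (0 : ℤ) ≤ j), Int.ofNat_lt.mpr i.2, Int.ofNat_lt.mpr j.2]
      exact Fin.ext (by omega)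
    · simp
  refine ⟨fun i => AddMonoidAlgebra.ofCoeff (Finsupp.comapDomain
    (fun m : ℤ => (n : ℤ) * m + i) q.coeff
    (fun a _ b _ h => mul_left_cancel₀ hn0 (add_right_cancel h))), ?_, ?_⟩
  · ext k
    obtain ⟨m, i, rfl⟩ : ∃ m : ℤ, ∃ i : Fin n, k = (n : ℤ) * m + i := by
      refine ⟨k / n, ⟨(k % n).toNat, ?_⟩, ?_⟩
      · have := Int.emod_lt_of_pos k (show (0 : ℤ) < n by positivity)
        omega
      · change k = (n : ℤ) * (k / n) + ((k % n).toNat : ℤ)
        rw [Int.toNat_of_nonneg (Int.emod_nonneg k hn0)]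
        exact (Int.mul_ediv_add_emod k n).symm
    rw [key]
    simp
  · intro c hc
    funext i
    ext m
    rw [← key c m i, ← hc]
    simp

theorem existsUnique_aeval_monic {A : Type u} [CommRing A] {g : A[X]} (hg : g.Monic)
    (hg0 : 1 ≤ g.natDegree) (q : A[X]) :
    ∃! c : Fin g.natDegree → A[X],
      q = ∑ i : Fin g.natDegree, aeval g (c i) * X ^ (i : ℕ) := by
  nontriviality A
  have hlow : ∀ r : A[X], r.degree < g.degree →
      r = ∑ i : Fin g.natDegree, Polynomial.C (r.coeff i) * X ^ (i : ℕ) := fun r hr => by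
    by_cases h0 : r = 0
    · simp [h0]
    rw [Fin.sum_univ_eq_sum_range (fun i => Polynomial.C (r.coeff i) * X ^ i)]
    exact r.as_sum_range_C_mul_X_pow' (natDegree_lt_natDegree h0 hr)
  have hex : ∀ (N : ℕ) (q : A[X]), q.natDegree ≤ N →
      ∃ c : Fin g.natDegree → A[X], q = ∑ i : Fin g.natDegree, aeval g (c i) * X ^ (i : ℕ) := by
    intro N
    induction N using Nat.strong_induction_on with
    | _ N ih =>
      intro q hq
      by_cases hlt : q.natDegree < g.natDegree
      · refine ⟨fun i => Polynomial.C (q.coeff i), ?_⟩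
        simp only [aeval_C]
        refine hlow q (lt_of_le_of_lt degree_le_natDegree ?_)
        rw [degree_eq_natDegree hg.ne_zero]
        exact_mod_cast hlt
      · obtain ⟨c, hc⟩ := ih (N - g.natDegree) (by omega) (q /ₘ g) (by
          rw [natDegree_divByMonic q hg]; omega)
        refine ⟨fun i => Polynomial.C ((q %ₘ g).coeff i) + X * c i, ?_⟩
        simp only [map_add, map_mul, aeval_C, aeval_X, add_mul, mul_assoc, Finset.sum_add_distrib,
          ← Finset.mul_sum]
        rw [← hc, Polynomial.algebraMap_eq, ← hlow _ (degree_modByMonic_lt q hg)]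
        exact (modByMonic_add_div q g).symm
  have hzero : ∀ (N : ℕ) (c : Fin g.natDegree → A[X]), (∀ i, (c i).natDegree ≤ N) →
      ∑ i : Fin g.natDegree, aeval g (c i) * X ^ (i : ℕ) = 0 → ∀ i, c i = 0 := by
    intro N
    induction N with
    | zero =>
      intro c hc h i
      obtain ⟨a, ha⟩ : ∃ a : Fin g.natDegree → A, ∀ i, c i = Polynomial.C (a i) :=
        ⟨fun i => (c i).coeff 0, fun i => eq_C_of_natDegree_le_zero (hc i)⟩
      simp only [ha, aeval_C, Polynomial.algebraMap_eq] at h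
      have := congrArg (fun r => r.coeff (i : ℕ)) h
      simp only [finsetSum_coeff, coeff_C_mul_X_pow, coeff_zero, Fin.val_inj] at this
      rw [Finset.sum_ite_eq Finset.univ i a, if_pos (Finset.mem_univ i)] at this
      rw [ha, this, map_zero]
    | succ N ih =>
      intro c hc h
      have hsplit : ∀ i, c i = Polynomial.C ((c i).coeff 0) + X * (c i).divX := fun i => by
        rw [add_comm]; exact (X_mul_divX_add (c i)).symm
      set r := ∑ i : Fin g.natDegree, Polynomial.C ((c i).coeff 0) * X ^ (i : ℕ) with hr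
      set q' := ∑ i : Fin g.natDegree, aeval g (c i).divX * X ^ (i : ℕ) with hq'
      have heq : r + g * q' = 0 := by
        rw [← h, hr, hq', Finset.mul_sum, ← Finset.sum_add_distrib]
        refine Finset.sum_congr rfl fun i _ => ?_
        conv_rhs => rw [hsplit i]
        simp only [map_add, map_mul, aeval_C, aeval_X, Polynomial.algebraMap_eq]
        ring
      have hdeg : r.degree < g.degree := by
        rw [degree_eq_natDegree hg.ne_zero, hr]
        exact degree_sum_fin_lt _
      have hu := div_modByMonic_unique (f := (0 : A[X])) q' r hg ⟨heq, hdeg⟩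
      rw [zero_divByMonic, zero_modByMonic] at hu
      intro i
      have h1 := ih (fun j => (c j).divX)
        (fun j => (natDegree_divX_eq_natDegree_tsub_one (p := c j)).le.trans (by
          have := hc j; omega)) hu.1.symm
      have h2 := congrArg (fun p => p.coeff (i : ℕ)) hu.2.symm
      simp only [hr, finsetSum_coeff, coeff_C_mul_X_pow, coeff_zero, Fin.val_inj] at h2
      rw [Finset.sum_ite_eq Finset.univ i (fun j => (c j).coeff 0), if_pos (Finset.mem_univ i)] at h2
      rw [hsplit i, h1 i, h2]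
      simp
  obtain ⟨c, hc⟩ := hex _ q le_rfl
  refine ⟨c, hc, fun c' hc' => funext fun i => sub_eq_zero.mp ?_⟩
  refine hzero (Finset.univ.sup fun j => (c' j - c j).natDegree) (fun j => c' j - c j)
    (fun j => Finset.le_sup (f := fun j => (c' j - c j).natDegree) (Finset.mem_univ j)) ?_ i
  simp only [map_sub, sub_mul, Finset.sum_sub_distrib]
  rw [← hc, ← hc', sub_self]

theorem existsUnique_artinSchreier (p : ℕ) [hp : Fact p.Prime] (A : Type u) [CommRing A]
    (q : A[X]) :
    ∃! c : Fin p → A[X], q = ∑ i : Fin p, aeval (X - X ^ p : A[X]) (c i) * X ^ (i : ℕ) := by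
  rcases subsingleton_or_nontrivial A with _ | _
  · exact ⟨fun _ => 0, Subsingleton.elim _ _, fun _ _ => funext fun _ => Subsingleton.elim _ _⟩
  let g : A[X] := X ^ p - X
  have h1 : 1 < p := hp.out.one_lt
  have hg : g.Monic := monic_X_pow_sub (by rw [degree_X]; exact_mod_cast h1)
  have hgd : g.natDegree = p := natDegree_sub_eq_left_of_natDegree_lt (by simp [h1]) |>.trans
    (natDegree_X_pow p)
  obtain ⟨c, hc, huniq⟩ := hgd ▸ existsUnique_aeval_monic hg (by omega) q
  have hneg : ∀ a : A[X], aeval (X - X ^ p : A[X]) (a.comp (-X)) = aeval g a := fun a => by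
    rw [aeval_comp]; simp [g]
  have hneg' : ∀ a : A[X], aeval g (a.comp (-X)) = aeval (X - X ^ p : A[X]) a := fun a => by
    rw [aeval_comp]; simp [g]
  refine ⟨fun i => (c i).comp (-X), ?_, fun d hd => ?_⟩
  · simp only [hneg]; exact hc
  · have := huniq (fun i => (d i).comp (-X)) (by simp only [hneg']; exact hd)
    funext i
    rw [← congrFun this i, comp_assoc]
    simp

end Sga84
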