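import Mathlib

/-! # Faithfully flat descent of submodules -/

set_option autoImplicit false
universe u
open TensorProduct

namespace Sga84

variable (A A' : Type u) [CommRing A] [CommRing A'] [Algebra A A']
  [Module.Flat A A'] (M : Type u) [AddCommGroup M] [Module A M] (N' : Submodule A' (A' ⊗[A] M))

theorem baseChange_comap_eq
    (h : ∀ n ∈ N', (Algebra.TensorProduct.includeLeft : A' →ₐ[A] A' ⊗[A] A').toLinearMap.rTensor M n ∈
      Submodule.span (A' ⊗[A] A')
          ((N'.restrictScalars A).map
            ((Algebra.TensorProduct.includeRight : A' →ₐ[A] A' ⊗[A] A').toLinearMap.rTensor M) :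
            Set ((A' ⊗[A] A') ⊗[A] M))) :
    ((N'.restrictScalars A).comap (TensorProduct.mk A A' M 1)).baseChange A' = N' := by
  set N := (N'.restrictScalars A).comap (TensorProduct.mk A A' M 1) with hN
  refine le_antisymm ?_ fun n hn => ?_
  · rw [Submodule.baseChange_eq_span, Submodule.span_le]
    rintro _ ⟨m, hm, rfl⟩
    exact hm
  let q : M →ₗ[A] (A' ⊗[A] M) ⧸ N'.restrictScalars A :=
    (N'.restrictScalars A).mkQ.comp (TensorProduct.mk A A' M 1)
  have hex : Function.Exact N.subtype q := by
    rw [LinearMap.exact_iff, Submodule.range_subtype, LinearMap.ker_comp, Submodule.ker_mkQ]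
  have hex' : Function.Exact (N.subtype.lTensor A') (q.lTensor A') := Module.Flat.lTensor_exact A' hex
  let π : (A' ⊗[A] A') ⊗[A] M →ₗ[A] A' ⊗[A] ((A' ⊗[A] M) ⧸ N'.restrictScalars A) :=
    ((N'.restrictScalars A).mkQ.lTensor A').comp (TensorProduct.assoc A A' A' M).toLinearMap
  have hright : ∀ (r : A' ⊗[A] A') (x : A' ⊗[A] M), x ∈ N' →
      π (r • (Algebra.TensorProduct.includeRight : A' →ₐ[A] A' ⊗[A] A').toLinearMap.rTensor M x) = 0 := by
    intro r x hx
    induction r with
    | zero => simp
    | add a b ha hb => rw [add_smul, map_add, ha, hb, add_zero]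
    | tmul c d =>
      have : ∀ y : A' ⊗[A] M, π ((c ⊗ₜ[A] d : A' ⊗[A] A') •
          (Algebra.TensorProduct.includeRight : A' →ₐ[A] A' ⊗[A] A').toLinearMap.rTensor M y) =
          c ⊗ₜ (N'.restrictScalars A).mkQ (d • y) := by
        intro y
        induction y with
        | zero => simp
        | tmul b m => simp [π, TensorProduct.smul_tmul']
        | add a b ha hb => simp only [map_add, smul_add, ha, hb, TensorProduct.tmul_add]
      rw [this, (Submodule.Quotient.mk_eq_zero _).mpr (N'.smul_mem d hx) |> fun e =>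
        show (N'.restrictScalars A).mkQ (d • x) = 0 from e, TensorProduct.tmul_zero]
  have hspan : ∀ w ∈ Submodule.span (A' ⊗[A] A') ((N'.restrictScalars A).map
      ((Algebra.TensorProduct.includeRight : A' →ₐ[A] A' ⊗[A] A').toLinearMap.rTensor M) :
      Set ((A' ⊗[A] A') ⊗[A] M)), ∀ r : A' ⊗[A] A', π (r • w) = 0 := by
    intro w hw
    induction hw using Submodule.span_induction with
    | mem x hx =>
      obtain ⟨y, hy, rfl⟩ := hx
      exact fun r => hright r y hy
    | zero => simp
    | add x y _ _ hx hy => intro r; rw [smul_add, map_add, hx, hy, add_zero]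
    | smul a x _ hx => intro r; rw [smul_smul]; exact hx _
  have hπ : ∀ y : A' ⊗[A] M,
      π ((Algebra.TensorProduct.includeLeft : A' →ₐ[A] A' ⊗[A] A').toLinearMap.rTensor M y) =
        q.lTensor A' y := by
    intro y
    induction y with
    | zero => simp
    | tmul b m => simp [π, q]
    | add a b ha hb => simp only [map_add, ha, hb]
  have h0 : q.lTensor A' n = 0 := by
    rw [← hπ, ← one_smul (A' ⊗[A] A') ((Algebra.TensorProduct.includeLeft :
      A' →ₐ[A] A' ⊗[A] A').toLinearMap.rTensor M n)]
    exact hspan _ (h n hn) 1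
  obtain ⟨z, rfl⟩ := (hex' n).mp h0
  clear hn h0
  induction z with
  | zero => simp
  | tmul b m => exact Submodule.tmul_mem_baseChange_of_mem b m.2
  | add a b ha hb =>
    rw [map_add]
    exact Submodule.add_mem _ ha hb

end Sga84
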