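import Groth.Prelude.Def_Pi1X
import Groth.Agent.SpFP87.EtLocInst
import Mathlib

/-! # Etale loci of composites -/

set_option autoImplicit false
universe u
open CategoryTheory AlgebraicGeometry TopologicalSpace

namespace Sga84

theorem map_mem_etaleLocus {X X' Y : Scheme.{u}} (f : X ⟶ X') (g : X' ⟶ Y) (x : X)
    (hf : x ∈ Pi1X.etaleLocus f) (hfg : x ∈ Pi1X.etaleLocus (f ≫ g)) :
    f x ∈ Pi1X.etaleLocus g := by
  obtain ⟨(U : X.Opens), hU, hxU⟩ := Opens.mem_sSup.mp hf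
  obtain ⟨(U' : X.Opens), hU', hxU'⟩ := Opens.mem_sSup.mp hfg
  let V : X.Opens := U ⊓ U'
  have : Etale (U.ι ≫ f) := hU
  have : Etale (U'.ι ≫ f ≫ g) := hU'
  have h1 : Etale (V.ι ≫ f) := by
    rw [← X.homOfLE_ι (inf_le_left : V ≤ U), Category.assoc]; infer_instance
  have h2 : Etale (V.ι ≫ f ≫ g) := by
    rw [← X.homOfLE_ι (inf_le_right : V ≤ U'), Category.assoc]; infer_instance
  let W : X'.Opens := ⟨Set.range (V.ι ≫ f), (V.ι ≫ f).isOpenMap.isOpen_range⟩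
  let c : V.toScheme ⟶ W.toScheme := IsOpenImmersion.lift W.ι (V.ι ≫ f) (by
    rw [Scheme.Opens.range_ι]; exact le_rfl)
  have hc : c ≫ W.ι = V.ι ≫ f := IsOpenImmersion.lift_fac _ _ _
  have : Etale (c ≫ W.ι) := hc.symm ▸ h1
  have hec : Etale c := Etale.of_comp c W.ι
  have hcs : Surjective c := ⟨by
    rintro ⟨w, v, rfl⟩
    refine ⟨v, W.ι.isOpenEmbedding.injective ?_⟩
    rw [← Scheme.Hom.comp_apply, hc]; rfl⟩
  have h3 : Etale (c ≫ W.ι ≫ g) := by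
    rw [← Category.assoc, hc, Category.assoc]; exact h2
  exact Opens.mem_sSup.mpr ⟨W, Groth.Agent.SpFP87.EtLoc.of_cover (P := @Etale) c _ hec hcs h3,
    ⟨⟨x, hxU, hxU'⟩, rfl⟩⟩

end Sga84
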