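import Mathlib.RingTheory.Smooth.Locus
import Mathlib.RingTheory.Smooth.Kaehler
import Mathlib.RingTheory.Smooth.Basic
import Mathlib.RingTheory.Etale.Kaehler
import Mathlib.RingTheory.LocalRing.ResidueField.Ideal
import Mathlib.RingTheory.Kaehler.TensorProduct
import Mathlib.RingTheory.Flat.LocallyFree

/-! # Smoothness of a hypersurface in a smooth algebra -/

set_option autoImplicit false
universe u
open TensorProduct IsLocalRing

namespace Groth.Agent.Hypersurface84

/-- Formal smoothness of a quotient of a local formally smooth algebra by one element. -/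
theorem formallySmooth_iff (R L S : Type u) [CommRing R] [CommRing L] [IsLocalRing L] [CommRing S]
    [Algebra R L] [Algebra.FormallySmooth R L] [Algebra.EssFiniteType R L] [Algebra R S] [Algebra L S]
    [IsScalarTower R L S] [Nontrivial S] (hs : Function.Surjective (algebraMap L S))
    (F : L) (hker : RingHom.ker (algebraMap L S) = Ideal.span {F}) :
    Algebra.FormallySmooth R S ↔
      F = 0 ∨ (1 : ResidueField L) ⊗ₜ[L] KaehlerDifferential.D R L F ≠ 0 := by
  have : Module.Free L Ω[L⁄R] := Module.free_of_flat_of_isLocalRing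
  let b := Module.Free.chooseBasis L Ω[L⁄R]
  have hFk : F ∈ RingHom.ker (algebraMap L S) := hker.symm ▸ Ideal.mem_span_singleton_self F
  have hFm : F ∈ maximalIdeal L := le_maximalIdeal (RingHom.ker_ne_top _) hFk
  have hcrit : (1 : ResidueField L) ⊗ₜ[L] KaehlerDifferential.D R L F = 0 ↔
      ∀ i, b.repr (KaehlerDifferential.D R L F) i ∈ maximalIdeal L := by
    rw [← (b.baseChange (ResidueField L)).repr.map_eq_zero_iff, Finsupp.ext_iff]
    refine forall_congr' fun i => ?_
    rw [Module.Basis.baseChange_repr_tmul, Finsupp.zero_apply, ← Algebra.algebraMap_eq_smul_one,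
      ResidueField.algebraMap_eq, residue_eq_zero_iff]
  let c0 : (RingHom.ker (algebraMap L S)).Cotangent := Ideal.toCotangent _ ⟨F, hFk⟩
  have hgen : ∀ c, ∃ a : L, c = a • c0 := fun c => by
    obtain ⟨⟨x, hx⟩, rfl⟩ := Ideal.toCotangent_surjective _ c
    rw [hker, Ideal.mem_span_singleton'] at hx
    obtain ⟨a, rfl⟩ := hx
    exact ⟨a, by rw [← map_smul]; rfl⟩
  rw [Algebra.FormallySmooth.iff_split_injection hs]
  constructor
  · rintro ⟨l, hl⟩
    refine or_iff_not_imp_right.mpr fun h => ?_
    rw [not_not, hcrit] at h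
    have hc : c0 ∈ maximalIdeal L • (⊤ : Submodule L (RingHom.ker (algebraMap L S)).Cotangent) := by
      have hl0 := (LinearMap.congr_fun hl c0).trans (LinearMap.id_apply c0)
      rw [← hl0, LinearMap.comp_apply, KaehlerDifferential.kerCotangentToTensor_toCotangent,
        ← b.linearCombination_repr (KaehlerDifferential.D R L F), Finsupp.linearCombination_apply, Finsupp.sum,
        TensorProduct.tmul_sum, map_sum]
      refine Submodule.sum_mem _ fun i _ => ?_
      rw [TensorProduct.tmul_smul, map_smul]
      exact Submodule.smul_mem_smul (h i) Submodule.mem_top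
    have htop : (⊤ : Submodule L (RingHom.ker (algebraMap L S)).Cotangent) = Submodule.span L {c0} := by
      refine le_antisymm (fun c _ => ?_) le_top
      obtain ⟨a, rfl⟩ := hgen c
      exact Submodule.smul_mem _ a (Submodule.mem_span_singleton_self c0)
    rw [htop, Submodule.mem_smul_span_singleton] at hc
    obtain ⟨a, ha, hac⟩ := hc
    have hu : IsUnit (1 - a) := isUnit_one_sub_self_of_mem_nonunits a ha
    have h0 : c0 = 0 := by
      rw [← hu.smul_eq_zero, sub_smul, one_smul, hac, sub_self]
    rw [Ideal.toCotangent_eq_zero] at h0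
    replace h0 : F ∈ RingHom.ker (algebraMap L S) ^ 2 := h0
    rw [hker, Ideal.span_singleton_pow, Ideal.mem_span_singleton'] at h0
    obtain ⟨d, hd⟩ := h0
    have hu' : IsUnit (1 - d * F) := isUnit_one_sub_self_of_mem_nonunits _ (Ideal.mul_mem_left _ d hFm)
    refine (hu'.mul_right_eq_zero).mp ?_
    rw [sub_mul, one_mul, mul_assoc, ← pow_two, hd, sub_self]
  · rintro (rfl | h)
    · have h0 : ∀ c : (RingHom.ker (algebraMap L S)).Cotangent, c = 0 := fun c => by
        obtain ⟨a, rfl⟩ := hgen c
        rw [show c0 = 0 from map_zero (Ideal.toCotangent _), smul_zero]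
      exact ⟨0, LinearMap.ext fun c => (h0 _).trans (h0 _).symm⟩
    · rw [ne_eq, hcrit, not_forall] at h
      obtain ⟨i, hi⟩ := h
      obtain ⟨u, hu⟩ := notMem_maximalIdeal.mp hi
      let ψ : Ω[L⁄R] →ₗ[L] L := (↑u⁻¹ : L) • b.coord i
      have hψ : ψ (KaehlerDifferential.D R L F) = 1 := by
        rw [LinearMap.smul_apply, Module.Basis.coord_apply, ← hu, smul_eq_mul, Units.inv_mul]
      let μ : S →ₗ[L] (RingHom.ker (algebraMap L S)).Cotangent :=
        (Submodule.liftQ (LinearMap.ker (Algebra.linearMap L S)) (LinearMap.toSpanSingleton L _ c0) (fun x hx => by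
          replace hx : x ∈ RingHom.ker (algebraMap L S) := hx
          rw [hker, Ideal.mem_span_singleton'] at hx
          obtain ⟨a, rfl⟩ := hx
          rw [LinearMap.mem_ker, LinearMap.toSpanSingleton_apply, mul_smul,
            ← map_smul _ F, show F • (⟨F, hFk⟩ : RingHom.ker (algebraMap L S)) = ⟨F * F, Ideal.mul_mem_left _ _ hFk⟩ from rfl,
            show Ideal.toCotangent _ ⟨F * F, Ideal.mul_mem_left _ _ hFk⟩ = 0 from (Ideal.toCotangent_eq_zero _ _).mpr (by
              rw [pow_two]; exact Ideal.mul_mem_mul hFk hFk), smul_zero])) ∘ₗ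
          ((Algebra.linearMap L S).quotKerEquivOfSurjective hs).symm.toLinearMap
      have hμ : ∀ a, μ (algebraMap L S a) = a • c0 := fun a => by
        have : ((Algebra.linearMap L S).quotKerEquivOfSurjective hs).symm (algebraMap L S a) = Submodule.Quotient.mk a := by
          rw [LinearEquiv.symm_apply_eq]
          rfl
        simp only [μ, LinearMap.comp_apply, LinearEquiv.coe_coe, this]
        rfl
      refine ⟨μ ∘ₗ (TensorProduct.rid L S).toLinearMap ∘ₗ ψ.lTensor S, LinearMap.ext fun c => ?_⟩
      obtain ⟨a, rfl⟩ := hgen c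
      simp only [map_smul, LinearMap.comp_apply, LinearMap.id_apply, c0,
        KaehlerDifferential.kerCotangentToTensor_toCotangent, LinearMap.lTensor_tmul, hψ,
        LinearEquiv.coe_coe, TensorProduct.rid_tmul, one_smul]
      rw [← map_one (algebraMap L S), hμ, one_smul]

end Groth.Agent.Hypersurface84
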