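import Mathlib.RingTheory.Invariant.Basic
import Mathlib.RingTheory.Filtration
import Mathlib.RingTheory.Localization.AtPrime.Basic
import Mathlib.RingTheory.Localization.Submodule
import Mathlib.RingTheory.Ideal.Over
import Mathlib.RingTheory.Ideal.GoingUp
import Mathlib.Algebra.Ring.Action.Invariant

/-! Powers of a prime of `R` and of its trace on the invariant ring of a finite group. -/

set_option autoImplicit false
universe u
open scoped Pointwise

namespace Groth.Agent.Sga84

/-- If `Q` is minimal over `J`, a high power of `Q` lands in `J` locally at `Q`. -/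
theorem exists_pow_mem_locally {R : Type*} [CommRing R] [IsNoetherianRing R] (J Q : Ideal R)
    [Q.IsPrime] (hmin : ∀ P : Ideal R, P.IsPrime → J ≤ P → P ≤ Q → P = Q) :
    ∃ N : ℕ, ∀ x ∈ Q ^ N, ∃ u, u ∉ Q ∧ u * x ∈ J := by
  let L := Localization.AtPrime Q
  let J' := J.map (algebraMap R L)
  have hrad : IsLocalRing.maximalIdeal L ≤ J'.radical := by
    rw [Ideal.radical_eq_sInf]
    refine le_sInf fun P ⟨hJP, hP⟩ => ?_
    have hPQ : P.comap (algebraMap R L) = Q := by
      refine hmin _ (Ideal.comap_isPrime _ _) (Ideal.map_le_iff_le_comap.mp hJP) ?_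
      conv_rhs => rw [← IsLocalization.AtPrime.under_maximalIdeal L Q]
      exact Ideal.comap_mono (IsLocalRing.le_maximalIdeal hP.ne_top)
    rw [← Localization.AtPrime.map_eq_maximalIdeal]
    exact Ideal.map_le_iff_le_comap.mpr hPQ.ge
  have : IsNoetherianRing L := IsLocalization.isNoetherianRing Q.primeCompl L ‹_›
  obtain ⟨N, hN⟩ := Ideal.exists_radical_pow_le_of_fg J' (IsNoetherian.noetherian _)
  refine ⟨N, fun x hx => ?_⟩
  have hxL : algebraMap R L x ∈ J' := by
    apply hN
    refine Ideal.pow_right_mono hrad N ?_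
    rw [← Localization.AtPrime.map_eq_maximalIdeal, ← Ideal.map_pow]
    exact Ideal.mem_map_of_mem _ hx
  obtain ⟨v, hv, hvx⟩ := (IsLocalization.algebraMap_mem_map_algebraMap_iff Q.primeCompl L _ _).mp hxL
  exact ⟨v, hv, hvx⟩

/-- An invariant element lying deep in `q` lies deep in `q ∩ R^G`, locally at that prime. -/
theorem exists_pow_invariants (G : Type*) {R : Type*} [Group G] [Finite G] [CommRing R]
    [MulSemiringAction G R] [IsNoetherianRing (FixedPoints.subring R G)]
    [Module.Finite (FixedPoints.subring R G) R] (q : Ideal R) [q.IsPrime] (n : ℕ) :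
    ∃ N : ℕ, ∀ x : FixedPoints.subring R G, (∃ u, u ∉ q ∧ u * (x : R) ∈ q ^ N) →
      ∃ s : FixedPoints.subring R G, (s : R) ∉ q ∧
        s * x ∈ (q.comap (FixedPoints.subring R G).subtype) ^ n := by
  classical
  let B := FixedPoints.subring R G
  have : Algebra.IsInvariant B R G := ⟨fun r hr => ⟨⟨r, hr⟩, rfl⟩⟩
  have : SMulCommClass G B R := ⟨fun g b r => by
    show g • ((b : R) * r) = (b : R) * g • r
    rw [smul_mul', b.2 g]⟩
  have : Algebra.IsIntegral B R := Algebra.IsIntegral.of_finite B R
  have : IsNoetherianRing R := IsNoetherianRing.of_finite B R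
  let p := q.under B
  -- Artin-Rees
  obtain ⟨k, hk⟩ := Ideal.exists_pow_inf_eq_pow_smul p (LinearMap.range (Algebra.linearMap B R))
  have hAR : ∀ x : B, (x : R) ∈ (p ^ (n + k)).map (algebraMap B R) → x ∈ p ^ n := by
    intro x hx
    have h1 : (x : R) ∈ p ^ (n + k) • (⊤ : Submodule B R) := by
      rw [Ideal.smul_top_eq_map]; exact hx
    have h2 : (x : R) ∈ p ^ n • LinearMap.range (Algebra.linearMap B R) := by
      have h3 := hk (n + k) (by omega)
      rw [Nat.add_sub_cancel] at h3
      have h4 : (x : R) ∈ p ^ (n + k) • (⊤ : Submodule B R) ⊓ LinearMap.range (Algebra.linearMap B R) :=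
        ⟨h1, ⟨x, rfl⟩⟩
      rw [h3] at h4
      exact Submodule.smul_mono le_rfl inf_le_right h4
    rw [LinearMap.range_eq_map, ← Submodule.map_smul''] at h2
    obtain ⟨z, hz, hzx⟩ := h2
    have hzx' : z = x := Subtype.ext hzx
    simpa [hzx'] using hz
  let J := (p ^ (n + k)).map (algebraMap B R)
  -- all conjugates
  have hloc : ∀ g : G, ∃ N : ℕ, ∀ x ∈ (g • q) ^ N, ∃ u, u ∉ g • q ∧ u * x ∈ J := by
    intro g
    refine exists_pow_mem_locally J (g • q) fun P hP hJP hPQ => ?_
    have hgq : (g • q).under B = p := Ideal.under_smul B q g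
    have h1 : P.under B = p := by
      refine le_antisymm (hgq ▸ Ideal.comap_mono hPQ) fun b hb => ?_
      exact hP.mem_of_pow_mem (n + k) (by
        rw [← map_pow]; exact hJP (Ideal.mem_map_of_mem _ (Ideal.pow_mem_pow hb _)))
    by_contra hne
    have h2 := Ideal.IsIntegral.comap_lt_comap (R := B) (lt_of_le_of_ne hPQ hne)
    change P.under B < (g • q).under B at h2
    rw [h1, hgq] at h2
    exact lt_irrefl _ h2
  choose Nf hNf using hloc
  have := Fintype.ofFinite G
  refine ⟨Finset.univ.sup Nf, fun x ⟨u, hu, hux⟩ => ?_⟩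
  let I : Ideal R := Submodule.comap (LinearMap.mulRight R (x : R)) J
  by_contra hcon
  push Not at hcon
  have hI : I.comap (algebraMap B R) ≤ p := by
    intro s hs
    by_contra hsp
    exact hcon s hsp (hAR (s * x) hs)
  obtain ⟨Q, hIQ, hQ, hQp⟩ := Ideal.exists_ideal_over_prime_of_isIntegral p I hI
  obtain ⟨g, hg⟩ := Algebra.IsInvariant.exists_smul_of_under_eq B R G q Q hQp.symm
  subst hg
  obtain ⟨v, hv, hvx⟩ := hNf g ((g • u) * (x : R)) (by
    refine Ideal.pow_le_pow_right (Finset.le_sup (Finset.mem_univ g)) ?_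
    have : g • (u * (x : R)) ∈ g • q ^ Finset.univ.sup Nf := Ideal.smul_mem_pointwise_smul_iff.mpr hux
    rwa [smul_mul', x.2 g, smul_pow'] at this)
  have hvI : v * (g • u) ∈ I := by
    show v * (g • u) * (x : R) ∈ J
    rwa [mul_assoc]
  rcases hQ.mem_or_mem (hIQ hvI) with h | h
  · exact hv h
  · exact hu (Ideal.smul_mem_pointwise_smul_iff.mp h)

end Groth.Agent.Sga84
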